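import Cfsg.Agent.OddHalf.D9.EEight.Model
import Cfsg.Agent.OddHalf.D9.EEight.Facts

-- merged: Cfsg.Agent.OddHalf.D9.EEight.FrameBase
section

/-!
# Frames of 8 orthogonal roots in the `E₈` lattice (helper528)

`Frame a`: the roots `a 0, …, a 7` are pairwise orthogonal. `two_smul`: `2 x = ∑ (x, a i) a i`. The code of a frame
(the parity vectors of `x ↦ (x, a i)`) is self-dual (`mem_code_iff`) with weights divisible by 4.
`exists_map`: frames with the same code are conjugate under `W`.
-/

set_option autoImplicit false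

namespace Cfsg.Agent.OddHalf.D9.EEight.FrameBase

open Matrix Cfsg.Agent.OddHalf.D9.EEight

/-- The inverse Gram matrix. -/
def GI : Matrix (Fin 8) (Fin 8) ℤ :=
  !![4, 5, 7, 10, 8, 6, 4, 2;
     5, 8, 10, 15, 12, 9, 6, 3;
     7, 10, 14, 20, 16, 12, 8, 4;
     10, 15, 20, 30, 24, 18, 12, 6;
     8, 12, 16, 24, 20, 15, 10, 5;
     6, 9, 12, 18, 15, 12, 8, 4;
     4, 6, 8, 12, 10, 8, 6, 3;
     2, 3, 4, 6, 5, 4, 3, 2]

theorem GI_mul : GI * GM = 1 := by decide +kernel

/-- half of the Gram matrix -/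
def GU : Matrix (Fin 8) (Fin 8) ℤ :=
  !![1, 0, -1, 0, 0, 0, 0, 0;
     0, 1, 0, -1, 0, 0, 0, 0;
     0, 0, 1, -1, 0, 0, 0, 0;
     0, 0, 0, 1, -1, 0, 0, 0;
     0, 0, 0, 0, 1, -1, 0, 0;
     0, 0, 0, 0, 0, 1, -1, 0;
     0, 0, 0, 0, 0, 0, 1, -1;
     0, 0, 0, 0, 0, 0, 0, 1]

theorem GU_add : GU + GUᵀ = GM := by decide +kernel

/-- The lattice is even. -/
theorem even_form (x : Lat) : Even (form x x) := by
  refine ⟨x ⬝ᵥ (GU *ᵥ x), ?_⟩
  unfold form
  rw [← GU_add, add_mulVec, dotProduct_add]
  congr 1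
  rw [dotProduct_mulVec, dotProduct_comm, ← mulVec_transpose, transpose_transpose]

/-- The lattice is unimodular. -/
theorem exists_half {u : Lat} (h : ∀ x : Lat, Even (form u x)) : ∃ y : Lat, u = (2 : ℤ) • y := by
  have h1 : ∀ i, ∃ v : ℤ, (GM *ᵥ u) i = 2 * v := by
    intro i
    obtain ⟨v, hv⟩ := h (Pi.single i 1)
    refine ⟨v, ?_⟩
    rw [form_comm] at hv
    have h2 : form (Pi.single i 1) u = (GM *ᵥ u) i := by
      unfold form
      rw [single_dotProduct, one_mul]
    rw [← h2, hv]; ring
  choose v hv using h1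
  refine ⟨GI *ᵥ v, ?_⟩
  have h3 : GM *ᵥ u = (2 : ℤ) • v := by
    funext i
    rw [hv i]; rfl
  calc u = (GI * GM) *ᵥ u := by rw [GI_mul, one_mulVec]
    _ = GI *ᵥ (GM *ᵥ u) := by rw [mulVec_mulVec]
    _ = (2 : ℤ) • (GI *ᵥ v) := by rw [h3, mulVec_smul]

/-- 8 pairwise orthogonal roots -/
structure Frame (a : Fin 8 → Lat) : Prop where
  root : ∀ i, form (a i) (a i) = 2
  orth : ∀ i j, i ≠ j → form (a i) (a j) = 0

theorem Frame.comp {a : Fin 8 → Lat} (ha : Frame a) (π : Equiv.Perm (Fin 8)) :
    Frame (fun i => a (π i)) where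
  root _ := ha.root _
  orth _ _ h := ha.orth _ _ fun h' => h (π.injective h')

theorem Frame.map {a : Fin 8 → Lat} (ha : Frame a) (w : W) : Frame (fun i => ap w (a i)) where
  root i := by rw [form_ap]; exact ha.root i
  orth i j h := by rw [form_ap]; exact ha.orth i j h

theorem form_sum_left {ι : Type*} (s : Finset ι) (f : ι → Lat) (y : Lat) :
    form (∑ i ∈ s, f i) y = ∑ i ∈ s, form (f i) y := by
  classical
  induction s using Finset.induction_on with
  | empty => simp [form]
  | insert i s hi ih => rw [Finset.sum_insert hi, Finset.sum_insert hi, form_add_left, ih]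

theorem form_sum_right {ι : Type*} (s : Finset ι) (f : ι → Lat) (y : Lat) :
    form y (∑ i ∈ s, f i) = ∑ i ∈ s, form y (f i) := by
  rw [form_comm, form_sum_left]
  exact Finset.sum_congr rfl fun i _ => form_comm _ _

theorem Frame.form_sum {a : Fin 8 → Lat} (ha : Frame a) (c : Fin 8 → ℤ) (j : Fin 8) :
    form (∑ i, c i • a i) (a j) = 2 * c j := by
  rw [form_sum_left, Finset.sum_eq_single j]
  · rw [form_smul_left, ha.root]; ring
  · intro i _ hi
    rw [form_smul_left, ha.orth i j hi, mul_zero]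
  · intro h; exact absurd (Finset.mem_univ j) h

/-- `2 x = ∑ (x, a i) a i` -/
theorem Frame.two_smul {a : Fin 8 → Lat} (ha : Frame a) (x : Lat) :
    (2 : ℤ) • x = ∑ i, form x (a i) • a i := by
  let A : Matrix (Fin 8) (Fin 8) ℤ := Matrix.of a
  have h1 : A * GM * Aᵀ = (2 : ℤ) • (1 : Matrix (Fin 8) (Fin 8) ℤ) := by
    ext i j
    have e : (A * GM * Aᵀ) i j = form (a i) (a j) := by
      rw [mul_apply]
      unfold form
      rw [dotProduct_mulVec]
      rfl
    rw [e, Matrix.smul_apply, one_apply]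
    split_ifs with hij
    · rw [hij, ha.root]; rfl
    · rw [ha.orth i j hij]; rfl
  have h2 : Aᵀ * (A * GM) = (2 : ℤ) • (1 : Matrix (Fin 8) (Fin 8) ℤ) := by
    have hinj : Function.Injective (fun M : Matrix (Fin 8) (Fin 8) ℤ => M.map (Int.castRingHom ℚ)) :=
      Matrix.map_injective (Int.cast_injective (α := ℚ))
    apply hinj
    have h3 := congrArg (fun M : Matrix (Fin 8) (Fin 8) ℤ => M.map (Int.castRingHom ℚ)) h1
    simp only [Matrix.map_mul] at h3 ⊢
    have e : ((2 : ℤ) • (1 : Matrix (Fin 8) (Fin 8) ℤ)).map (Int.castRingHom ℚ) =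
        (2 : ℚ) • (1 : Matrix (Fin 8) (Fin 8) ℚ) := by
      ext i j
      rw [map_apply, Matrix.smul_apply, Matrix.smul_apply, one_apply, one_apply]
      split_ifs <;> simp
    rw [e] at h3 ⊢
    have h4 : ((1 / 2 : ℚ) • (A.map (Int.castRingHom ℚ) * GM.map (Int.castRingHom ℚ))) *
        Aᵀ.map (Int.castRingHom ℚ) = 1 := by
      rw [smul_mul_assoc, h3, smul_smul]; norm_num
    have h5 := mul_eq_one_comm.1 h4
    rw [mul_smul_comm] at h5
    have h6 := congrArg (fun M => (2 : ℚ) • M) h5
    simp only [smul_smul] at h6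
    norm_num at h6
    exact h6
  have h3 : Aᵀ *ᵥ (A *ᵥ (GM *ᵥ x)) = (2 : ℤ) • x := by
    rw [mulVec_mulVec, mulVec_mulVec, Matrix.mul_assoc, h2, smul_mulVec, one_mulVec]
  rw [← h3]
  have h4 : A *ᵥ (GM *ᵥ x) = fun i => form x (a i) := by
    funext i
    rw [form_comm]; rfl
  rw [h4]
  funext k
  rw [Finset.sum_apply]
  show ∑ i, (Aᵀ k i) * form x (a i) = ∑ i, (form x (a i) • a i) k
  refine Finset.sum_congr rfl fun i _ => ?_
  show a i k * form x (a i) = form x (a i) * a i k
  ring

theorem two_smul_inj {x y : Lat} (h : (2 : ℤ) • x = (2 : ℤ) • y) : x = y := by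
  funext i
  have h1 := congrFun h i
  have h2 : 2 * x i = 2 * y i := h1
  omega

/-- vectors with the same products with a frame are equal -/
theorem Frame.ext {a : Fin 8 → Lat} (ha : Frame a) {x y : Lat}
    (h : ∀ i, form x (a i) = form y (a i)) : x = y := by
  apply two_smul_inj
  rw [ha.two_smul, ha.two_smul]
  exact Finset.sum_congr rfl fun i _ => by rw [h i]

theorem Frame.sum_form {a : Fin 8 → Lat} (ha : Frame a) (x y : Lat) :
    ∑ i, form x (a i) * form y (a i) = 2 * form x y := by
  rw [← form_smul_left, ha.two_smul, form_sum_left]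
  exact Finset.sum_congr rfl fun i _ => by rw [form_smul_left, form_comm y]

/-- a vector with prescribed products -/
theorem Frame.exists_of_orth {a : Fin 8 → Lat} (ha : Frame a) (c : Fin 8 → ℤ)
    (h : ∀ x, Even (∑ i, c i * form x (a i))) : ∃ y, ∀ i, form y (a i) = c i := by
  obtain ⟨y, hy⟩ := exists_half (u := ∑ i, c i • a i) (by
    intro x
    rw [form_sum_left]
    have e : ∑ i, form (c i • a i) x = ∑ i, c i * form x (a i) :=
      Finset.sum_congr rfl fun i _ => by rw [form_smul_left, form_comm x]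
    rw [e]; exact h x)
  refine ⟨y, fun i => ?_⟩
  have h1 := ha.form_sum c i
  rw [hy, form_smul_left] at h1
  omega

/-! ### Isometries from frames -/

/-- An isometric linear map gives an element of `W`. -/
def ofIso (A : Matrix (Fin 8) (Fin 8) ℤ) (hA : Aᵀ * GM * A = GM) : W :=
  ⟨⟨A, GI * (Aᵀ * GM), by
      rw [mul_eq_one_comm, Matrix.mul_assoc, Matrix.mul_assoc, ← Matrix.mul_assoc Aᵀ, hA, GI_mul],
    by rw [Matrix.mul_assoc, Matrix.mul_assoc, ← Matrix.mul_assoc Aᵀ, hA, GI_mul]⟩, hA⟩

theorem exists_iso (h : Lat →ₗ[ℤ] Lat) (hh : ∀ x y, form (h x) (h y) = form x y) :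
    ∃ w : W, ∀ x, ap w x = h x := by
  refine ⟨ofIso (LinearMap.toMatrix' h) ?_, fun x => ?_⟩
  · apply matrix_ext_form
    intro x y
    have := hh x y
    unfold form at this
    rw [← this, ← mulVec_mulVec, ← mulVec_mulVec, dotProduct_mulVec x, vecMul_transpose]
    simp [LinearMap.toMatrix'_mulVec]
  · show LinearMap.toMatrix' h *ᵥ x = h x
    simp [LinearMap.toMatrix'_mulVec]

/-- **Frames with the same code are conjugate.** -/
theorem exists_map {a b : Fin 8 → Lat} (ha : Frame a) (hb : Frame b)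
    (hc : ∀ x, ∃ y, ∀ i, Even (form x (a i) - form y (b i))) : ∃ w : W, ∀ i, ap w (a i) = b i := by
  have key : ∀ x, ∃ z : Lat, (2 : ℤ) • z = ∑ i, form x (a i) • b i := by
    intro x
    obtain ⟨y, hy⟩ := hc x
    choose c hc using hy
    refine ⟨y + ∑ i, c i • b i, ?_⟩
    rw [smul_add, hb.two_smul y, Finset.smul_sum, ← Finset.sum_add_distrib]
    refine Finset.sum_congr rfl fun i _ => ?_
    rw [smul_smul, ← add_smul]
    congr 1
    have := hc i
    omega
  choose h hh using key
  have hadd : ∀ x y, h (x + y) = h x + h y := by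
    intro x y
    apply two_smul_inj
    rw [smul_add, hh, hh, hh, ← Finset.sum_add_distrib]
    exact Finset.sum_congr rfl fun i _ => by rw [form_add_left, add_smul]
  have hsmul : ∀ (n : ℤ) x, h (n • x) = n • h x := by
    intro n x
    apply two_smul_inj
    rw [hh, smul_comm, hh, Finset.smul_sum]
    exact Finset.sum_congr rfl fun i _ => by rw [form_smul_left, smul_smul]
  obtain ⟨w, hw⟩ := exists_iso { toFun := h, map_add' := hadd, map_smul' := hsmul } (by
    intro x y
    show form (h x) (h y) = form x y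
    have h1 : form ((2 : ℤ) • h x) ((2 : ℤ) • h y) = 4 * form (h x) (h y) := by
      rw [form_smul_left, form_smul_right]; ring
    have h2 : form ((2 : ℤ) • h x) ((2 : ℤ) • h y) = 4 * form x y := by
      rw [hh x, hh y, form_sum_right]
      have e : ∀ j, form (∑ i, form x (a i) • b i) (form y (a j) • b j) =
          2 * (form x (a j) * form y (a j)) := by
        intro j
        rw [form_smul_right, hb.form_sum]; ring
      rw [Finset.sum_congr rfl fun j _ => e j, ← Finset.mul_sum, ha.sum_form]; ring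
    omega)
  refine ⟨w, fun i => ?_⟩
  rw [hw]
  show h (a i) = b i
  apply two_smul_inj
  rw [hh, Finset.sum_eq_single i]
  · rw [ha.root]
  · intro j _ hj
    rw [ha.orth i j (Ne.symm hj), zero_smul]
  · intro h; exact absurd (Finset.mem_univ i) h

end Cfsg.Agent.OddHalf.D9.EEight.FrameBase

end

-- merged: Cfsg.Agent.OddHalf.D9.EEight.FrameHom
section

/-!
# The sign changes along a frame (helper528)

`dh ha : Sg →* W` for `ha : Frame a`; `sgn a x`: the parity vector of `x`; `Lab a`: the parity vectors are exactly the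
words of the Hamming code. `isFr`: `IsFr det neg IsRefl (dh ha)` for a labelled frame.
-/

set_option autoImplicit false

namespace Cfsg.Agent.OddHalf.D9.EEight.FrameHom

open Matrix Cfsg.Agent.OddHalf.D9.EEight Cfsg.Agent.OddHalf.D9.EEight.FrameBase

variable {a : Fin 8 → Lat}

/-- The sign change as a function. -/
def dfun (a : Fin 8 → Lat) (ε : Sg) (x : Lat) : Lat :=
  x - ∑ i, (if ε i = -1 then form x (a i) else 0) • a i

theorem form_dfun (ha : Frame a) (ε : Sg) (x : Lat) (j : Fin 8) :
    form (dfun a ε x) (a j) = (ε j : ℤ) * form x (a j) := by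
  unfold dfun
  rw [form_sub_left, ha.form_sum]
  rcases Int.units_eq_one_or (ε j) with h | h
  · rw [h, if_neg (by decide)]; simp
  · rw [h, if_pos rfl]
    push_cast; ring

theorem exists_dW (ha : Frame a) (ε : Sg) : ∃ w : W, ∀ x, ap w x = dfun a ε x := by
  obtain ⟨w, hw⟩ := exists_iso
    { toFun := dfun a ε
      map_add' := fun x y => by
        apply ha.ext
        intro i
        rw [form_dfun ha, form_add_left, form_add_left, form_dfun ha, form_dfun ha]; ring
      map_smul' := fun n x => by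
        apply ha.ext
        intro i
        rw [form_dfun ha, form_smul_left, RingHom.id_apply, form_smul_left, form_dfun ha]; ring } (by
    intro x y
    show form (dfun a ε x) (dfun a ε y) = form x y
    have h1 := ha.sum_form (dfun a ε x) (dfun a ε y)
    have h2 := ha.sum_form x y
    have h3 : ∑ i, form (dfun a ε x) (a i) * form (dfun a ε y) (a i) =
        ∑ i, form x (a i) * form y (a i) := by
      refine Finset.sum_congr rfl fun i _ => ?_
      rw [form_dfun ha, form_dfun ha]
      rcases Int.units_eq_one_or (ε i) with h | h <;> rw [h] <;> push_cast <;> ring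
    omega)
  exact ⟨w, hw⟩

/-- the element of `W` -/
noncomputable def dW (ha : Frame a) (ε : Sg) : W := (exists_dW ha ε).choose

theorem ap_dW (ha : Frame a) (ε : Sg) (x : Lat) : ap (dW ha ε) x = dfun a ε x :=
  (exists_dW ha ε).choose_spec x

theorem form_dW (ha : Frame a) (ε : Sg) (x : Lat) (j : Fin 8) :
    form (ap (dW ha ε) x) (a j) = (ε j : ℤ) * form x (a j) := by
  rw [ap_dW, form_dfun ha]

/-- **The sign changes along a frame.** -/
noncomputable def dh (ha : Frame a) : Sg →* W where
  toFun := dW ha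
  map_one' := by
    apply ext_ap
    intro x
    apply ha.ext
    intro i
    rw [form_dW, ap_one, Pi.one_apply]; simp
  map_mul' ε η := by
    apply ext_ap
    intro x
    apply ha.ext
    intro i
    rw [form_dW, ap_mul, form_dW, form_dW, Pi.mul_apply]
    push_cast; ring

theorem form_dh (ha : Frame a) (ε : Sg) (x : Lat) (j : Fin 8) :
    form (ap (dh ha ε) x) (a j) = (ε j : ℤ) * form x (a j) := form_dW ha ε x j

theorem unit_mul_self (s : ℤˣ) : (s : ℤ) * s = 1 := by
  rcases Int.units_eq_one_or s with h | h <;> rw [h] <;> rfl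

theorem smul_unit_smul (s : ℤˣ) (x : Lat) : (s : ℤ) • ((s : ℤ) • x) = x := by
  rw [smul_smul, unit_mul_self, one_smul]

theorem ap_dh (ha : Frame a) (ε : Sg) (j : Fin 8) : ap (dh ha ε) (a j) = (ε j : ℤ) • a j := by
  apply ha.ext
  intro i
  rw [form_dh, form_smul_left]
  by_cases h : j = i
  · rw [h]
  · rw [ha.orth j i h, mul_zero, mul_zero]

/-- uniqueness -/
theorem eq_dh (ha : Frame a) {w : W} {ε : Sg} (h : ∀ j, ap w (a j) = (ε j : ℤ) • a j) :
    w = dh ha ε := by
  apply ext_ap
  intro x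
  apply ha.ext
  intro j
  rw [form_dh]
  have h1 : form (ap w x) (ap w (a j)) = form x (a j) := form_ap w x (a j)
  rw [h j, form_smul_right] at h1
  rw [← h1, ← mul_assoc, unit_mul_self, one_mul]

theorem ap_form_comp (w : W) (x y : Lat) : form (ap w⁻¹ x) y = form x (ap w y) := by
  rw [← form_ap w, ap_ap_inv]

theorem inj (ha : Frame a) : Function.Injective (dh ha) := by
  intro ε η h
  funext j
  have h1 := ap_dh ha ε j
  rw [h, ap_dh] at h1
  have h2 := congrArg (fun y => form y (a j)) h1
  simp only [form_smul_left, ha.root] at h2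
  apply Units.ext
  omega

theorem dh_neg (ha : Frame a) : dh ha (-1) = neg := by
  symm
  apply eq_dh
  intro j
  rw [ap_neg_one]
  simp

theorem dh_sg (ha : Frame a) (i : Fin 8) : dh ha (sg i) = refl (show IsRoot (a i) from ha.root i) := by
  symm
  apply eq_dh
  intro j
  rw [ap_refl]
  by_cases h : j = i
  · subst h
    rw [ha.root]
    simp only [sg, if_pos]
    rw [Units.val_neg, Units.val_one, two_smul ℤ]
    rw [neg_smul, one_smul]; abel
  · rw [ha.orth j i h]
    simp only [sg, if_neg h]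
    simp

theorem coe_det (w : W) : ((det w : ℤˣ) : ℤ) =
    Matrix.det ((w : (Matrix (Fin 8) (Fin 8) ℤ)ˣ) : Matrix (Fin 8) (Fin 8) ℤ) := by
  unfold Cfsg.Agent.OddHalf.D9.EEight.det
  rw [MonoidHom.comp_apply, Units.coe_map, Matrix.coe_detMonoidHom, Subgroup.coe_subtype]

/-- the determinant of a reflection -/
theorem det_refl {r : Lat} (hr : IsRoot r) : det (refl hr) = -1 := by
  apply Units.ext
  have h1 : ((refl hr : (Matrix (Fin 8) (Fin 8) ℤ)ˣ) : Matrix (Fin 8) (Fin 8) ℤ) =
      1 + Matrix.replicateCol Unit r * Matrix.replicateRow Unit (-(GM *ᵥ r)) := by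
    apply Matrix.ext_of_mulVec_single
    intro i
    have h2 := ap_refl hr (Pi.single i 1)
    unfold ap at h2
    rw [h2, add_mulVec, one_mulVec, sub_eq_add_neg]
    congr 1
    rw [form_comm]
    funext k
    rw [mulVec_single, MulOpposite.op_one, one_smul, Matrix.col_apply, Matrix.mul_apply]
    simp only [Finset.univ_unique, Finset.sum_singleton, Matrix.replicateCol_apply,
      Matrix.replicateRow_apply, Pi.neg_apply]
    have h3 : form r (Pi.single i 1) = (GM *ᵥ r) i := by
      rw [form_comm]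
      unfold form
      rw [single_dotProduct, one_mul]
    rw [h3]
    show -((GM *ᵥ r) i * r k) = r k * -(GM *ᵥ r) i
    ring
  have h2 : Matrix.det ((refl hr : (Matrix (Fin 8) (Fin 8) ℤ)ˣ) : Matrix (Fin 8) (Fin 8) ℤ) = -1 := by
    rw [h1, Matrix.det_one_add_replicateCol_mul_replicateRow]
    rw [neg_dotProduct]
    have h3 : (GM *ᵥ r) ⬝ᵥ r = 2 := by
      rw [dotProduct_comm]; exact hr
    rw [h3]; rfl
  rw [coe_det, h2]; rfl

theorem sg_eq (i : Fin 8) : sg i = Pi.mulSingle i (-1 : ℤˣ) := by
  funext j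
  by_cases h : j = i
  · subst h; simp [sg]
  · rw [Pi.mulSingle_eq_of_ne h]; simp [sg, h]

theorem det_dh (ha : Frame a) (ε : Sg) : det (dh ha ε) = prd ε := by
  have h : det.comp (dh ha) = prd := by
    apply MonoidHom.functions_ext
    intro i s
    rcases Int.units_eq_one_or s with h | h
    · rw [h, Pi.mulSingle_one, map_one, map_one]
    · rw [h, ← sg_eq, MonoidHom.comp_apply, dh_sg, det_refl]
      rw [sg_eq, prd_apply, Finset.prod_pi_mulSingle', if_pos (Finset.mem_univ i)]
  exact congrArg (fun f : Sg →* ℤˣ => f ε) h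

/-- an even sign vector that is `-1` at `j` and `1` at `k` -/
theorem exists_even {j k : Fin 8} (h : j ≠ k) : ∃ η ∈ Ev, η j = -1 ∧ η k = 1 := by
  obtain ⟨l, hl1, hl2⟩ : ∃ l : Fin 8, l ≠ j ∧ l ≠ k := by
    revert j k; decide
  refine ⟨sg j * sg l, ?_, ?_, ?_⟩
  · rw [mem_Ev, map_mul]
    rw [sg_eq, sg_eq, prd_apply, prd_apply, Finset.prod_pi_mulSingle', Finset.prod_pi_mulSingle',
      if_pos (Finset.mem_univ _), if_pos (Finset.mem_univ _)]
    rfl
  · simp [sg, Ne.symm hl1]
  · simp [sg, Ne.symm h, Ne.symm hl2]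

/-- a root that is an eigenvector of all even sign changes -/
theorem eigen (ha : Frame a) {y : Lat} (hy : form y y = 2)
    (h : ∀ η ∈ Ev, ∃ s : ℤˣ, ap (dh ha η) y = (s : ℤ) • y) : ∃ j, y = a j ∨ y = -a j := by
  obtain ⟨j, hj⟩ : ∃ j, form y (a j) ≠ 0 := by
    by_contra hcon
    push Not at hcon
    have h1 := ha.sum_form y y
    rw [Finset.sum_eq_zero (fun i _ => by rw [hcon i, mul_zero]), hy] at h1
    omega
  have hk : ∀ k, k ≠ j → form y (a k) = 0 := by
    intro k hkj
    obtain ⟨η, hη, h1, h2⟩ := exists_even (Ne.symm hkj)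
    obtain ⟨s, hs⟩ := h η hη
    have h3 := form_dh ha η y j
    have h4 := form_dh ha η y k
    rw [hs, form_smul_left] at h3 h4
    rw [h1] at h3
    rw [h2] at h4
    rcases Int.units_eq_one_or s with h5 | h5
    · rw [h5] at h3
      push_cast at h3
      omega
    · rw [h5] at h4
      push_cast at h4
      omega
  have h2 : (2 : ℤ) • y = form y (a j) • a j := by
    rw [ha.two_smul, Finset.sum_eq_single j]
    · intro k _ hkj; rw [hk k hkj, zero_smul]
    · intro h; exact absurd (Finset.mem_univ j) h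
  have h3 : form y (a j) * form y (a j) = 4 := by
    have h4 := congrArg (fun x => form x y) h2
    simp only [form_smul_left] at h4
    rw [hy, form_comm (a j) y] at h4
    omega
  have h4 : (form y (a j) - 2) * (form y (a j) + 2) = 0 := by
    linear_combination h3
  refine ⟨j, ?_⟩
  rcases mul_eq_zero.1 h4 with h5 | h5
  · left
    apply two_smul_inj
    rw [h2, show form y (a j) = 2 by omega]
  · right
    apply two_smul_inj
    rw [h2, show form y (a j) = -2 by omega, smul_neg, neg_smul]

/-- the parity vector -/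
def sgn (a : Fin 8 → Lat) (x : Lat) : Sg := fun i => (form x (a i)).negOnePow

theorem sgn_apply (a : Fin 8 → Lat) (x : Lat) (i : Fin 8) : sgn a x i = (form x (a i)).negOnePow := rfl

theorem sgn_add (a : Fin 8 → Lat) (x y : Lat) : sgn a (x + y) = sgn a x * sgn a y := by
  funext i
  rw [sgn_apply, form_add_left, Int.negOnePow_add]; rfl

/-- a labelled frame: the code is the standard Hamming code -/
def Lab (a : Fin 8 → Lat) : Prop := ∀ ε : Sg, IsCode ε ↔ ∃ x, sgn a x = ε

theorem negOnePow_smul (s : ℤˣ) (n : ℤ) : ((s : ℤ) * n).negOnePow = n.negOnePow := by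
  rcases Int.units_eq_one_or s with h | h
  · rw [h]; simp
  · rw [h]; simp

theorem even_sub_iff (m n : ℤ) : Even (m - n) ↔ m.negOnePow = n.negOnePow := by
  constructor
  · intro h
    have h1 := Int.negOnePow_even _ h
    rw [Int.negOnePow_sub] at h1
    rcases Int.units_eq_one_or n.negOnePow with h2 | h2 <;> rw [h2] at h1 ⊢
    · simpa using h1
    · have : (m.negOnePow) * (-1) * (-1) = 1 * (-1) := by rw [h1]
      simpa using this
  · intro h
    rw [← Int.negOnePow_eq_one_iff, Int.negOnePow_sub, h]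
    rcases Int.units_eq_one_or n.negOnePow with h2 | h2 <;> rw [h2] <;> rfl

theorem exists_perm (ha : Frame a) (hl : Lab a) {σ : Equiv.Perm (Fin 8)} (hσ : AutCode σ) :
    ∃ w : W, ∀ i, ap w (a (σ i)) = a i := by
  refine exists_map (ha.comp σ) ha ?_
  intro x
  have h1 : IsCode (pm σ (sgn a x)) := hσ _ ((hl _).2 ⟨x, rfl⟩)
  obtain ⟨y, hy⟩ := (hl _).1 h1
  refine ⟨y, fun i => ?_⟩
  rw [even_sub_iff]
  have h2 := congrFun hy i
  exact h2.symm

theorem conj_eq (ha : Frame a) {w : W} {τ : Fin 8 → Fin 8} {s : Sg}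
    (h : ∀ i, ap w⁻¹ (a i) = (s i : ℤ) • a (τ i)) (ε : Sg) :
    w * dh ha ε * w⁻¹ = dh ha (fun i => ε (τ i)) := by
  apply eq_dh
  intro i
  rw [ap_mul, ap_mul, h i, ap_smul, ap_dh, smul_comm, ap_smul]
  congr 1
  rw [← h i, ap_ap_inv]

/-- **The facts on a labelled frame.** -/
theorem isFr (ha : Frame a) (hl : Lab a) : IsFr det neg IsRefl (dh ha) where
  inj := inj ha
  det := det_dh ha
  neg := dh_neg ha
  refl i := ⟨a i, ha.root i, dh_sg ha i⟩
  sym σ hσ := by
    obtain ⟨w, hw⟩ := exists_perm ha hl hσ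
    have hc : ∀ ε, w * dh ha ε * w⁻¹ = dh ha (pm σ ε) := by
      intro ε
      refine conj_eq ha (s := 1) (τ := σ) (fun i => ?_) ε
      rw [Pi.one_apply, Units.val_one, one_smul, ← hw i, ap_inv_ap]
    rcases Int.units_eq_one_or (EEight.det w) with h | h
    · exact ⟨w, h, hc⟩
    · refine ⟨dh ha (sg 0) * w, ?_, ?_⟩
      · rw [map_mul, dh_sg, det_refl, h]; rfl
      · intro ε
        calc dh ha (sg 0) * w * dh ha ε * (dh ha (sg 0) * w)⁻¹
            = dh ha (sg 0) * (w * dh ha ε * w⁻¹) * (dh ha (sg 0))⁻¹ := by group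
          _ = dh ha (sg 0) * dh ha (pm σ ε) * (dh ha (sg 0))⁻¹ := by rw [hc]
          _ = dh ha (pm σ ε) := by
            rw [← map_mul, mul_comm (sg 0) (pm σ ε), map_mul, mul_inv_cancel_right]
  nrm w hw := by
    have h1 : ∀ i, ∃ j, ap w⁻¹ (a i) = a j ∨ ap w⁻¹ (a i) = -a j := by
      intro i
      refine eigen ha (by rw [form_ap]; exact ha.root i) ?_
      intro ε hε
      obtain ⟨η, hη, h⟩ := hw ε hε
      refine ⟨η i, ?_⟩
      have h2 : dh ha ε * w⁻¹ = w⁻¹ * dh ha η := by rw [← h]; group
      rw [← ap_mul, h2, ap_mul, ap_dh, ap_smul]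
    choose τ hτ using h1
    have hs : ∀ i, ∃ s : ℤˣ, ap w⁻¹ (a i) = (s : ℤ) • a (τ i) := by
      intro i
      rcases hτ i with h | h
      · exact ⟨1, by rw [h]; simp⟩
      · exact ⟨-1, by rw [h]; simp⟩
    choose s hs using hs
    have hinj : Function.Injective τ := by
      intro i j hij
      by_contra hne
      have h2 : form (ap w⁻¹ (a i)) (ap w⁻¹ (a j)) = 0 := by rw [form_ap]; exact ha.orth i j hne
      rw [hs i, hs j, hij, form_smul_left, form_smul_right, ha.root] at h2
      rcases Int.units_eq_one_or (s i) with h3 | h3 <;> rcases Int.units_eq_one_or (s j) with h4 | h4 <;>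
        rw [h3, h4] at h2 <;> revert h2 <;> decide
    let σ : Equiv.Perm (Fin 8) := Equiv.ofBijective τ (Finite.injective_iff_bijective.1 hinj)
    refine ⟨σ, ?_, fun ε => conj_eq ha hs ε⟩
    intro ε hε
    obtain ⟨x, hx⟩ := (hl _).1 hε
    rw [hl]
    refine ⟨ap w x, ?_⟩
    funext i
    rw [sgn_apply, pm_apply, ← hx, sgn_apply]
    show _ = (form x (a (τ i))).negOnePow
    have h2 : form (ap w x) (a i) = (s i : ℤ) * form x (a (τ i)) := by
      rw [← form_smul_right, ← hs i, form_comm x, ap_form_comp, form_comm]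
    rw [h2, negOnePow_smul]
  cen w hw := by
    have h1 : ∀ i, ap w (a i) = a i ∨ ap w (a i) = -a i := by
      intro i
      have he : ∀ η ∈ Ev, ap (dh ha η) (ap w (a i)) = (η i : ℤ) • ap w (a i) := by
        intro η hη
        rw [← ap_mul, ← hw η hη, ap_mul, ap_dh, ap_smul]
      obtain ⟨j, hj⟩ := eigen ha (y := ap w (a i)) (by rw [form_ap]; exact ha.root i)
        (fun η hη => ⟨η i, he η hη⟩)
      have hij : j = i := by
        by_contra hne
        obtain ⟨η, hη, h2, h3⟩ := exists_even hne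
        have h4 := form_dh ha η (ap w (a i)) j
        rw [he η hη, form_smul_left, h2, h3] at h4
        have h5 : form (ap w (a i)) (a j) ≠ 0 := by
          rcases hj with h | h <;> rw [h]
          · rw [ha.root]; decide
          · rw [form_neg_left, ha.root]; decide
        apply h5
        push_cast at h4
        omega
      rw [hij] at hj
      exact hj
    have hs : ∀ i, ∃ s : ℤˣ, ap w (a i) = (s : ℤ) • a i := by
      intro i
      rcases h1 i with h | h
      · exact ⟨1, by rw [h]; simp⟩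
      · exact ⟨-1, by rw [h]; simp⟩
    choose s hs using hs
    exact ⟨s, (eq_dh ha hs).symm⟩

end Cfsg.Agent.OddHalf.D9.EEight.FrameHom

end
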