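import Cfsg.Agent.OddHalf.D9.EEight.Model

-- merged: Cfsg.Agent.OddHalf.D9.EEight.Coord
section

/-!
# The E8 lattice: coordinates (helper109)

`cd x` = twice the Bourbaki coordinates of `∑ xᵢ αᵢ` in `ℝ⁸` (so `4 * form x y = cd x ⬝ᵥ cd y`). `forall_root`: a
decidable property of roots (`form a a = 2`) can be checked on the list `rts` of the 240 roots.
-/

set_option autoImplicit false

namespace Cfsg.Agent.OddHalf.D9.EEight.Coord

open Matrix

/-- Bourbaki coordinates of the simple roots, times two -/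
def C : Matrix (Fin 8) (Fin 8) ℤ :=
  !![ 1, 2, -2, 0, 0, 0, 0, 0;
     -1, 2, 2, -2, 0, 0, 0, 0;
     -1, 0, 0, 2, -2, 0, 0, 0;
     -1, 0, 0, 0, 2, -2, 0, 0;
     -1, 0, 0, 0, 0, 2, -2, 0;
     -1, 0, 0, 0, 0, 0, 2, -2;
     -1, 0, 0, 0, 0, 0, 0, 2;
      1, 0, 0, 0, 0, 0, 0, 0]

theorem C_gram : Cᵀ * C = (4 : ℤ) • CartanMatrix.E₈ := by decide +kernel

/-- `4 C⁻¹` -/
def D : Matrix (Fin 8) (Fin 8) ℤ :=
  !![0, 0, 0, 0, 0, 0, 0, 4;
     1, 1, 1, 1, 1, 1, 1, 5;
     -1, 1, 1, 1, 1, 1, 1, 7;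
     0, 0, 2, 2, 2, 2, 2, 10;
     0, 0, 0, 2, 2, 2, 2, 8;
     0, 0, 0, 0, 2, 2, 2, 6;
     0, 0, 0, 0, 0, 2, 2, 4;
     0, 0, 0, 0, 0, 0, 2, 2]

theorem D_mul_C : D * C = (4 : ℤ) • (1 : Matrix (Fin 8) (Fin 8) ℤ) := by decide +kernel

theorem C_mul_D : C * D = (4 : ℤ) • (1 : Matrix (Fin 8) (Fin 8) ℤ) := by decide +kernel

/-- coordinates -/
def cd (x : Lat) : Lat := C *ᵥ x

theorem four_form (x y : Lat) : 4 * form x y = cd x ⬝ᵥ cd y := by
  have h : cd x ⬝ᵥ cd y = x ⬝ᵥ ((Cᵀ * C) *ᵥ y) := by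
    unfold cd
    rw [Matrix.dotProduct_mulVec, Matrix.vecMul_mulVec, ← Matrix.mulVec_mulVec, Matrix.dotProduct_mulVec,
      Matrix.dotProduct_mulVec]
    congr 1
    rw [← Matrix.vecMul_vecMul]
  rw [h, C_gram, Matrix.smul_mulVec, dotProduct_smul]
  rfl

theorem D_cd (x : Lat) : D *ᵥ cd x = (4 : ℤ) • x := by
  unfold cd
  rw [Matrix.mulVec_mulVec, D_mul_C, Matrix.smul_mulVec, Matrix.one_mulVec]

theorem cd_injective : Function.Injective cd := by
  intro x y h
  have h1 : (4 : ℤ) • x = (4 : ℤ) • y := by rw [← D_cd, ← D_cd, h]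
  funext i
  have := congrFun h1 i
  simp only [Pi.smul_apply, smul_eq_mul] at this
  omega

theorem cd_add (x y : Lat) : cd (x + y) = cd x + cd y := Matrix.mulVec_add _ _ _
theorem cd_sub (x y : Lat) : cd (x - y) = cd x - cd y := Matrix.mulVec_sub _ _ _
theorem cd_smul (n : ℤ) (x : Lat) : cd (n • x) = n • cd x := Matrix.mulVec_smul _ _ _
theorem cd_neg (x : Lat) : cd (-x) = - cd x := by unfold cd; rw [Matrix.mulVec_neg]
theorem cd_zero : cd 0 = 0 := Matrix.mulVec_zero _

section explicit
variable (x : Lat)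
theorem cd0 : cd x 0 = x 0 + 2 * x 1 - 2 * x 2 := by
  simp [cd, C, Matrix.mulVec, dotProduct, Fin.sum_univ_eight]; ring
theorem cd1 : cd x 1 = - x 0 + 2 * x 1 + 2 * x 2 - 2 * x 3 := by
  simp [cd, C, Matrix.mulVec, dotProduct, Fin.sum_univ_eight]; ring
theorem cd2 : cd x 2 = - x 0 + 2 * x 3 - 2 * x 4 := by
  simp [cd, C, Matrix.mulVec, dotProduct, Fin.sum_univ_eight]; ring
theorem cd3 : cd x 3 = - x 0 + 2 * x 4 - 2 * x 5 := by
  simp [cd, C, Matrix.mulVec, dotProduct, Fin.sum_univ_eight]; ring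
theorem cd4 : cd x 4 = - x 0 + 2 * x 5 - 2 * x 6 := by
  simp [cd, C, Matrix.mulVec, dotProduct, Fin.sum_univ_eight]; ring
theorem cd5 : cd x 5 = - x 0 + 2 * x 6 - 2 * x 7 := by
  simp [cd, C, Matrix.mulVec, dotProduct, Fin.sum_univ_eight]; ring
theorem cd6 : cd x 6 = - x 0 + 2 * x 7 := by
  simp [cd, C, Matrix.mulVec, dotProduct, Fin.sum_univ_eight]
theorem cd7 : cd x 7 = x 0 := by
  simp [cd, C, Matrix.mulVec, dotProduct, Fin.sum_univ_eight]
end explicit

attribute [irreducible] cd

/-! ### Enumeration -/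

/-- integer lists of length `n` with entries in `vals` and sum of squares `b` -/
def enumV (vals : List ℤ) : ℕ → ℤ → List (List ℤ)
  | 0, b => if b = 0 then [[]] else []
  | n + 1, b => vals.flatMap fun v => if v * v ≤ b then (enumV vals n (b - v * v)).map (v :: ·) else []

theorem mem_enumV (vals : List ℤ) : ∀ (l : List ℤ), (∀ v ∈ l, v ∈ vals) →
    l ∈ enumV vals l.length ((l.map fun v => v * v).sum) := by
  intro l
  induction l with
  | nil => intro _; simp [enumV]
  | cons v l ih =>
    intro h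
    have h1 := ih fun w hw => h w (List.mem_cons_of_mem _ hw)
    have hnn : 0 ≤ (l.map fun v => v * v).sum := List.sum_nonneg fun x hx => by
      obtain ⟨w, _, rfl⟩ := List.mem_map.1 hx
      exact mul_self_nonneg w
    simp only [List.length_cons, List.map_cons, List.sum_cons, enumV, List.mem_flatMap]
    refine ⟨v, h v List.mem_cons_self, ?_⟩
    rw [if_pos (by linarith)]
    refine List.mem_map.2 ⟨l, ?_, rfl⟩
    have e : v * v + (l.map fun v => v * v).sum - v * v = (l.map fun v => v * v).sum := by ring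
    rw [e]
    exact h1

/-- dot product of lists -/
def dotL : List ℤ → List ℤ → ℤ
  | a :: l, b :: m => a * b + dotL l m
  | _, _ => 0

/-- a vector as a list -/
def toL (y : Lat) : List ℤ := [y 0, y 1, y 2, y 3, y 4, y 5, y 6, y 7]

/-- a list as a vector -/
def ofL (l : List ℤ) : Lat := fun i => l.getD i 0

theorem ofL_toL (y : Lat) : ofL (toL y) = y := by
  funext i
  fin_cases i <;> rfl

/-- the coordinates of the 240 roots -/
def cdL : List (List ℤ) := enumV [-2, 0, 2] 8 8 ++ (enumV [-1, 1] 8 8).filter fun l => l.sum % 4 = 0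

/-- back from the coordinates -/
def unL (l : List ℤ) : Lat := fun i => (D *ᵥ ofL l) i / 4

theorem unL_cd (x : Lat) : unL (toL (cd x)) = x := by
  funext i
  unfold unL
  rw [ofL_toL, D_cd]
  simp

theorem toL_mem {y : Lat} {v : ℤ} (hv : v ∈ toL y) : ∃ i, v = y i := by
  simp only [toL, List.mem_cons, List.not_mem_nil, or_false] at hv
  rcases hv with h | h | h | h | h | h | h | h
  exacts [⟨0, h⟩, ⟨1, h⟩, ⟨2, h⟩, ⟨3, h⟩, ⟨4, h⟩, ⟨5, h⟩, ⟨6, h⟩, ⟨7, h⟩]

theorem m1 (a b c : ℤ) : (a + 2 * b - 2 * c) % 2 = a % 2 := by omega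
theorem m2 (a b c : ℤ) : (- a + 2 * b - 2 * c) % 2 = a % 2 := by omega
theorem m3 (a b : ℤ) : (- a + 2 * b) % 2 = a % 2 := by omega
theorem m4 (a b c d : ℤ) : (- a + 2 * b + 2 * c - 2 * d) % 2 = a % 2 := by omega

theorem cd_mod (x : Lat) (i : Fin 8) : cd x i % 2 = x 0 % 2 := by
  fin_cases i
  · show cd x 0 % 2 = _; rw [cd0, m1]
  · show cd x 1 % 2 = _; rw [cd1, m4]
  · show cd x 2 % 2 = _; rw [cd2, m2]
  · show cd x 3 % 2 = _; rw [cd3, m2]
  · show cd x 4 % 2 = _; rw [cd4, m2]
  · show cd x 5 % 2 = _; rw [cd5, m2]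
  · show cd x 6 % 2 = _; rw [cd6, m3]
  · show cd x 7 % 2 = _; rw [cd7]

theorem sum_cd (x : Lat) : (toL (cd x)).sum = 4 * (x 1 - x 0) := by
  simp only [toL, List.sum_cons, List.sum_nil, cd0, cd1, cd2, cd3, cd4, cd5, cd6, cd7]
  ring

theorem sum_sq (y : Lat) : ((toL y).map fun v => v * v).sum = y ⬝ᵥ y := by
  simp only [toL, List.map_cons, List.map_nil, List.sum_cons, List.sum_nil, dotProduct, Fin.sum_univ_eight]
  ring

theorem sq_le (y : Lat) (i : Fin 8) : y i * y i ≤ y ⬝ᵥ y := by
  unfold dotProduct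
  exact Finset.single_le_sum (f := fun i => y i * y i) (fun j _ => mul_self_nonneg (y j)) (Finset.mem_univ i)

theorem cd_mem (x : Lat) (h : form x x = 2) : toL (cd x) ∈ cdL := by
  have h4 : cd x ⬝ᵥ cd x = 8 := by rw [← four_form, h]; norm_num
  have hsum : ((toL (cd x)).map fun v => v * v).sum = 8 := by rw [sum_sq, h4]
  have hb : ∀ i, cd x i * cd x i ≤ 8 := fun i => h4 ▸ sq_le (cd x) i
  have hb' : ∀ i, -2 ≤ cd x i ∧ cd x i ≤ 2 := fun i => by
    have := hb i
    constructor <;> nlinarith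
  have hpar := cd_mod x
  have hlen : (toL (cd x)).length = 8 := rfl
  unfold cdL
  rw [List.mem_append]
  rcases Int.emod_two_eq_zero_or_one (x 0) with hx | hx
  · left
    have := mem_enumV [-2, 0, 2] (toL (cd x)) (fun v hv => by
      obtain ⟨i, rfl⟩ := toL_mem hv
      have h1 := hb' i
      have h2 := hpar i
      have : cd x i = -2 ∨ cd x i = 0 ∨ cd x i = 2 := by omega
      simpa using this)
    rw [hsum, hlen] at this
    exact this
  · right
    rw [List.mem_filter]
    have := mem_enumV [-1, 1] (toL (cd x)) (fun v hv => by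
      obtain ⟨i, rfl⟩ := toL_mem hv
      have h1 := hb' i
      have h2 := hpar i
      have : cd x i = -1 ∨ cd x i = 1 := by omega
      simpa using this)
    rw [hsum, hlen] at this
    refine ⟨this, ?_⟩
    rw [sum_cd]
    simp

/-- decoding: octal digits minus two -/
def dec (n : ℕ) : List ℤ :=
  [(n % 8 : ℕ) - 2, (n / 8 % 8 : ℕ) - 2, (n / 64 % 8 : ℕ) - 2, (n / 512 % 8 : ℕ) - 2, (n / 4096 % 8 : ℕ) - 2,
    (n / 32768 % 8 : ℕ) - 2, (n / 262144 % 8 : ℕ) - 2, (n / 2097152 % 8 : ℕ) - 2]

/-- the coordinates of the 240 roots, coded -/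
def RN : List ℕ := [4793508, 4793476, 4793504, 4793472, 4793620, 4793364, 4793616, 4793360, 4794516, 4792468, 4794512, 4792464,
  4801684, 4785300, 4801680, 4785296, 4859028, 4727956, 4859024, 4727952, 5317780, 4269204, 5317776, 4269200,
  8987796, 599188, 8987792, 599184, 4793634, 4793378, 4793602, 4793346, 4794530, 4792482, 4794498, 4792450,
  4801698, 4785314, 4801666, 4785282, 4859042, 4727970, 4859010, 4727938, 5317794, 4269218, 5317762, 4269186,
  8987810, 599202, 8987778, 599170, 4794642, 4792594, 4794386, 4792338, 4801810, 4785426, 4801554, 4785170,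
  4859154, 4728082, 4858898, 4727826, 5317906, 4269330, 5317650, 4269074, 8987922, 599314, 8987666, 599058,
  4802706, 4786322, 4800658, 4784274, 4860050, 4728978, 4858002, 4726930, 5318802, 4270226, 5316754, 4268178,
  8988818, 600210, 8986770, 598162, 4867218, 4736146, 4850834, 4719762, 5325970, 4277394, 5309586, 4261010,
  8995986, 607378, 8979602, 590994, 5383314, 4334738, 5252242, 4203666, 9053330, 664722, 8922258, 533650,
  9512082, 1123474, 8463506, 74898, 7190235, 2471643, 2930395, 6600411, 2987739, 6657755, 7116507, 2397915,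
  2994907, 6664923, 7123675, 2405083, 7181019, 2462427, 2921179, 6591195, 2995803, 6665819, 7124571, 2405979,
  7181915, 2463323, 2922075, 6592091, 7189083, 2470491, 2929243, 6599259, 2986587, 6656603, 7115355, 2396763,
  2995915, 6665931, 7124683, 2406091, 7182027, 2463435, 2922187, 6592203, 7189195, 2470603, 2929355, 6599371,
  2986699, 6656715, 7115467, 2396875, 7190091, 2471499, 2930251, 6600267, 2987595, 6657611, 7116363, 2397771,
  2994763, 6664779, 7123531, 2404939, 7180875, 2462283, 2921035, 6591051, 2995929, 6665945, 7124697, 2406105,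
  7182041, 2463449, 2922201, 6592217, 7189209, 2470617, 2929369, 6599385, 2986713, 6656729, 7115481, 2396889,
  7190105, 2471513, 2930265, 6600281, 2987609, 6657625, 7116377, 2397785, 2994777, 6664793, 7123545, 2404953,
  7180889, 2462297, 2921049, 6591065, 7190217, 2471625, 2930377, 6600393, 2987721, 6657737, 7116489, 2397897,
  2994889, 6664905, 7123657, 2405065, 7181001, 2462409, 2921161, 6591177, 2995785, 6665801, 7124553, 2405961,
  7181897, 2463305, 2922057, 6592073, 7189065, 2470473, 2929225, 6599241, 2986569, 6656585, 7115337, 2396745]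

/-- coding -/
def enc : List ℤ → ℕ
  | [] => 0
  | a :: l => (a + 2).toNat + 8 * enc l

/-- the coordinates of the 240 roots -/
def RL : List (List ℤ) := RN.map dec

theorem RL_complete : ∀ l ∈ cdL, l ∈ RL := by
  have : cdL.all (fun l => RN.contains (enc l) && decide (dec (enc l) = l)) = true := by decide +kernel
  intro l hl
  have h := List.all_eq_true.1 this l hl
  simp only [Bool.and_eq_true, decide_eq_true_eq, List.contains_iff_mem] at h
  exact List.mem_map.2 ⟨_, h.1, h.2⟩

theorem RL_check : RL.all (fun l => decide (l.length = 8) && decide (dotL l l = 8) &&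
    (toL (D *ᵥ ofL l)).all (fun v => decide (v % 4 = 0))) = true := by decide +kernel

theorem RL_length {l : List ℤ} (hl : l ∈ RL) : l.length = 8 := by
  have := List.all_eq_true.1 RL_check l hl
  simp only [Bool.and_eq_true, decide_eq_true_eq] at this
  exact this.1.1

theorem toL_ofL {l : List ℤ} (hl : l.length = 8) : toL (ofL l) = l := by
  match l, hl with
  | [a, b, c, d, e, f, g, h], _ => rfl

theorem mem_toL (y : Lat) (i : Fin 8) : y i ∈ toL y := by
  fin_cases i <;> simp [toL]

theorem cd_unL {l : List ℤ} (hl : l ∈ RL) : cd (unL l) = ofL l := by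
  have := List.all_eq_true.1 RL_check l hl
  simp only [Bool.and_eq_true, List.all_eq_true, decide_eq_true_eq] at this
  have h1 : (4 : ℤ) • unL l = D *ᵥ ofL l := by
    funext i
    show 4 * unL l i = _
    unfold unL
    have h2 := this.2 _ (mem_toL (D *ᵥ ofL l) i)
    generalize (D *ᵥ ofL l) i = t at h2
    omega
  have h3 : (4 : ℤ) • cd (unL l) = (4 : ℤ) • ofL l := by
    rw [← cd_smul, h1]
    unfold cd
    rw [Matrix.mulVec_mulVec, C_mul_D, Matrix.smul_mulVec, Matrix.one_mulVec]
  funext i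
  have := congrFun h3 i
  simp only [Pi.smul_apply, smul_eq_mul] at this
  omega

theorem toL_cd_unL {l : List ℤ} (hl : l ∈ RL) : toL (cd (unL l)) = l := by
  rw [cd_unL hl, toL_ofL (RL_length hl)]

theorem dotL_toL (x y : Lat) : dotL (toL x) (toL y) = x ⬝ᵥ y := by
  simp only [toL, dotL, dotProduct, Fin.sum_univ_eight]
  ring

theorem form_dotL (x y : Lat) : 4 * form x y = dotL (toL (cd x)) (toL (cd y)) := by
  rw [four_form, dotL_toL]

theorem exists_rep {a : Lat} (ha : form a a = 2) : ∃ l ∈ RL, a = unL l ∧ toL (cd a) = l :=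
  ⟨_, RL_complete _ (cd_mem a ha), (unL_cd a).symm, rfl⟩

theorem form_unL {l m : List ℤ} (hl : l ∈ RL) (hm : m ∈ RL) : 4 * form (unL l) (unL m) = dotL l m := by
  rw [form_dotL, toL_cd_unL hl, toL_cd_unL hm]

theorem isRoot_unL {l : List ℤ} (hl : l ∈ RL) : IsRoot (unL l) := by
  have h1 := List.all_eq_true.1 RL_check l hl
  have h2 := form_unL hl hl
  simp only [Bool.and_eq_true, decide_eq_true_eq] at h1
  have h3 := h1.1.2
  unfold IsRoot
  omega

theorem card_RN : RN.length = 240 ∧ RN.Nodup := by decide +kernel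

end Cfsg.Agent.OddHalf.D9.EEight.Coord

end

-- merged: Cfsg.Agent.OddHalf.D9.EEight.Move
section

/-!
# The E8 lattice: moving roots (helper109)

* `form_nonneg`, `form_eq_zero`, `form_even`, `root_bound`, `eq_of_form`, `eq_neg_of_form`.
* `move`: roots `a`, `b` with `form a b ≠ 0` are conjugate by `w : W` fixing everything orthogonal to `a` and `b`.
* `reach`: a Boolean check for transitivity of the stabiliser of the list `S` on the roots orthogonal to `S`.
-/

set_option autoImplicit false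

namespace Cfsg.Agent.OddHalf.D9.EEight.Move

open Matrix Coord

theorem form_nonneg (x : Lat) : 0 ≤ form x x := by
  have h := four_form x x
  have h2 : 0 ≤ cd x ⬝ᵥ cd x := Finset.sum_nonneg fun i _ => mul_self_nonneg (cd x i)
  omega

theorem form_eq_zero {x : Lat} (h : form x x = 0) : x = 0 := by
  have h1 : cd x ⬝ᵥ cd x = 0 := by rw [← four_form, h, mul_zero]
  have h2 : cd x = 0 := dotProduct_self_eq_zero.1 h1
  apply cd_injective
  rw [h2, cd_zero]

theorem form_self (x : Lat) : form x x = 2 * (x 0 * x 0 + x 1 * x 1 + x 2 * x 2 + x 3 * x 3 + x 4 * x 4 + x 5 * x 5 +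
    x 6 * x 6 + x 7 * x 7 - x 0 * x 2 - x 1 * x 3 - x 2 * x 3 - x 3 * x 4 - x 4 * x 5 - x 5 * x 6 - x 6 * x 7) := by
  simp [form, GM, CartanMatrix.E₈, Matrix.mulVec, dotProduct, Fin.sum_univ_eight]
  ring

theorem form_even (x : Lat) : Even (form x x) := ⟨_, (form_self x).trans (two_mul _)⟩

theorem root_bound {a b : Lat} (ha : IsRoot a) (hb : IsRoot b) : -2 ≤ form a b ∧ form a b ≤ 2 := by
  have h1 := form_nonneg (a + b)
  have h2 := form_nonneg (a - b)
  have e := form_comm a b
  unfold IsRoot at ha hb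
  rw [form_add_left, form_add_right, form_add_right] at h1
  rw [form_sub_left, form_sub_right, form_sub_right] at h2
  omega

theorem eq_of_form {a b : Lat} (ha : IsRoot a) (hb : IsRoot b) (h : form a b = 2) : a = b := by
  unfold IsRoot at ha hb
  have e := form_comm a b
  have h2 : form (a - b) (a - b) = 0 := by
    rw [form_sub_left, form_sub_right, form_sub_right]; omega
  exact sub_eq_zero.1 (form_eq_zero h2)

theorem isRoot_neg {a : Lat} (ha : IsRoot a) : IsRoot (-a) := by
  unfold IsRoot at *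
  rw [form_neg_left, form_neg_right, neg_neg, ha]

theorem eq_neg_of_form {a b : Lat} (ha : IsRoot a) (hb : IsRoot b) (h : form a b = -2) : b = -a := by
  have := eq_of_form (isRoot_neg ha) hb (by rw [form_neg_left, h]; norm_num)
  exact this.symm

theorem isRoot_ap {a : Lat} (ha : IsRoot a) (w : W) : IsRoot (ap w a) := by
  unfold IsRoot at *
  rw [form_ap, ha]

theorem isRoot_sub {a b : Lat} (ha : IsRoot a) (hb : IsRoot b) (h : form a b = 1) : IsRoot (a - b) := by
  have e := form_comm a b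
  unfold IsRoot at *
  rw [form_sub_left, form_sub_right, form_sub_right]
  omega

theorem isRoot_add {a b : Lat} (ha : IsRoot a) (hb : IsRoot b) (h : form a b = -1) : IsRoot (a + b) := by
  have e := form_comm a b
  unfold IsRoot at *
  rw [form_add_left, form_add_right, form_add_right]
  omega

theorem ap_refl_self {a : Lat} (ha : IsRoot a) : ap (refl ha) a = -a := by
  rw [ap_refl]
  have h : form a a = 2 := ha
  rw [h, two_smul]
  abel

theorem ap_refl_orth {a x : Lat} (ha : IsRoot a) (h : form x a = 0) : ap (refl ha) x = x := by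
  rw [ap_refl, h, zero_smul, sub_zero]

theorem form_ap_left (w : W) (x y : Lat) : form (ap w x) y = form x (ap w⁻¹ y) := by
  conv_lhs => rw [← ap_ap_inv w y]
  rw [form_ap]

theorem ap_inv_eq {w : W} {x y : Lat} (h : ap w x = y) : ap w⁻¹ y = x := by
  rw [← h, ap_inv_ap]

/-- moving a root to a non orthogonal root -/
theorem move {a b : Lat} (ha : IsRoot a) (hb : IsRoot b) (h : form a b ≠ 0) :
    ∃ w : W, ap w a = b ∧ ∀ x, form x a = 0 → form x b = 0 → ap w x = x := by
  have hbd := root_bound ha hb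
  have e := form_comm a b
  rcases (show form a b = -2 ∨ form a b = -1 ∨ form a b = 1 ∨ form a b = 2 by omega) with h1 | h1 | h1 | h1
  · refine ⟨refl ha, ?_, fun x hx _ => ap_refl_orth ha hx⟩
    rw [ap_refl_self, eq_neg_of_form ha hb h1]
  · have hc := isRoot_add ha hb h1
    refine ⟨refl hb * refl hc, ?_, fun x hx hy => ?_⟩
    · rw [ap_mul, ap_refl hc, form_add_right, h1, show form a a = 2 from ha]
      rw [show (2 + -1 : ℤ) = 1 by norm_num, one_smul, show a - (a + b) = -b by abel, ap_neg, ap_refl_self, neg_neg]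
    · rw [ap_mul, ap_refl_orth hc (by rw [form_add_right, hx, hy, add_zero]), ap_refl_orth hb hy]
  · have hc := isRoot_sub ha hb h1
    refine ⟨refl hc, ?_, fun x hx hy => ?_⟩
    · rw [ap_refl hc, form_sub_right, h1, show form a a = 2 from ha]
      rw [show (2 - 1 : ℤ) = 1 by norm_num, one_smul]; abel
    · rw [ap_refl_orth hc (by rw [form_sub_right, hx, hy, sub_zero])]
  · refine ⟨1, ?_, fun x _ _ => ap_one x⟩
    rw [ap_one, eq_of_form ha hb h1]

/-- orthogonality in coordinates -/
def orthB (S : List (List ℤ)) (l : List ℤ) : Bool := S.all fun s => decide (dotL s l = 0)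

/-- the check for `reach` -/
def reachB (S : List (List ℤ)) (t : List ℤ) : Bool :=
  RL.all fun l => !(orthB S l) || decide (dotL l t ≠ 0) ||
    RL.any fun m => orthB S m && decide (dotL m l ≠ 0) && decide (dotL m t ≠ 0)

theorem orthB_iff {S : List Lat} {x : Lat} :
    orthB (S.map fun s => toL (cd s)) (toL (cd x)) = true ↔ ∀ s ∈ S, form s x = 0 := by
  unfold orthB
  simp only [List.all_map, List.all_eq_true, Function.comp, decide_eq_true_eq]
  refine forall₂_congr fun s _ => ?_
  have := form_dotL s x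
  omega

theorem reach {S : List Lat} {t : Lat} (ht : IsRoot t) (htS : ∀ s ∈ S, form s t = 0)
    (h : reachB (S.map fun s => toL (cd s)) (toL (cd t)) = true) {a : Lat} (ha : IsRoot a)
    (haS : ∀ s ∈ S, form s a = 0) : ∃ w : W, ap w a = t ∧ ∀ s ∈ S, ap w s = s := by
  unfold reachB at h
  obtain ⟨l, hl, rfl, hl2⟩ := exists_rep ha
  have h1 := List.all_eq_true.1 h l hl
  simp only [Bool.or_eq_true, decide_eq_true_eq, List.any_eq_true, Bool.and_eq_true,
    Bool.not_eq_true'] at h1
  rcases h1 with (h1 | h1) | h1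
  · exfalso
    rw [← hl2] at h1
    rw [(orthB_iff (S := S)).2 haS] at h1
    exact Bool.noConfusion h1
  · have h2 : form (unL l) t ≠ 0 := by
      have := form_dotL (unL l) t
      rw [hl2] at this
      omega
    obtain ⟨w, hw, hw2⟩ := move ha ht h2
    exact ⟨w, hw, fun s hs => hw2 s (haS s hs) (htS s hs)⟩
  · obtain ⟨m, hm, ⟨hm1, hm2⟩, hm3⟩ := h1
    have hmr := isRoot_unL hm
    have hmS : ∀ s ∈ S, form s (unL m) = 0 := by
      rw [← toL_cd_unL hm] at hm1
      exact orthB_iff.1 hm1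
    have h2 : form (unL l) (unL m) ≠ 0 := by
      have := form_unL hm hl
      rw [form_comm]
      omega
    have h3 : form (unL m) t ≠ 0 := by
      have := form_dotL (unL m) t
      rw [toL_cd_unL hm] at this
      omega
    obtain ⟨w, hw, hw2⟩ := move ha hmr h2
    obtain ⟨v, hv, hv2⟩ := move hmr ht h3
    refine ⟨v * w, by rw [ap_mul, hw, hv], fun s hs => ?_⟩
    rw [ap_mul, hw2 s (haS s hs) (hmS s hs), hv2 s (hmS s hs) (htS s hs)]

/-- the root with coordinates `l` -/
theorem form_unL' (x : Lat) {l : List ℤ} (hl : l ∈ RL) : 4 * form x (unL l) = dotL (toL (cd x)) l := by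
  rw [form_dotL, toL_cd_unL hl]

theorem reach0 (t : List ℤ) (htR : t ∈ RL) (h : reachB [] t = true) {a : Lat} (ha : IsRoot a) :
    ∃ w : W, ap w a = unL t := by
  obtain ⟨w, hw, -⟩ := reach (S := []) (isRoot_unL htR) (by simp) (by simpa [toL_cd_unL htR] using h) ha (by simp)
  exact ⟨w, hw⟩

/-- `e₁ + e₂` -/
abbrev t1 : List ℤ := [2, 2, 0, 0, 0, 0, 0, 0]
/-- `- e₁ + e₂` -/
abbrev t2 : List ℤ := [-2, 2, 0, 0, 0, 0, 0, 0]

theorem t1_mem : t1 ∈ RL := by decide +kernel
theorem t2_mem : t2 ∈ RL := by decide +kernel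

theorem reach_t1 : reachB [] t1 = true := by decide +kernel
theorem reach_t2 : reachB [t1] t2 = true := by decide +kernel

/-- transitivity on roots -/
theorem trans1 {a : Lat} (ha : IsRoot a) : ∃ w : W, ap w a = unL t1 := reach0 t1 t1_mem reach_t1 ha

/-- transitivity on orthogonal pairs -/
theorem trans2 {a b : Lat} (ha : IsRoot a) (hb : IsRoot b) (hab : form a b = 0) :
    ∃ w : W, ap w a = unL t1 ∧ ap w b = unL t2 := by
  obtain ⟨w, hw⟩ := trans1 ha
  have h1 : form (unL t1) (ap w b) = 0 := by rw [← hw, form_ap, hab]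
  obtain ⟨v, hv, hv2⟩ := reach (S := [unL t1]) (t := unL t2) (isRoot_unL t2_mem)
    (by
      intro s hs
      rw [List.mem_singleton.1 hs]
      have := form_unL t1_mem t2_mem
      have h2 : dotL t1 t2 = 0 := by decide
      omega)
    (by
      rw [List.map_cons, List.map_nil, toL_cd_unL t1_mem, toL_cd_unL t2_mem]
      exact reach_t2) (isRoot_ap hb w) (by
        intro s hs
        rw [List.mem_singleton.1 hs]; exact h1)
  refine ⟨v * w, ?_, by rw [ap_mul, hv]⟩
  rw [ap_mul, hw]
  exact hv2 _ (List.mem_singleton.2 rfl)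

end Cfsg.Agent.OddHalf.D9.EEight.Move

end
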