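import Cfsg.Agent.OddHalf.D9.EEight.FrameHom
import Cfsg.Agent.OddHalf.D9.EEight.Move

-- merged: Cfsg.Agent.OddHalf.D9.EEight.FrameCode
section

/-!
# Every frame can be labelled (helper528)

`exists_lab`: the code of a frame of 8 orthogonal roots is, after a permutation of the roots, the Hamming code `IsCode`.
-/

set_option autoImplicit false

namespace Cfsg.Agent.OddHalf.D9.EEight.FrameCode

open Matrix Cfsg.Agent.OddHalf.D9.EEight Cfsg.Agent.OddHalf.D9.EEight.FrameBase
  Cfsg.Agent.OddHalf.D9.EEight.FrameHom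

variable {a : Fin 8 → Lat}

/-- the places where the product is odd -/
def od (a : Fin 8 → Lat) (x : Lat) : Finset (Fin 8) := Finset.univ.filter fun i => Odd (form x (a i))

theorem mem_od {x : Lat} {i : Fin 8} : i ∈ od a x ↔ Odd (form x (a i)) := by
  unfold od
  rw [Finset.mem_filter]
  exact ⟨fun h => h.2, fun h => ⟨Finset.mem_univ _, h⟩⟩

theorem sq_mod (c : ℤ) : c * c % 4 = if Odd c then 1 else 0 := by
  rcases Int.even_or_odd c with h | h
  · rw [if_neg (Int.not_odd_iff_even.2 h)]
    obtain ⟨k, rfl⟩ := h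
    have : (k + k) * (k + k) = 4 * (k * k) := by ring
    omega
  · rw [if_pos h]
    obtain ⟨k, rfl⟩ := h
    have : (2 * k + 1) * (2 * k + 1) = 4 * (k * k + k) + 1 := by ring
    omega

theorem card_od (ha : Frame a) (x : Lat) : 4 ∣ (od a x).card := by
  have h1 := ha.sum_form x x
  obtain ⟨m, hm⟩ := even_form x
  have h2 : (∑ i, form x (a i) * form x (a i)) % 4 = ((od a x).card : ℤ) % 4 := by
    rw [Finset.sum_int_mod]
    rw [Finset.sum_congr rfl fun i _ => sq_mod (form x (a i))]
    rw [od, Finset.card_filter]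
    push_cast; rfl
  rw [h1, hm] at h2
  omega

theorem even_inter (ha : Frame a) (x y : Lat) : Even (od a x ∩ od a y).card := by
  have h1 := ha.sum_form x y
  have h2 : (∑ i, form x (a i) * form y (a i)) % 2 = ((od a x ∩ od a y).card : ℤ) % 2 := by
    rw [Finset.sum_int_mod]
    have h3 : ∀ i, form x (a i) * form y (a i) % 2 = if i ∈ od a x ∩ od a y then 1 else 0 := by
      intro i
      split_ifs with h
      · rw [Finset.mem_inter, mem_od, mem_od] at h
        exact Int.odd_iff.1 (h.1.mul h.2)
      · rw [Finset.mem_inter, mem_od, mem_od, ← Int.odd_mul] at h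
        exact Int.even_iff.1 (Int.not_odd_iff_even.1 h)
    rw [Finset.sum_congr rfl fun i _ => h3 i, Finset.sum_ite_mem, Finset.univ_inter, Finset.sum_const,
      nsmul_eq_mul, mul_one]
  rw [h1] at h2
  rw [Nat.even_iff]
  omega

/-- the completion of a triple -/
theorem exists_block (ha : Frame a) {i j k m : Fin 8} (hij : i ≠ j) (hik : i ≠ k) (him : i ≠ m)
    (hjk : j ≠ k) (hjm : j ≠ m) (hkm : k ≠ m) :
    ∃ x, i ∈ od a x ∧ j ∈ od a x ∧ k ∈ od a x ∧ (od a x).card = 4 := by
  let t : Fin 4 → Fin 8 := ![i, j, k, m]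
  have ht : Function.Injective t := by
    intro p q hpq
    fin_cases p <;> fin_cases q <;> simp_all [t]
  let φ : Lat →+ (Fin 4 → ZMod 2) :=
    { toFun := fun x s => ((form x (a (t s)) : ℤ) : ZMod 2)
      map_zero' := by
        funext s
        have : form 0 (a (t s)) = 0 := by simp [form]
        rw [this]; simp
      map_add' := fun x y => by
        funext s
        rw [form_add_left]; push_cast; rfl }
  let H : Submodule (ZMod 2) (Fin 4 → ZMod 2) := AddSubgroup.toZModSubmodule 2 φ.range
  have hH : ∀ v, v ∈ H ↔ ∃ x, φ x = v := fun v => Iff.rfl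
  have hcast : ∀ n : ℤ, ((n : ℤ) : ZMod 2) = 1 ↔ Odd n := by
    intro n
    rw [← Int.not_even_iff_odd, ← ZMod.intCast_eq_zero_iff_even]
    generalize ((n : ℤ) : ZMod 2) = z
    revert z; decide
  by_cases htop : H = ⊤
  · obtain ⟨x, hx⟩ := (hH ![1, 1, 1, 0]).1 (by rw [htop]; trivial)
    have h0 : i ∈ od a x := mem_od.2 ((hcast _).1 (congrFun hx 0))
    have h1 : j ∈ od a x := mem_od.2 ((hcast _).1 (congrFun hx 1))
    have h2 : k ∈ od a x := mem_od.2 ((hcast _).1 (congrFun hx 2))
    have h3 : m ∉ od a x := by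
      intro h
      have h4 := (hcast _).2 (mem_od.1 h)
      have h5 : ((form x (a m) : ℤ) : ZMod 2) = 0 := congrFun hx 3
      rw [h5] at h4
      exact absurd h4 (by decide)
    refine ⟨x, h0, h1, h2, ?_⟩
    have h4 : (od a x).card < 8 := by
      have h5 : od a x ⊂ Finset.univ := by
        rw [Finset.ssubset_univ_iff]
        intro h6
        exact h3 (by rw [h6]; exact Finset.mem_univ _)
      have := Finset.card_lt_card h5
      simpa using this
    have h5 : 0 < (od a x).card := Finset.card_pos.2 ⟨i, h0⟩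
    have := card_od ha x
    omega
  · obtain ⟨f, hf, hle⟩ := Submodule.exists_le_ker_of_lt_top H (lt_top_iff_ne_top.2 htop)
    let c : Fin 4 → ℤ := fun s => if f (Pi.single s 1) = 1 then 1 else 0
    have hc : ∀ s, ((c s : ℤ) : ZMod 2) = f (Pi.single s 1) := by
      intro s
      simp only [c]
      generalize f (Pi.single s 1) = z
      revert z; decide
    have heven : ∀ x, Even (∑ s, c s * form x (a (t s))) := by
      intro x
      rw [← ZMod.intCast_eq_zero_iff_even]
      have h1 : f (φ x) = 0 := hle ((hH _).2 ⟨x, rfl⟩)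
      rw [LinearMap.pi_apply_eq_sum_univ] at h1
      rw [← h1]
      push_cast
      refine Finset.sum_congr rfl fun s _ => ?_
      rw [hc, mul_comm, smul_eq_mul]
      congr 2
      funext j
      rw [Pi.single_apply]
      simp only [eq_comm]
    obtain ⟨y, hy⟩ := exists_half (u := ∑ s, c s • a (t s)) (by
      intro x
      rw [form_sum_left]
      have e : ∑ s, form (c s • a (t s)) x = ∑ s, c s * form x (a (t s)) :=
        Finset.sum_congr rfl fun s _ => by rw [form_smul_left, form_comm x]
      rw [e]; exact heven x)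
    have hval : ∀ s, form y (a (t s)) = c s := by
      intro s
      have h1 : form (∑ s, c s • a (t s)) (a (t s)) = 2 * c s := by
        rw [form_sum_left, Finset.sum_eq_single s]
        · rw [form_smul_left, ha.root]; ring
        · intro p _ hp
          rw [form_smul_left, ha.orth _ _ fun h => hp (ht h), mul_zero]
        · intro h; exact absurd (Finset.mem_univ s) h
      rw [hy, form_smul_left] at h1
      omega
    have hnorm : 2 * form y y = ∑ s, c s * c s := by
      have h1 : form (∑ s, c s • a (t s)) y = ∑ s, c s * c s := by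
        rw [form_sum_left]
        exact Finset.sum_congr rfl fun s _ => by rw [form_smul_left, form_comm, hval]
      rw [hy, form_smul_left] at h1
      exact h1
    obtain ⟨q, hq⟩ := even_form y
    have hc01 : ∀ s, c s = 0 ∨ c s = 1 := by
      intro s
      simp only [c]
      split_ifs
      · right; rfl
      · left; rfl
    have hex : ∃ s, c s = 1 := by
      by_contra hcon
      push Not at hcon
      apply hf
      apply LinearMap.pi_ext'
      intro s
      apply LinearMap.ext_ring
      rcases hc01 s with h | h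
      · have h1 := hc s
        rw [h] at h1
        rw [LinearMap.comp_apply, LinearMap.zero_comp, LinearMap.zero_apply]
        show f (Pi.single s 1) = 0
        rw [← h1]; simp
      · exact absurd h (hcon s)
    have hsum : ∑ s, c s * c s = c 0 + c 1 + c 2 + c 3 := by
      have h1 : ∀ s, c s * c s = c s := by
        intro s
        rcases hc01 s with h | h <;> rw [h] <;> rfl
      rw [Finset.sum_congr rfl fun s _ => h1 s, Fin.sum_univ_four]
    have hall : c 0 = 1 ∧ c 1 = 1 ∧ c 2 = 1 ∧ c 3 = 1 := by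
      have h0 := hc01 0
      have h1 := hc01 1
      have h2 := hc01 2
      have h3 := hc01 3
      obtain ⟨s, hs⟩ := hex
      have h4 : c 0 = 1 ∨ c 1 = 1 ∨ c 2 = 1 ∨ c 3 = 1 := by
        fin_cases s
        · exact Or.inl hs
        · exact Or.inr (Or.inl hs)
        · exact Or.inr (Or.inr (Or.inl hs))
        · exact Or.inr (Or.inr (Or.inr hs))
      omega
    have hmem : ∀ s, t s ∈ od a y := by
      intro s
      rw [mem_od, hval]
      have : c s = 1 := by
        fin_cases s
        · exact hall.1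
        · exact hall.2.1
        · exact hall.2.2.1
        · exact hall.2.2.2
      rw [this]; decide
    refine ⟨y, hmem 0, hmem 1, hmem 2, ?_⟩
    have h1 : od a y ⊆ Finset.image t Finset.univ := by
      intro l hl
      by_contra hcon
      have h2 : form y (a l) = 0 := by
        have h3 : form (∑ s, c s • a (t s)) (a l) = 0 := by
          rw [form_sum_left]
          refine Finset.sum_eq_zero fun s _ => ?_
          rw [form_smul_left, ha.orth _ _ fun h => hcon (by
            rw [← h]; exact Finset.mem_image_of_mem t (Finset.mem_univ s)), mul_zero]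
        rw [hy, form_smul_left] at h3
        omega
      rw [mem_od, h2] at hl
      exact absurd hl (by decide)
    have h2 : Finset.image t Finset.univ ⊆ od a y := by
      intro l hl
      obtain ⟨s, _, rfl⟩ := Finset.mem_image.1 hl
      exact hmem s
    rw [Finset.Subset.antisymm h1 h2, Finset.card_image_of_injective _ ht]
    rfl

/-- the fourth point -/
theorem exists_fourth (ha : Frame a) {i j k m : Fin 8} (hij : i ≠ j) (hik : i ≠ k) (him : i ≠ m)
    (hjk : j ≠ k) (hjm : j ≠ m) (hkm : k ≠ m) :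
    ∃ x l, l ≠ i ∧ l ≠ j ∧ l ≠ k ∧ od a x = {i, j, k, l} := by
  obtain ⟨x, hi, hj, hk, hc⟩ := exists_block ha hij hik him hjk hjm hkm
  obtain ⟨l, hl, he⟩ := Finset.exists_eq_insert_iff.2
    (⟨by
      intro y hy
      simp only [Finset.mem_insert, Finset.mem_singleton] at hy
      rcases hy with rfl | rfl | rfl
      · exact hi
      · exact hj
      · exact hk, by
      rw [hc, Finset.card_insert_of_notMem (by simp [hij, hik]), Finset.card_insert_of_notMem (by simp [hjk]),
        Finset.card_singleton]⟩ : ({i, j, k} : Finset (Fin 8)) ⊆ od a x ∧ ({i, j, k} : Finset (Fin 8)).card + 1 = (od a x).card)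
  simp only [Finset.mem_insert, Finset.mem_singleton, not_or] at hl
  refine ⟨x, l, hl.1, hl.2.1, hl.2.2, ?_⟩
  rw [← he]
  ext y
  simp only [Finset.mem_insert, Finset.mem_singleton]
  tauto

theorem notMem_of_even {S T : Finset (Fin 8)} {i j m n : Fin 8} (hT : T = {i, j, m, n})
    (h : Even (S ∩ T).card) (hi : i ∈ S) (hj : j ∈ S) (hm : m ∉ S) (hij : i ≠ j) (hni : n ≠ i)
    (hnj : n ≠ j) : n ∉ S := by
  intro hn
  have e : S ∩ T = {i, j, n} := by
    ext y
    rw [hT]
    simp only [Finset.mem_inter, Finset.mem_insert, Finset.mem_singleton]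
    constructor
    · rintro ⟨h1, rfl | rfl | rfl | rfl⟩
      · left; rfl
      · right; left; rfl
      · exact absurd h1 hm
      · right; right; rfl
    · rintro (rfl | rfl | rfl)
      · exact ⟨hi, Or.inl rfl⟩
      · exact ⟨hj, Or.inr (Or.inl rfl)⟩
      · exact ⟨hn, Or.inr (Or.inr (Or.inr rfl))⟩
  rw [e, Finset.card_insert_of_notMem (by simp [hij, Ne.symm hni]),
    Finset.card_insert_of_notMem (by simp [Ne.symm hnj]), Finset.card_singleton] at h
  revert h; decide

theorem swap_mid (i j k l : Fin 8) : ({i, j, k, l} : Finset (Fin 8)) = {i, k, j, l} := by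
  ext y
  simp only [Finset.mem_insert, Finset.mem_singleton]
  tauto

theorem rot_three (i j k l : Fin 8) : ({i, j, k, l} : Finset (Fin 8)) = {j, k, i, l} := by
  ext y
  simp only [Finset.mem_insert, Finset.mem_singleton]
  tauto

theorem od_comp (x : Lat) (π : Equiv.Perm (Fin 8)) (i : Fin 8) :
    i ∈ od (fun i => a (π i)) x ↔ π i ∈ od a x := by
  rw [mem_od, mem_od]

theorem sgn_eq (x : Lat) (i : Fin 8) : sgn a x i = if i ∈ od a x then -1 else 1 := by
  rw [sgn_apply]
  split_ifs with h
  · exact Int.negOnePow_odd _ (mem_od.1 h)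
  · rw [mem_od, Int.not_odd_iff_even] at h
    exact Int.negOnePow_even _ h

theorem prod_od (ha : Frame a) (x y : Lat) : ∏ i ∈ od a y, sgn a x i = 1 := by
  rw [Finset.prod_congr rfl fun i _ => sgn_eq x i, Finset.prod_ite_mem, Finset.prod_const]
  have := even_inter ha y x
  exact this.neg_one_pow

theorem code_alg : ∀ e0 e1 e2 e3 e4 e5 e6 e7 : ℤˣ, e0 * e1 * e2 * e3 = 1 → e0 * e1 * e4 * e5 = 1 →
    e0 * e2 * e4 * e6 = 1 → e1 * e2 * e4 * e7 = 1 →
    e0 * e1 * e2 * e3 * e4 * e5 * e6 * e7 = 1 ∧ e1 * e3 * e5 * e7 = 1 ∧ e2 * e3 * e6 * e7 = 1 ∧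
      e4 * e5 * e6 * e7 = 1 := by
  decide +kernel

theorem code_alg' : ∀ e0 e1 e2 e3 e4 e5 e6 e7 : ℤˣ,
    e0 * e1 * e2 * e3 * e4 * e5 * e6 * e7 = 1 → e1 * e3 * e5 * e7 = 1 → e2 * e3 * e6 * e7 = 1 →
      e4 * e5 * e6 * e7 = 1 → e0 = e3 * e5 * e6 ∧ e1 = e3 * e5 * e7 ∧ e2 = e3 * e6 * e7 ∧ e4 = e5 * e6 * e7 := by
  decide +kernel

/-- a criterion for a labelled frame -/
theorem lab_of (ha : Frame a) {x1 x2 x3 x4 : Lat} (h1 : od a x1 = {0, 1, 2, 3}) (h2 : od a x2 = {0, 1, 4, 5})
    (h3 : od a x3 = {0, 2, 4, 6}) (h4 : od a x4 = {1, 2, 4, 7}) : Lab a := by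
  intro ε
  constructor
  · rintro ⟨c1, c2, c3, c4⟩
    rw [prd_apply, Fin.prod_univ_eight] at c1
    obtain ⟨e0, e1, e2, e4⟩ := code_alg' _ _ _ _ _ _ _ _ c1 c2 c3 c4
    let g : ℤˣ → Lat → Lat := fun s x => if s = -1 then x else 0
    have hg : ∀ (s : ℤˣ) (x : Lat) (i : Fin 8), sgn a (g s x) i = if i ∈ od a x then s else 1 := by
      intro s x i
      rcases Int.units_eq_one_or s with h | h
      · have : g s x = 0 := by simp only [g]; rw [h, if_neg (by decide)]
        rw [this, h, sgn_apply]
        have h0 : form 0 (a i) = 0 := by simp [form]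
        rw [h0]; split_ifs <;> rfl
      · have : g s x = x := by simp only [g]; rw [h, if_pos rfl]
        rw [this, h, sgn_eq]
    refine ⟨g (ε 3) x1 + g (ε 5) x2 + g (ε 6) x3 + g (ε 7) x4, ?_⟩
    funext i
    rw [sgn_add, sgn_add, sgn_add, Pi.mul_apply, Pi.mul_apply, Pi.mul_apply, hg, hg, hg, hg, h1, h2, h3, h4]
    fin_cases i
    · show ε 3 * ε 5 * ε 6 * 1 = ε 0
      rw [e0, mul_one]
    · show ε 3 * ε 5 * 1 * ε 7 = ε 1
      rw [e1, mul_one]
    · show ε 3 * 1 * ε 6 * ε 7 = ε 2
      rw [e2, mul_one]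
    · show ε 3 * 1 * 1 * 1 = ε 3
      simp
    · show 1 * ε 5 * ε 6 * ε 7 = ε 4
      rw [e4, one_mul]
    · show 1 * ε 5 * 1 * 1 = ε 5
      simp
    · show 1 * 1 * ε 6 * 1 = ε 6
      simp
    · show 1 * 1 * 1 * ε 7 = ε 7
      simp
  · rintro ⟨x, rfl⟩
    have p1 := prod_od ha x x1
    have p2 := prod_od ha x x2
    have p3 := prod_od ha x x3
    have p4 := prod_od ha x x4
    rw [h1] at p1
    rw [h2] at p2
    rw [h3] at p3
    rw [h4] at p4
    have q1 : sgn a x 0 * sgn a x 1 * sgn a x 2 * sgn a x 3 = 1 := by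
      rw [← p1]
      rw [Finset.prod_insert (by decide), Finset.prod_insert (by decide), Finset.prod_insert (by decide),
        Finset.prod_singleton]
      simp only [mul_assoc]
    have q2 : sgn a x 0 * sgn a x 1 * sgn a x 4 * sgn a x 5 = 1 := by
      rw [← p2]
      rw [Finset.prod_insert (by decide), Finset.prod_insert (by decide), Finset.prod_insert (by decide),
        Finset.prod_singleton]
      simp only [mul_assoc]
    have q3 : sgn a x 0 * sgn a x 2 * sgn a x 4 * sgn a x 6 = 1 := by
      rw [← p3]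
      rw [Finset.prod_insert (by decide), Finset.prod_insert (by decide), Finset.prod_insert (by decide),
        Finset.prod_singleton]
      simp only [mul_assoc]
    have q4 : sgn a x 1 * sgn a x 2 * sgn a x 4 * sgn a x 7 = 1 := by
      rw [← p4]
      rw [Finset.prod_insert (by decide), Finset.prod_insert (by decide), Finset.prod_insert (by decide),
        Finset.prod_singleton]
      simp only [mul_assoc]
    obtain ⟨c1, c2, c3, c4⟩ := code_alg _ _ _ _ _ _ _ _ q1 q2 q3 q4
    refine ⟨?_, c2, c3, c4⟩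
    rw [prd_apply, Fin.prod_univ_eight]
    exact c1

/-- **Every frame has a labelling.** -/
theorem exists_lab (ha : Frame a) : ∃ π : Equiv.Perm (Fin 8), Lab (fun i => a (π i)) := by
  obtain ⟨x1, p3, n1, n2, n3, o1⟩ := exists_fourth ha (i := 0) (j := 1) (k := 2) (m := 3) (by decide) (by decide)
    (by decide) (by decide) (by decide) (by decide)
  obtain ⟨p4, hp4⟩ : ∃ p4 : Fin 8, p4 ∉ od a x1 := by
    by_contra hcon
    push Not at hcon
    have : (Finset.univ : Finset (Fin 8)).card ≤ (od a x1).card := Finset.card_le_card fun i _ => hcon i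
    rw [o1] at this
    have h4 := Finset.card_le_four (a := (0 : Fin 8)) (b := 1) (c := 2) (d := p3)
    rw [Finset.card_univ, Fintype.card_fin] at this
    omega
  have m0 : (0 : Fin 8) ∈ od a x1 := by rw [o1]; simp
  have m1' : (1 : Fin 8) ∈ od a x1 := by rw [o1]; simp
  have m2 : (2 : Fin 8) ∈ od a x1 := by rw [o1]; simp
  have m3 : p3 ∈ od a x1 := by rw [o1]; simp
  have n40 : p4 ≠ 0 := fun h => hp4 (h ▸ m0)
  have n41 : p4 ≠ 1 := fun h => hp4 (h ▸ m1')
  have n42 : p4 ≠ 2 := fun h => hp4 (h ▸ m2)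
  have n43 : p4 ≠ p3 := fun h => hp4 (h ▸ m3)
  obtain ⟨x2, p5, q1, q2, q3, o2⟩ := exists_fourth ha (i := 0) (j := 1) (k := p4) (m := 2) (by decide)
    (Ne.symm n40) (by decide) (Ne.symm n41) (by decide) n42
  have r5 : p5 ∉ od a x1 := notMem_of_even o2 (even_inter ha x1 x2) m0 m1' hp4 (by decide) q1 q2
  obtain ⟨x3, p6, s1, s2, s3, o3⟩ := exists_fourth ha (i := 0) (j := 2) (k := p4) (m := 1) (by decide)
    (Ne.symm n40) (by decide) (Ne.symm n42) (by decide) n41
  have r6 : p6 ∉ od a x1 := notMem_of_even o3 (even_inter ha x1 x3) m0 m2 hp4 (by decide) s1 s2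
  have k20 : (0 : Fin 8) ∈ od a x2 := by rw [o2]; simp
  have k21 : (1 : Fin 8) ∈ od a x2 := by rw [o2]; simp
  have k24 : p4 ∈ od a x2 := by rw [o2]; simp
  have k25 : p5 ∈ od a x2 := by rw [o2]; simp
  have k22 : (2 : Fin 8) ∉ od a x2 := by
    rw [o2]
    simp only [Finset.mem_insert, Finset.mem_singleton, not_or]
    exact ⟨by decide, by decide, Ne.symm n42, fun h => r5 (h ▸ m2)⟩
  have r6' : p6 ∉ od a x2 := by
    refine notMem_of_even (i := 0) (j := p4) (m := 2) ?_ (even_inter ha x2 x3) k20 k24 k22 (Ne.symm n40) s1 s3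
    rw [o3]; exact swap_mid _ _ _ _
  obtain ⟨x4, p7, t1, t2, t3, o4⟩ := exists_fourth ha (i := 1) (j := 2) (k := p4) (m := 0) (by decide)
    (Ne.symm n41) (by decide) (Ne.symm n42) (by decide) n40
  have r7 : p7 ∉ od a x1 := notMem_of_even o4 (even_inter ha x1 x4) m1' m2 hp4 (by decide) t1 t2
  have r7' : p7 ∉ od a x2 := by
    refine notMem_of_even (i := 1) (j := p4) (m := 2) ?_ (even_inter ha x2 x4) k21 k24 k22 (Ne.symm n41) t1 t3
    rw [o4]; exact swap_mid _ _ _ _
  have k32 : (2 : Fin 8) ∈ od a x3 := by rw [o3]; simp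
  have k34 : p4 ∈ od a x3 := by rw [o3]; simp
  have k36 : p6 ∈ od a x3 := by rw [o3]; simp
  have k31 : (1 : Fin 8) ∉ od a x3 := by
    rw [o3]
    simp only [Finset.mem_insert, Finset.mem_singleton, not_or]
    exact ⟨by decide, by decide, Ne.symm n41, fun h => r6 (h ▸ m1')⟩
  have r7'' : p7 ∉ od a x3 := by
    refine notMem_of_even (i := 2) (j := p4) (m := 1) ?_ (even_inter ha x3 x4) k32 k34 k31 (Ne.symm n42) t2 t3
    rw [o4]; exact rot_three _ _ _ _
  -- all the points are distinct
  have d50 : p5 ≠ 0 := q1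
  have d51 : p5 ≠ 1 := q2
  have d54 : p5 ≠ p4 := q3
  have d52 : p5 ≠ 2 := fun h => r5 (h ▸ m2)
  have d53 : p5 ≠ p3 := fun h => r5 (h ▸ m3)
  have d60 : p6 ≠ 0 := s1
  have d62 : p6 ≠ 2 := s2
  have d64 : p6 ≠ p4 := s3
  have d61 : p6 ≠ 1 := fun h => r6 (h ▸ m1')
  have d63 : p6 ≠ p3 := fun h => r6 (h ▸ m3)
  have d65 : p6 ≠ p5 := fun h => r6' (h ▸ k25)
  have d71 : p7 ≠ 1 := t1
  have d72 : p7 ≠ 2 := t2
  have d74 : p7 ≠ p4 := t3
  have d70 : p7 ≠ 0 := fun h => r7 (h ▸ m0)
  have d73 : p7 ≠ p3 := fun h => r7 (h ▸ m3)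
  have d75 : p7 ≠ p5 := fun h => r7' (h ▸ k25)
  have d76 : p7 ≠ p6 := fun h => r7'' (h ▸ k36)
  let f : Fin 8 → Fin 8 := ![0, 1, 2, p3, p4, p5, p6, p7]
  have hf : Function.Injective f := by
    have hnd : ([0, 1, 2, p3, p4, p5, p6, p7] : List (Fin 8)).Nodup := by
      simp only [List.nodup_cons, List.mem_cons, List.not_mem_nil, or_false, not_or, List.nodup_nil,
        not_false_iff, and_true]
      exact ⟨⟨by decide, by decide, Ne.symm n1, Ne.symm n40, Ne.symm d50, Ne.symm d60, Ne.symm d70⟩,
        ⟨by decide, Ne.symm n2, Ne.symm n41, Ne.symm d51, Ne.symm d61, Ne.symm d71⟩,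
        ⟨Ne.symm n3, Ne.symm n42, Ne.symm d52, Ne.symm d62, Ne.symm d72⟩,
        ⟨Ne.symm n43, Ne.symm d53, Ne.symm d63, Ne.symm d73⟩,
        ⟨Ne.symm d54, Ne.symm d64, Ne.symm d74⟩, ⟨Ne.symm d65, Ne.symm d75⟩, Ne.symm d76⟩
    exact List.nodup_ofFn.1 (show (List.ofFn f).Nodup from hnd)
  let π : Equiv.Perm (Fin 8) := Equiv.ofBijective f (Finite.injective_iff_bijective.1 hf)
  have hb := ha.comp π
  have hod : ∀ (x : Lat) (T : Finset (Fin 8)), od a x = T.map ⟨f, hf⟩ → od (fun i => a (π i)) x = T := by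
    intro x T h
    ext i
    rw [od_comp, h]
    exact Finset.mem_map' ⟨f, hf⟩
  refine ⟨π, lab_of hb (x1 := x1) (x2 := x2) (x3 := x3) (x4 := x4) (hod _ _ ?_) (hod _ _ ?_) (hod _ _ ?_)
    (hod _ _ ?_)⟩
  · rw [o1, Finset.map_insert, Finset.map_insert, Finset.map_insert, Finset.map_singleton]; rfl
  · rw [o2, Finset.map_insert, Finset.map_insert, Finset.map_insert, Finset.map_singleton]; rfl
  · rw [o3, Finset.map_insert, Finset.map_insert, Finset.map_insert, Finset.map_singleton]; rfl
  · rw [o4, Finset.map_insert, Finset.map_insert, Finset.map_insert, Finset.map_singleton]; rfl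

end Cfsg.Agent.OddHalf.D9.EEight.FrameCode

end

-- merged: Cfsg.Agent.OddHalf.D9.EEight.InvRoot
section

/-!
# Every involution of `W(E₈)` negates a root (helper528)

`exists_neg_root`. Proof: let `g` be an involution which negates no root. The parity of `f(x) = (x, g x)` is additive; on
a labelled frame its sign vector is a code word; if it is not trivial, there is a block on which `f` is odd, and the half
sums of the block give a root `r` with `f(r)` even and `g r ≠ r`; so `(r, g r) = 0`. Put `r`, `g r` into a labelled frame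
`a` as `a 0`, `a 1`. The norm 4 vectors `n = a p ± a q` congruent to `a 0 - a 1` mod 2 satisfy `g n = ± n` (otherwise
`(n - g n)/2` is a negated root), and `g n = - n` is impossible for `n ≠ ±(a 0 - a 1)`; so `g` interchanges `a 0`, `a 1` and
fixes the other six: this is not integral.
-/

set_option autoImplicit false

namespace Cfsg.Agent.OddHalf.D9.EEight.InvRoot

open Matrix Cfsg.Agent.OddHalf.D9.EEight Cfsg.Agent.OddHalf.D9.EEight.FrameBase
  Cfsg.Agent.OddHalf.D9.EEight.FrameHom Cfsg.Agent.OddHalf.D9.EEight.FrameCode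
  Cfsg.Agent.OddHalf.D9.EEight.Move

variable {a : Fin 8 → Lat}

theorem form_add_sq (x y : Lat) : form (x + y) (x + y) = form x x + 2 * form x y + form y y := by
  rw [form_add_left, form_add_right, form_add_right, form_comm y x]; ring

theorem form_sub_sq (x y : Lat) : form (x - y) (x - y) = form x x - 2 * form x y + form y y := by
  rw [form_sub_left, form_sub_right, form_sub_right, form_comm y x]; ring

/-! ### Half sums -/

/-- the vector with products 1 on the support of a code word -/
theorem exists_code (ha : Frame a) (hl : Lab a) {ε : Sg} (hε : IsCode ε) :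
    ∃ y, ∀ i, form y (a i) = if ε i = -1 then 1 else 0 := by
  obtain ⟨x, hx⟩ := (hl ε).1 hε
  have h1 : ∀ i, ∃ m : ℤ, form x (a i) - (if ε i = -1 then 1 else 0) = 2 * m := by
    intro i
    have h2 := congrFun hx i
    rw [sgn_apply] at h2
    split_ifs with h
    · rw [h, Int.negOnePow_eq_neg_one_iff] at h2
      obtain ⟨k, hk⟩ := h2
      exact ⟨k, by omega⟩
    · have h3 : ε i = 1 := by
        rcases Int.units_eq_one_or (ε i) with h4 | h4
        · exact h4
        · exact absurd h4 h
      rw [h3, Int.negOnePow_eq_one_iff] at h2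
      obtain ⟨k, hk⟩ := h2
      exact ⟨k, by omega⟩
  choose m hm using h1
  refine ⟨x - ∑ i, m i • a i, fun i => ?_⟩
  rw [form_sub_left, ha.form_sum, ← hm i]; ring

/-- the 14 blocks -/
def blocks : List (Fin 8 × Fin 8 × Fin 8 × Fin 8) :=
  [(0, 1, 2, 3), (0, 1, 4, 5), (0, 1, 6, 7), (0, 2, 4, 6), (0, 2, 5, 7), (0, 3, 4, 7), (0, 3, 5, 6),
   (4, 5, 6, 7), (2, 3, 6, 7), (2, 3, 4, 5), (1, 3, 5, 7), (1, 3, 4, 6), (1, 2, 5, 6), (1, 2, 4, 7)]

/-- the sign vector of four points -/
def bv (i j k l : Fin 8) : Sg := fun m => if m = i ∨ m = j ∨ m = k ∨ m = l then -1 else 1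

theorem blocks_spec : ∀ b ∈ blocks, IsCode (bv b.1 b.2.1 b.2.2.1 b.2.2.2) ∧ b.1 < b.2.1 ∧ b.2.1 < b.2.2.1 ∧
    b.2.2.1 < b.2.2.2 := by
  intro b hb
  simp only [blocks, List.mem_cons, List.not_mem_nil, or_false] at hb
  rcases hb with rfl | rfl | rfl | rfl | rfl | rfl | rfl | rfl | rfl | rfl | rfl | rfl | rfl | rfl <;>
    exact ⟨by decide +kernel, by decide, by decide, by decide⟩

theorem blocks_cover (e3 e5 e6 e7 : ℤˣ) : (e3 = 1 ∧ e5 = 1 ∧ e6 = 1 ∧ e7 = 1) ∨
    ∃ b ∈ blocks, ![e3 * e5 * e6, e3 * e5 * e7, e3 * e6 * e7, e3, e5 * e6 * e7, e5, e6, e7] b.1 = -1 ∧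
      ![e3 * e5 * e6, e3 * e5 * e7, e3 * e6 * e7, e3, e5 * e6 * e7, e5, e6, e7] b.2.1 = -1 ∧
      ![e3 * e5 * e6, e3 * e5 * e7, e3 * e6 * e7, e3, e5 * e6 * e7, e5, e6, e7] b.2.2.1 = -1 ∧
      ![e3 * e5 * e6, e3 * e5 * e7, e3 * e6 * e7, e3, e5 * e6 * e7, e5, e6, e7] b.2.2.2 = -1 := by
  rcases Int.units_eq_one_or e3 with rfl | rfl <;> rcases Int.units_eq_one_or e5 with rfl | rfl <;>
    rcases Int.units_eq_one_or e6 with rfl | rfl <;> rcases Int.units_eq_one_or e7 with rfl | rfl
  · exact Or.inl ⟨rfl, rfl, rfl, rfl⟩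
  · exact Or.inr ⟨(1, 2, 4, 7), by decide, by decide, by decide, by decide, by decide⟩
  · exact Or.inr ⟨(0, 2, 4, 6), by decide, by decide, by decide, by decide, by decide⟩
  · exact Or.inr ⟨(0, 1, 6, 7), by decide, by decide, by decide, by decide, by decide⟩
  · exact Or.inr ⟨(0, 1, 4, 5), by decide, by decide, by decide, by decide, by decide⟩
  · exact Or.inr ⟨(0, 2, 5, 7), by decide, by decide, by decide, by decide, by decide⟩
  · exact Or.inr ⟨(1, 2, 5, 6), by decide, by decide, by decide, by decide, by decide⟩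
  · exact Or.inr ⟨(4, 5, 6, 7), by decide, by decide, by decide, by decide, by decide⟩
  · exact Or.inr ⟨(0, 1, 2, 3), by decide, by decide, by decide, by decide, by decide⟩
  · exact Or.inr ⟨(0, 3, 4, 7), by decide, by decide, by decide, by decide, by decide⟩
  · exact Or.inr ⟨(1, 3, 4, 6), by decide, by decide, by decide, by decide, by decide⟩
  · exact Or.inr ⟨(2, 3, 6, 7), by decide, by decide, by decide, by decide, by decide⟩
  · exact Or.inr ⟨(2, 3, 4, 5), by decide, by decide, by decide, by decide, by decide⟩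
  · exact Or.inr ⟨(1, 3, 5, 7), by decide, by decide, by decide, by decide, by decide⟩
  · exact Or.inr ⟨(0, 3, 5, 6), by decide, by decide, by decide, by decide, by decide⟩
  · exact Or.inr ⟨(0, 1, 2, 3), by decide, by decide, by decide, by decide, by decide⟩

theorem code_cover {ε : Sg} (h : IsCode ε) : (∀ i, ε i = 1) ∨
    ∃ i j k l : Fin 8, i < j ∧ j < k ∧ k < l ∧ IsCode (bv i j k l) ∧ ε i = -1 ∧ ε j = -1 ∧ ε k = -1 ∧ ε l = -1 := by
  obtain ⟨c1, c2, c3, c4⟩ := h
  rw [prd_apply, Fin.prod_univ_eight] at c1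
  obtain ⟨e0, e1, e2, e4⟩ := code_alg' _ _ _ _ _ _ _ _ c1 c2 c3 c4
  have he : ε = ![ε 3 * ε 5 * ε 6, ε 3 * ε 5 * ε 7, ε 3 * ε 6 * ε 7, ε 3, ε 5 * ε 6 * ε 7, ε 5, ε 6, ε 7] := by
    funext i
    fin_cases i
    · exact e0
    · exact e1
    · exact e2
    · rfl
    · exact e4
    · rfl
    · rfl
    · rfl
  rcases blocks_cover (ε 3) (ε 5) (ε 6) (ε 7) with ⟨h3, h5, h6, h7⟩ | ⟨b, hb, h1, h2, h3, h4⟩
  · left
    intro i
    rw [he, h3, h5, h6, h7]
    fin_cases i <;> simp
  · right
    obtain ⟨s1, s2, s3, s4⟩ := blocks_spec b hb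
    rw [← he] at h1 h2 h3 h4
    exact ⟨_, _, _, _, s2, s3, s4, s1, h1, h2, h3, h4⟩

/-- the half sum of a block -/
theorem exists_half_block (ha : Frame a) (hl : Lab a) {i j k l : Fin 8} (hij : i < j) (hjk : j < k) (hkl : k < l)
    (hb : IsCode (bv i j k l)) : ∃ s, (2 : ℤ) • s = a i + a j + a k + a l := by
  obtain ⟨y, hy⟩ := exists_code ha hl hb
  refine ⟨y, ?_⟩
  apply ha.ext
  intro m
  have h1 : form ((2 : ℤ) • y) (a m) = if bv i j k l m = -1 then 2 else 0 := by
    rw [form_smul_left, hy m]
    split_ifs <;> rfl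
  rw [h1]
  have hne : i ≠ j ∧ i ≠ k ∧ i ≠ l ∧ j ≠ k ∧ j ≠ l ∧ k ≠ l :=
    ⟨hij.ne, (hij.trans hjk).ne, (hij.trans (hjk.trans hkl)).ne, hjk.ne, (hjk.trans hkl).ne, hkl.ne⟩
  obtain ⟨n1, n2, n3, n4, n5, n6⟩ := hne
  rw [form_add_left, form_add_left, form_add_left]
  unfold bv
  by_cases c1 : m = i
  · subst c1
    rw [ha.root, ha.orth _ _ (Ne.symm n1), ha.orth _ _ (Ne.symm n2), ha.orth _ _ (Ne.symm n3)]
    simp
  · by_cases c2 : m = j
    · subst c2
      rw [ha.root, ha.orth _ _ n1, ha.orth _ _ (Ne.symm n4), ha.orth _ _ (Ne.symm n5)]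
      simp
    · by_cases c3 : m = k
      · subst c3
        rw [ha.root, ha.orth _ _ n2, ha.orth _ _ n4, ha.orth _ _ (Ne.symm n6)]
        simp
      · by_cases c4 : m = l
        · subst c4
          rw [ha.root, ha.orth _ _ n3, ha.orth _ _ n5, ha.orth _ _ n6]
          simp
        · rw [ha.orth _ _ (Ne.symm c1), ha.orth _ _ (Ne.symm c2), ha.orth _ _ (Ne.symm c3),
            ha.orth _ _ (Ne.symm c4)]
          rw [if_neg (by rw [if_neg (by simp [c1, c2, c3, c4])]; decide)]
          simp

/-! ### The parity of `(x, g x)` -/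

section

variable {g : W}

/-- the parity of `(x, g x)` -/
def ev (g : W) (x : Lat) : Prop := Even (form x (ap g x))

theorem form_add_self (hg : g * g = 1) (x y : Lat) :
    form (x + y) (ap g (x + y)) = form x (ap g x) + form y (ap g y) + 2 * form x (ap g y) := by
  have h : form y (ap g x) = form x (ap g y) := by
    rw [form_comm, ← form_ap g, ← ap_mul, hg, ap_one]
  rw [ap_add, form_add_left, form_add_right, form_add_right, h]; ring

theorem ev_add (hg : g * g = 1) {x y : Lat} : ev g (x + y) ↔ (ev g x ↔ ev g y) := by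
  unfold ev
  rw [form_add_self hg, Int.even_add, Int.even_add]
  simp

theorem ev_neg {x : Lat} : ev g (-x) ↔ ev g x := by
  unfold ev
  rw [ap_neg, form_neg_left, form_neg_right, neg_neg]

theorem ev_sub (hg : g * g = 1) {x y : Lat} : ev g (x - y) ↔ (ev g x ↔ ev g y) := by
  rw [sub_eq_add_neg, ev_add hg, ev_neg]

theorem ev_two (s : Lat) : ev g ((2 : ℤ) • s) := by
  unfold ev
  rw [ap_smul, form_smul_left]
  exact ⟨form s ((2 : ℤ) • ap g s), by ring⟩

/-- Step 1: a root `r` with `(r, g r)` even and `g r ≠ r`. -/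
theorem exists_even_root (hg : g * g = 1) (hne : g ≠ 1) (ha : Frame a) (hl : Lab a) :
    ∃ r, IsRoot r ∧ ev g r ∧ ap g r ≠ r := by
  by_contra hcon
  push Not at hcon
  -- the sign vector of `ev` on the frame
  let φ : Sg := fun i => (form (a i) (ap g (a i))).negOnePow
  have hφ : ∀ i, ev g (a i) ↔ φ i = 1 := fun i => (Int.negOnePow_eq_one_iff _).symm
  have hφ' : ∀ i, ¬ ev g (a i) ↔ φ i = -1 := by
    intro i
    rw [hφ]
    rcases Int.units_eq_one_or (φ i) with h | h <;> rw [h] <;> decide
  have hblock : ∀ i j k l : Fin 8, i < j → j < k → k < l → IsCode (bv i j k l) → φ i * φ j * φ k * φ l = 1 := by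
    intro i j k l hij hjk hkl hb
    obtain ⟨s, hs⟩ := exists_half_block ha hl hij hjk hkl hb
    have h1 := ev_two (g := g) s
    rw [hs, ev_add hg, ev_add hg, ev_add hg, hφ, hφ, hφ, hφ] at h1
    revert h1
    generalize φ i = e1
    generalize φ j = e2
    generalize φ k = e3
    generalize φ l = e4
    revert e1 e2 e3 e4
    decide
  have hcode : IsCode φ := by
    have c1 := hblock 0 1 2 3 (by decide) (by decide) (by decide) (by decide +kernel)
    have c2 := hblock 0 1 4 5 (by decide) (by decide) (by decide) (by decide +kernel)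
    have c3 := hblock 0 2 4 6 (by decide) (by decide) (by decide) (by decide +kernel)
    have c4 := hblock 1 2 4 7 (by decide) (by decide) (by decide) (by decide +kernel)
    obtain ⟨d1, d2, d3, d4⟩ := code_alg _ _ _ _ _ _ _ _ c1 c2 c3 c4
    refine ⟨?_, d2, d3, d4⟩
    rw [prd_apply, Fin.prod_univ_eight]
    exact d1
  rcases code_cover hcode with h | ⟨i, j, k, l, hij, hjk, hkl, hb, h1, h2, h3, h4⟩
  · -- all fixed
    apply hne
    apply ext_ap
    intro x
    apply ha.ext
    intro i
    have h1 := hcon (a i) (ha.root i) ((hφ i).2 (h i))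
    rw [ap_one, ← h1, form_ap, h1]
  · obtain ⟨s, hs⟩ := exists_half_block ha hl hij hjk hkl hb
    have n1 : i ≠ j := hij.ne
    have n2 : i ≠ k := (hij.trans hjk).ne
    have n3 : i ≠ l := (hij.trans (hjk.trans hkl)).ne
    have n4 : j ≠ k := hjk.ne
    have n5 : j ≠ l := (hjk.trans hkl).ne
    have n6 : k ≠ l := hkl.ne
    rw [← hφ'] at h1 h2 h3 h4
    have hsi : ∀ m, 2 * form s (a m) = form (a i) (a m) + form (a j) (a m) + form (a k) (a m) + form (a l) (a m) := by
      intro m
      rw [← form_smul_left, hs, form_add_left, form_add_left, form_add_left]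
    have si : form s (a i) = 1 := by
      have := hsi i
      rw [ha.root, ha.orth _ _ (Ne.symm n1), ha.orth _ _ (Ne.symm n2), ha.orth _ _ (Ne.symm n3)] at this
      omega
    have sj : form s (a j) = 1 := by
      have := hsi j
      rw [ha.root, ha.orth _ _ n1, ha.orth _ _ (Ne.symm n4), ha.orth _ _ (Ne.symm n5)] at this
      omega
    have sk : form s (a k) = 1 := by
      have := hsi k
      rw [ha.root, ha.orth _ _ n2, ha.orth _ _ n4, ha.orth _ _ (Ne.symm n6)] at this
      omega
    have sl : form s (a l) = 1 := by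
      have := hsi l
      rw [ha.root, ha.orth _ _ n3, ha.orth _ _ n5, ha.orth _ _ n6] at this
      omega
    have hsr : form s s = 2 := by
      have h5 : form ((2 : ℤ) • s) s = 4 := by
        rw [hs, form_add_left, form_add_left, form_add_left, form_comm (a i), form_comm (a j), form_comm (a k),
          form_comm (a l), si, sj, sk, sl]; rfl
      rw [form_smul_left] at h5
      omega
    by_cases hes : ev g s
    · -- `s`, `s - a i - a j`, … are fixed
      have key : ∀ p q, p ≠ q → form s (a p) = 1 → form s (a q) = 1 → ¬ ev g (a p) → ¬ ev g (a q) →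
          ap g (a p) + ap g (a q) = a p + a q := by
        intro p q hpq hp hq ep eq
        have f1 : IsRoot (s - a p - a q) := by
          show form _ _ = 2
          rw [form_sub_sq, form_sub_sq, form_sub_left, hsr, hp, hq, ha.root, ha.root, ha.orth p q hpq]; rfl
        have f2 : ev g (s - a p - a q) := by
          rw [ev_sub hg, ev_sub hg]; tauto
        have f3 := hcon _ f1 f2
        have f4 := hcon s hsr hes
        rw [ap_sub, ap_sub, f4] at f3
        have f5 : s - ap g (a p) - ap g (a q) + (ap g (a p) + ap g (a q)) + (a p + a q) =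
            s - a p - a q + (ap g (a p) + ap g (a q)) + (a p + a q) := by rw [f3]
        have f6 : s - ap g (a p) - ap g (a q) + (ap g (a p) + ap g (a q)) + (a p + a q) = s + (a p + a q) := by abel
        have f7 : s - a p - a q + (ap g (a p) + ap g (a q)) + (a p + a q) = s + (ap g (a p) + ap g (a q)) := by abel
        rw [f6, f7] at f5
        exact (add_left_cancel f5).symm
      have e1 := key i j n1 si sj h1 h2
      have e2 := key i k n2 si sk h1 h3
      have e3 := key j k n4 sj sk h2 h3
      have e4 : (2 : ℤ) • ap g (a i) = (2 : ℤ) • a i := by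
        have e5 : (2 : ℤ) • ap g (a i) = (ap g (a i) + ap g (a j)) + (ap g (a i) + ap g (a k)) -
            (ap g (a j) + ap g (a k)) := by rw [two_smul]; abel
        rw [e5, e1, e2, e3, two_smul]; abel
      have e5 := two_smul_inj e4
      apply h1
      unfold ev
      rw [e5, ha.root]; decide
    · have key : ∀ p, form s (a p) = 1 → ¬ ev g (a p) → ap g s - ap g (a p) = s - a p := by
        intro p hp ep
        have f1 : IsRoot (s - a p) := by
          show form _ _ = 2
          rw [form_sub_sq, hsr, hp, ha.root]; rfl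
        have f2 : ev g (s - a p) := by
          rw [ev_sub hg]; tauto
        have f3 := hcon _ f1 f2
        rw [ap_sub] at f3
        exact f3
      have e1 := key i si h1
      have e2 := key j sj h2
      have e3 := key k sk h3
      have e4 := key l sl h4
      -- `2 (g s - s) = 4 (g s - s)`
      have e5 : (2 : ℤ) • ap g s = ap g (a i) + ap g (a j) + ap g (a k) + ap g (a l) := by
        rw [← ap_smul, hs, ap_add, ap_add, ap_add]
      have e6 : (2 : ℤ) • ap g s = (2 : ℤ) • s := by
        have e7 : (4 : ℤ) • ap g s - (ap g (a i) + ap g (a j) + ap g (a k) + ap g (a l)) =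
            (4 : ℤ) • s - (a i + a j + a k + a l) := by
          have e8 : (4 : ℤ) • ap g s - (ap g (a i) + ap g (a j) + ap g (a k) + ap g (a l)) =
            (ap g s - ap g (a i)) + (ap g s - ap g (a j)) + (ap g s - ap g (a k)) + (ap g s - ap g (a l)) := by
            rw [show (4 : ℤ) = 1 + 1 + 1 + 1 by norm_num]
            simp only [add_smul, one_smul]; abel
          rw [e8, e1, e2, e3, e4, show (4 : ℤ) = 1 + 1 + 1 + 1 by norm_num]
          simp only [add_smul, one_smul]; abel
        rw [← e5, ← hs] at e7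
        have e9 : (4 : ℤ) • ap g s - (2 : ℤ) • ap g s = (2 : ℤ) • ap g s := by
          rw [← sub_smul]; norm_num
        have e10 : (4 : ℤ) • s - (2 : ℤ) • s = (2 : ℤ) • s := by
          rw [← sub_smul]; norm_num
        rw [e9, e10] at e7
        exact e7
      apply hes
      unfold ev
      rw [two_smul_inj e6, hsr]; decide

end

/-! ### The standard frame -/

/-- the standard frame -/
def a0 : Fin 8 → Lat :=
  ![![0, 0, 0, 0, 0, 0, 1, 0], ![0, 0, 0, 0, 1, 0, 0, 0], ![0, 0, 1, 0, 0, 0, 0, 0], ![2, 2, 3, 4, 3, 2, 1, 0],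
    ![0, 1, 0, 0, 0, 0, 0, 0], ![2, 3, 4, 6, 5, 4, 3, 2], ![0, 1, 1, 2, 2, 2, 1, 0], ![0, 1, 1, 2, 1, 0, 0, 0]]

theorem frame_a0 : Frame a0 where
  root := by unfold form; decide +kernel
  orth := by unfold form; decide +kernel

theorem exists_frame : ∃ a : Fin 8 → Lat, Frame a ∧ Lab a := by
  obtain ⟨π, hπ⟩ := exists_lab frame_a0
  exact ⟨_, frame_a0.comp π, hπ⟩

theorem lab_map {a : Fin 8 → Lat} (hl : Lab a) (w : W) : Lab (fun i => ap w (a i)) := by
  intro ε
  rw [hl]
  have h : ∀ x, sgn (fun i => ap w (a i)) (ap w x) = sgn a x := by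
    intro x
    funext i
    rw [sgn_apply, sgn_apply, form_ap]
  constructor
  · rintro ⟨x, hx⟩
    exact ⟨ap w x, by rw [h, hx]⟩
  · rintro ⟨x, hx⟩
    refine ⟨ap w⁻¹ x, ?_⟩
    rw [← h, ap_ap_inv, hx]

/-- orthogonal roots as the first two members of a labelled frame -/
theorem exists_frame_pair {r s : Lat} (hr : IsRoot r) (hs : IsRoot s) (hrs : form r s = 0) :
    ∃ a : Fin 8 → Lat, Frame a ∧ Lab a ∧ a 0 = r ∧ a 1 = s := by
  obtain ⟨a, ha, hl⟩ := exists_frame
  obtain ⟨w, hw1, hw2⟩ := trans2 hr hs hrs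
  obtain ⟨v, hv1, hv2⟩ := trans2 (ha.root 0) (ha.root 1) (ha.orth 0 1 (by decide))
  refine ⟨_, ha.map (w⁻¹ * v), lab_map hl (w⁻¹ * v), ?_, ?_⟩
  · rw [ap_mul, hv1, ← hw1, ap_inv_ap]
  · rw [ap_mul, hv2, ← hw2, ap_inv_ap]

/-- **Every involution negates a root.** -/
theorem exists_neg_root {g : W} (hg : g * g = 1) (hne : g ≠ 1) : ∃ r, IsRoot r ∧ ap g r = -r := by
  by_contra hcon
  push Not at hcon
  obtain ⟨b, hb, hbl⟩ := exists_frame
  obtain ⟨r, hr, her, hfix⟩ := exists_even_root hg hne hb hbl
  have hgr : IsRoot (ap g r) := isRoot_ap hr g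
  have horth : form r (ap g r) = 0 := by
    obtain ⟨h1, h2⟩ := root_bound hr hgr
    obtain ⟨m, hm⟩ := her
    rcases (show form r (ap g r) = -2 ∨ form r (ap g r) = 0 ∨ form r (ap g r) = 2 by omega) with h | h | h
    · exact absurd (eq_neg_of_form hr hgr h) (hcon r hr)
    · exact h
    · exact absurd (eq_of_form hr hgr h).symm hfix
  obtain ⟨a, ha, hl, h0, h1⟩ := exists_frame_pair hr hgr horth
  have g0 : ap g (a 0) = a 1 := by rw [h0, h1]
  have g1 : ap g (a 1) = a 0 := by rw [h1, ← ap_mul, hg, ap_one, h0]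
  -- norm 4 vectors congruent to `a 0 - a 1`
  have key : ∀ p q : Fin 8, 1 < p → p < q → IsCode (bv 0 1 p q) → ∀ e : ℤ, (e = 1 ∨ e = -1) →
      ap g (a p + e • a q) = a p + e • a q := by
    intro p q hp hpq hcode e he
    have n0p : (0 : Fin 8) ≠ p := (lt_trans (by decide) hp).ne
    have n1p : (1 : Fin 8) ≠ p := hp.ne
    have n0q : (0 : Fin 8) ≠ q := (lt_trans (lt_trans (by decide) hp) hpq).ne
    have n1q : (1 : Fin 8) ≠ q := (lt_trans hp hpq).ne
    have npq : p ≠ q := hpq.ne
    have he2 : e * e = 1 := by rcases he with h | h <;> rw [h] <;> rfl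
    obtain ⟨s, hs⟩ := exists_half_block ha hl (i := 0) (j := 1) (by decide) hp hpq hcode
    -- `n - (a 0 - a 1) = 2 m`
    have hnm : ∃ m, a p + e • a q - (a 0 - a 1) = (2 : ℤ) • m := by
      rcases he with h | h
      · refine ⟨s - a 0, ?_⟩
        rw [h, smul_sub, hs, one_smul, two_smul]; abel
      · refine ⟨s - a 0 - a q, ?_⟩
        rw [h, smul_sub, smul_sub, hs, neg_smul, one_smul, two_smul, two_smul]; abel
    obtain ⟨m, hm⟩ := hnm
    set n : Lat := a p + e • a q with hn
    have hgn : ap g n = (2 : ℤ) • ap g m + (a 1 - a 0) := by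
      have e1 : n = (2 : ℤ) • m + (a 0 - a 1) := by rw [← hm]; abel
      rw [e1, ap_add, ap_smul, ap_sub, g0, g1]
    have hhalf : ∃ t, n - ap g n = (2 : ℤ) • t := by
      refine ⟨m - ap g m + (a 0 - a 1), ?_⟩
      have e1 : n = (2 : ℤ) • m + (a 0 - a 1) := by rw [← hm]; abel
      rw [hgn]
      conv_lhs => rw [e1]
      rw [smul_add, smul_sub, two_smul ℤ (a 0 - a 1)]; abel
    obtain ⟨t, ht⟩ := hhalf
    have hnn : form n n = 4 := by
      rw [hn, form_add_left, form_add_right, form_add_right, form_smul_left, form_smul_right, form_smul_left,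
        form_smul_right, ha.root, ha.root, ha.orth p q npq, ha.orth q p (Ne.symm npq)]
      linear_combination 2 * he2
    have hgt : ap g t = -t := by
      apply two_smul_inj
      rw [← ap_smul, ← ht, ap_sub, ← ap_mul, hg, ap_one, smul_neg, ← ht]; abel
    have hfc : form (ap g n) n = form n (ap g n) := form_comm _ _
    have hgg : form (ap g n) (ap g n) = 4 := by rw [form_ap, hnn]
    have htt : 4 * form t t = 8 - 2 * form n (ap g n) := by
      have e1 : form ((2 : ℤ) • t) ((2 : ℤ) • t) = 4 * form t t := by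
        rw [form_smul_left, form_smul_right]; ring
      rw [← e1, ← ht, form_sub_sq, hnn, hgg]; ring
    have hnonneg := form_nonneg (n + ap g n)
    rw [form_add_sq, hnn, hgg] at hnonneg
    obtain ⟨u, hu⟩ := even_form t
    have htn := form_nonneg t
    rcases (show form t t = 0 ∨ form t t = 2 ∨ form t t = 4 by omega) with h | h | h
    · have := form_eq_zero h
      rw [this, smul_zero] at ht
      exact (sub_eq_zero.1 ht).symm
    · exact absurd hgt (hcon t h)
    · -- `g n = - n`
      exfalso
      have h5 : form (n + ap g n) (n + ap g n) = 0 := by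
        rw [form_add_sq, hnn, hgg]; omega
      have h6 : ap g n = -n := eq_neg_of_add_eq_zero_right (form_eq_zero h5)
      -- `(a 0 - a 1 + n)/2` is a negated root
      have h7 : ap g (m + (a 0 - a 1)) = -(m + (a 0 - a 1)) := by
        apply two_smul_inj
        have e1 : (2 : ℤ) • (m + (a 0 - a 1)) = n + (a 0 - a 1) := by
          rw [smul_add, ← hm, two_smul]; abel
        rw [← ap_smul, smul_neg, e1, ap_add, h6, ap_sub, g0, g1]; abel
      refine absurd h7 (hcon _ ?_)
      show form _ _ = 2
      have e1 : (2 : ℤ) • (m + (a 0 - a 1)) = n + (a 0 - a 1) := by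
        rw [smul_add, ← hm, two_smul]; abel
      have e2 : form ((2 : ℤ) • (m + (a 0 - a 1))) ((2 : ℤ) • (m + (a 0 - a 1))) =
          4 * form (m + (a 0 - a 1)) (m + (a 0 - a 1)) := by
        rw [form_smul_left, form_smul_right]; ring
      have e3 : form n (a 0 - a 1) = 0 := by
        rw [hn, form_sub_right, form_add_left, form_add_left, form_smul_left, form_smul_left,
          ha.orth p 0 (Ne.symm n0p), ha.orth q 0 (Ne.symm n0q), ha.orth p 1 (Ne.symm n1p),
          ha.orth q 1 (Ne.symm n1q)]; ring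
      have e4 : form (a 0 - a 1) (a 0 - a 1) = 4 := by
        rw [form_sub_left, form_sub_right, form_sub_right, ha.root, ha.root, ha.orth 0 1 (by decide),
          ha.orth 1 0 (by decide)]; rfl
      rw [e1, form_add_sq, hnn, e3, e4] at e2
      omega
  -- the other six are fixed
  have hfixed : ∀ p q : Fin 8, 1 < p → p < q → IsCode (bv 0 1 p q) → ap g (a p) = a p := by
    intro p q hp hpq hcode
    have k1 := key p q hp hpq hcode 1 (Or.inl rfl)
    have k2 := key p q hp hpq hcode (-1) (Or.inr rfl)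
    apply two_smul_inj
    have e1 : ap g (a p + (1 : ℤ) • a q) + ap g (a p + (-1 : ℤ) • a q) = (2 : ℤ) • ap g (a p) := by
      rw [ap_add, ap_add, ap_smul, ap_smul, one_smul, neg_smul, one_smul, two_smul]; abel
    rw [← e1, k1, k2, one_smul, neg_smul, one_smul, two_smul]; abel
  have f2 := hfixed 2 3 (by decide) (by decide) (by decide +kernel)
  have f4 := hfixed 4 5 (by decide) (by decide) (by decide +kernel)
  have f6 := hfixed 6 7 (by decide) (by decide) (by decide +kernel)
  obtain ⟨s, hs⟩ := exists_half_block ha hl (i := 0) (j := 2) (k := 4) (l := 6) (by decide) (by decide)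
    (by decide) (by decide +kernel)
  have h5 : (2 : ℤ) • (ap g s - s) = a 1 - a 0 := by
    rw [smul_sub, ← ap_smul, hs, ap_add, ap_add, ap_add, g0, f2, f4, f6]; abel
  have h6 : form ((2 : ℤ) • (ap g s - s)) ((2 : ℤ) • (ap g s - s)) = 4 * form (ap g s - s) (ap g s - s) := by
    rw [form_smul_left, form_smul_right]; ring
  have e4 : form (a 1 - a 0) (a 1 - a 0) = 4 := by
    rw [form_sub_left, form_sub_right, form_sub_right, ha.root, ha.root, ha.orth 0 1 (by decide),
      ha.orth 1 0 (by decide)]; rfl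
  rw [h5, e4] at h6
  obtain ⟨u, hu⟩ := even_form (ap g s - s)
  omega

end Cfsg.Agent.OddHalf.D9.EEight.InvRoot

end

-- merged: Cfsg.Agent.OddHalf.D9.EEight.Extend
section

/-!
# Extension of orthogonal roots to frames; involutions are products of orthogonal reflections (helper528)

`extend`: orthogonal eigenroots of an involution `w` extend to a frame of eigenroots. `inv_frame` = (W1). `rf_five`.
-/

set_option autoImplicit false

namespace Cfsg.Agent.OddHalf.D9.EEight.Extend

open Matrix Cfsg.Agent.OddHalf.D9.EEight Cfsg.Agent.OddHalf.D9.EEight.FrameBase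
  Cfsg.Agent.OddHalf.D9.EEight.FrameHom Cfsg.Agent.OddHalf.D9.EEight.FrameCode
  Cfsg.Agent.OddHalf.D9.EEight.Move Cfsg.Agent.OddHalf.D9.EEight.InvRoot

/-- `k` orthogonal roots -/
structure Orth {k : ℕ} (b : Fin k → Lat) : Prop where
  root : ∀ i, form (b i) (b i) = 2
  orth : ∀ i j, i ≠ j → form (b i) (b j) = 0

variable {k : ℕ} {b : Fin k → Lat}

theorem Orth.form_sum (h : Orth b) (c : Fin k → ℤ) (j : Fin k) :
    form (∑ i, c i • b i) (b j) = 2 * c j := by
  rw [form_sum_left, Finset.sum_eq_single j]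
  · rw [form_smul_left, h.root]; ring
  · intro i _ hi
    rw [form_smul_left, h.orth i j hi, mul_zero]
  · intro h; exact absurd (Finset.mem_univ j) h

/-- the product of the reflections in the `b i` with `c i = 1` -/
theorem exists_prod (h : Orth b) (c : Fin k → ℤ) (hc : ∀ i, c i * c i = c i) :
    ∃ u : W, ∀ x, ap u x = x - ∑ i, (c i * form x (b i)) • b i := by
  have hadd : ∀ x y : Lat, ∑ i, (c i * form (x + y) (b i)) • b i =
      ∑ i, (c i * form x (b i)) • b i + ∑ i, (c i * form y (b i)) • b i := by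
    intro x y
    rw [← Finset.sum_add_distrib]
    exact Finset.sum_congr rfl fun i _ => by rw [form_add_left, mul_add, add_smul]
  have hsmul : ∀ (n : ℤ) (x : Lat), ∑ i, (c i * form (n • x) (b i)) • b i =
      n • ∑ i, (c i * form x (b i)) • b i := by
    intro n x
    rw [Finset.smul_sum]
    exact Finset.sum_congr rfl fun i _ => by rw [form_smul_left, smul_smul]; congr 1; ring
  obtain ⟨u, hu⟩ := exists_iso
    { toFun := fun x => x - ∑ i, (c i * form x (b i)) • b i
      map_add' := fun x y => by rw [hadd]; abel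
      map_smul' := fun n x => by rw [hsmul, RingHom.id_apply, smul_sub] } (by
    intro x y
    show form (x - ∑ i, (c i * form x (b i)) • b i) (y - ∑ i, (c i * form y (b i)) • b i) = form x y
    have e1 : form (∑ i, (c i * form x (b i)) • b i) (∑ i, (c i * form y (b i)) • b i) =
        2 * ∑ i, c i * (form x (b i) * form y (b i)) := by
      rw [form_sum_right, Finset.mul_sum]
      refine Finset.sum_congr rfl fun j _ => ?_
      rw [form_smul_right, h.form_sum]
      linear_combination 2 * form x (b j) * form y (b j) * hc j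
    have e2 : form (∑ i, (c i * form x (b i)) • b i) y = ∑ i, c i * (form x (b i) * form y (b i)) := by
      rw [form_sum_left]
      refine Finset.sum_congr rfl fun j _ => ?_
      rw [form_smul_left, form_comm (b j) y]; ring
    have e3 : form x (∑ i, (c i * form y (b i)) • b i) = ∑ i, c i * (form x (b i) * form y (b i)) := by
      rw [form_sum_right]
      refine Finset.sum_congr rfl fun j _ => ?_
      rw [form_smul_right]; ring
    rw [form_sub_left, form_sub_right, form_sub_right, e1, e2, e3]; ring)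
  exact ⟨u, hu⟩

theorem prod_self (h : Orth b) {c : Fin k → ℤ} (hc : ∀ i, c i * c i = c i) {u : W}
    (hu : ∀ x, ap u x = x - ∑ i, (c i * form x (b i)) • b i) : u * u = 1 := by
  apply ext_ap
  intro x
  rw [ap_mul, ap_one, hu (ap u x), hu x]
  have e : ∀ i, (c i * form (x - ∑ j, (c j * form x (b j)) • b j) (b i)) • b i =
      (-(c i * form x (b i))) • b i := by
    intro i
    congr 1
    rw [form_sub_left, h.form_sum]
    linear_combination -2 * form x (b i) * hc i
  rw [Finset.sum_congr rfl fun i _ => e i]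
  simp only [neg_smul, Finset.sum_neg_distrib]
  abel

theorem prod_apply (h : Orth b) {c : Fin k → ℤ} {u : W}
    (hu : ∀ x, ap u x = x - ∑ i, (c i * form x (b i)) • b i) (j : Fin k) :
    ap u (b j) = (1 - 2 * c j) • b j := by
  rw [hu, Finset.sum_eq_single j]
  · rw [h.root, sub_smul, one_smul, mul_comm]
  · intro i _ hi
    rw [h.orth j i (Ne.symm hi), mul_zero, zero_smul]
  · intro h; exact absurd (Finset.mem_univ j) h

/-- fewer than 8 orthogonal roots do not span -/
theorem prod_ne_neg (h : Orth b) (hk : k < 8) {u : W}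
    (hu : ∀ x, ap u x = x - ∑ i, ((1 : ℤ) * form x (b i)) • b i) : u ≠ neg := by
  intro hn
  have h1 : ∀ x : Lat, ∑ i, form x (b i) • b i = (2 : ℤ) • x := by
    intro x
    have h2 := hu x
    rw [hn, ap_neg_one] at h2
    simp only [one_mul] at h2
    rw [two_smul]
    have h3 : x - (x - ∑ i, form x (b i) • b i) = x - -x := by rw [← h2]
    rw [sub_sub_cancel] at h3
    rw [h3]; abel
  have h2 : ∀ j : Fin 8, ∑ i, (GM *ᵥ b i) j * b i j = 2 := by
    intro j
    have h3 := congrFun (h1 (Pi.single j 1)) j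
    rw [Finset.sum_apply] at h3
    have h4 : ((2 : ℤ) • (Pi.single j 1 : Lat)) j = 2 := by simp
    rw [h4] at h3
    rw [← h3]
    refine Finset.sum_congr rfl fun i _ => ?_
    have h5 : form (Pi.single j 1) (b i) = (GM *ᵥ b i) j := by
      unfold form
      rw [single_dotProduct, one_mul]
    rw [← h5]; rfl
  have h3 : ∑ j : Fin 8, ∑ i, (GM *ᵥ b i) j * b i j = 16 := by
    rw [Finset.sum_congr rfl fun j _ => h2 j]
    simp
  rw [Finset.sum_comm] at h3
  have h4 : ∀ i, ∑ j : Fin 8, (GM *ᵥ b i) j * b i j = 2 := by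
    intro i
    have h5 := h.root i
    unfold form at h5
    rw [dotProduct_comm] at h5
    exact h5
  rw [Finset.sum_congr rfl fun i _ => h4 i] at h3
  simp at h3
  omega

/-- one more root -/
theorem exists_next (h : Orth b) (hk : k < 8) {w : W} (hw : w * w = 1)
    (hb : ∀ i, ap w (b i) = b i ∨ ap w (b i) = -b i) :
    ∃ r, IsRoot r ∧ (∀ i, form r (b i) = 0) ∧ (ap w r = r ∨ ap w r = -r) := by
  classical
  let c : Fin k → ℤ := fun i => if ap w (b i) = -b i then 1 else 0
  have hc : ∀ i, c i * c i = c i := by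
    intro i
    simp only [c]
    split_ifs <;> rfl
  have hcw : ∀ i, ap w (b i) = (1 - 2 * c i) • b i := by
    intro i
    simp only [c]
    split_ifs with h1
    · rw [h1, show (1 : ℤ) - 2 * 1 = -1 by norm_num, neg_smul, one_smul]
    · rcases hb i with h2 | h2
      · rw [h2, show (1 : ℤ) - 2 * 0 = 1 by norm_num, one_smul]
      · exact absurd h2 h1
  have hc1 : ∀ i, (1 - 2 * c i) * (1 - 2 * c i) = 1 := by
    intro i
    linear_combination 4 * hc i
  obtain ⟨u, hu⟩ := exists_prod h c hc
  have huu := prod_self h hc hu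
  have hinv : w⁻¹ = w := inv_eq_of_mul_eq_one_left hw
  have hcomm : w * u = u * w := by
    apply ext_ap
    intro x
    rw [ap_mul, ap_mul, hu, hu, ap_sub]
    congr 1
    have e1 : ap w (∑ i, (c i * form x (b i)) • b i) = ∑ i, (c i * form x (b i)) • ap w (b i) := by
      have h2 : ∀ s : Finset (Fin k), ap w (∑ i ∈ s, (c i * form x (b i)) • b i) =
          ∑ i ∈ s, (c i * form x (b i)) • ap w (b i) := by
        intro s
        induction s using Finset.induction_on with
        | empty => simp
        | insert i s hi ih => rw [Finset.sum_insert hi, Finset.sum_insert hi, ap_add, ap_smul, ih]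
      exact h2 _
    rw [e1]
    refine Finset.sum_congr rfl fun i _ => ?_
    have e2 : form (ap w x) (b i) = (1 - 2 * c i) * form x (b i) := by
      rw [← form_ap w, ← ap_mul, hw, ap_one, hcw i, form_smul_right]
    rw [hcw i, smul_smul, e2]
    congr 1; ring
  by_cases hg : w * u = 1
  · -- `w = u`: take a root orthogonal to all the `b i`
    have hwu : w = u := by
      rw [← mul_one w, ← huu, ← mul_assoc, hg, one_mul]
    obtain ⟨v, hv⟩ := exists_prod h (fun _ => 1) (fun _ => rfl)
    have hvv := prod_self h (c := fun _ => 1) (fun _ => rfl) hv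
    have hvn := prod_ne_neg h hk hv
    have hnn : (neg : W) * neg = 1 := ext_ap fun x => by rw [ap_mul, ap_neg_one, ap_neg_one, neg_neg, ap_one]
    have hnc : (neg : W) * v = v * neg := ext_ap fun x => by rw [ap_mul, ap_mul, ap_neg_one, ap_neg_one, ap_neg]
    obtain ⟨r, hr, hgr⟩ := exists_neg_root (g := neg * v) (by
      calc (neg : W) * v * (neg * v) = (v * neg) * (neg * v) := by rw [hnc]
        _ = v * (neg * neg) * v := by group
        _ = 1 := by rw [hnn, mul_one, hvv]) (by
      intro h1
      apply hvn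
      have h2 : (neg : W) * (neg * v) = neg * 1 := by rw [h1]
      rwa [← mul_assoc, hnn, one_mul, mul_one] at h2)
    rw [ap_mul, ap_neg_one, neg_inj] at hgr
    have horth : ∀ i, form r (b i) = 0 := by
      intro i
      have h1 : form (ap v r) (b i) = form r (b i) := by rw [hgr]
      rw [hv, form_sub_left, h.form_sum] at h1
      omega
    refine ⟨r, hr, horth, Or.inl ?_⟩
    rw [hwu, hu, Finset.sum_eq_zero, sub_zero]
    intro i _
    rw [horth i, mul_zero, zero_smul]
  · obtain ⟨r, hr, hgr⟩ := exists_neg_root (g := w * u) (by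
      calc w * u * (w * u) = w * u * (u * w) := by rw [hcomm]
        _ = w * (u * u) * w := by group
        _ = 1 := by rw [huu, mul_one, hw]) hg
    have hfix : ∀ i, ap (w * u) (b i) = b i := by
      intro i
      rw [ap_mul, prod_apply h hu, ap_smul, hcw i, smul_smul, hc1, one_smul]
    have horth : ∀ i, form r (b i) = 0 := by
      intro i
      have h1 := form_ap (w * u) r (b i)
      rw [hgr, hfix i, form_neg_left] at h1
      omega
    refine ⟨r, hr, horth, Or.inr ?_⟩
    rw [← hgr, ap_mul]
    congr 1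
    rw [hu, Finset.sum_eq_zero, sub_zero]
    intro i _
    rw [horth i, mul_zero, zero_smul]

/-- **Extension to frames.** -/
theorem extend {w : W} (hw : w * w = 1) : ∀ (m k : ℕ), k + m = 8 → ∀ b : Fin k → Lat, Orth b →
    (∀ i, ap w (b i) = b i ∨ ap w (b i) = -b i) →
    ∃ a : Fin 8 → Lat, Frame a ∧ (∀ i, ap w (a i) = a i ∨ ap w (a i) = -a i) ∧
      ∀ i : Fin k, ∃ j, a j = b i := by
  intro m
  induction m with
  | zero =>
    intro k hk b h hb
    have hk8 : k = 8 := by omega
    subst hk8
    exact ⟨b, ⟨h.root, h.orth⟩, hb, fun i => ⟨i, rfl⟩⟩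
  | succ m ih =>
    intro k hk b h hb
    obtain ⟨r, hr, horth, hwr⟩ := exists_next h (by omega) hw hb
    obtain ⟨a, ha, ha2, ha3⟩ := ih (k + 1) (by omega) (Fin.cons r b)
      ⟨by
        intro i
        refine Fin.cases ?_ ?_ i
        · exact hr
        · intro i; exact h.root i, by
        intro i j
        refine Fin.cases ?_ ?_ i
        · refine Fin.cases ?_ ?_ j
          · intro hne; exact absurd rfl hne
          · intro j _; exact horth j
        · intro i
          refine Fin.cases ?_ ?_ j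
          · intro _
            show form (b i) r = 0
            rw [form_comm]; exact horth i
          · intro j hne
            exact h.orth i j fun h' => hne (by rw [h'])⟩
      (by
        intro i
        refine Fin.cases ?_ ?_ i
        · exact hwr
        · intro i; exact hb i)
    exact ⟨a, ha, ha2, fun i => ha3 i.succ⟩

/-- **(W1)** -/
theorem inv_frame (w : W) (hw : w * w = 1) : ∃ d : Sg →* W, IsFr det neg IsRefl d ∧ w ∈ d.range := by
  obtain ⟨a, ha, hwa, -⟩ := extend hw 8 0 rfl Fin.elim0 ⟨fun i => i.elim0, fun i => i.elim0⟩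
    (fun i => i.elim0)
  obtain ⟨π, hπ⟩ := exists_lab ha
  have hs : ∀ i, ∃ s : ℤˣ, ap w (a (π i)) = (s : ℤ) • a (π i) := by
    intro i
    rcases hwa (π i) with h | h
    · exact ⟨1, by rw [h]; simp⟩
    · exact ⟨-1, by rw [h]; simp⟩
  choose s hs using hs
  exact ⟨dh (ha.comp π), isFr (ha.comp π) hπ, s, (eq_dh (ha.comp π) hs).symm⟩

/-! ### No 5-cycle on orthogonal lines -/


end Cfsg.Agent.OddHalf.D9.EEight.Extend

end
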