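import Cfsg.Agent.OddHalf.D9.EEight.AutC
import Cfsg.Agent.OddHalf.D9.EEight.Counts
import Cfsg.Agent.OddHalf.UQ4
import Cfsg.Agent.OddHalf.D4.EvenEFacts
import Cfsg.Agent.OddHalf.D9.EEight.Extend
import Mathlib
import Cfsg.Agent.OddHalf.D9.EEight.FtHom
import Cfsg.Agent.OddHalf.D9.EEight.RfFive
import Cfsg.Agent.OddHalf.D9.Amb
import Cfsg.Agent.OddHalf.D9.EEight.Id.Onto
import Cfsg.Agent.StdO8.Model
import Cfsg.Agent.OddHalf.D9.EEight.Id.Main

-- merged: Cfsg.Agent.OddHalf.D9.EEight.StepFive
section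

/-!
# Steps (4) (end) and (5): `z` commutes with no other conjugate of itself
-/

set_option autoImplicit false

namespace Cfsg.Agent.OddHalf.D9.EEight

open Subgroup Equiv

variable {W : Type*} [Group W] {δ : W →* ℤˣ} {c : W} {Rf : W → Prop}
variable {G : Type*} [Group G] {φ : W → G} {R : Subgroup G}

namespace Cfg

variable (C : Cfg δ c φ R) (E : EF δ c Rf)

include C E

theorem sq_of_det {h : G} {w : W} (h2 : h * h = 1) (hw : Ac δ φ h w) (hδ : δ w = -1) :
    w * w = 1 := by
  have h1 := hw.mul hw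
  rw [h2] at h1
  rcases C.ac_uniq E Ac.one h1 with h3 | h3
  · exact h3
  · rw [mul_one] at h3
    exact absurd rfl (E.cx_out w w h3 hδ).1

/-- The conjugates of `z` in `C_G(z)`: `z` and type `I₂`. -/
theorem tri [Finite G] (cF : CountF) (cE : CountE) (cD : CountD) (g : G)
    (hg : (g * φ c * g⁻¹) * φ c = φ c * (g * φ c * g⁻¹)) :
    g * φ c * g⁻¹ = φ c ∨ ∃ v : W, ∃ r ∈ R, δ v = 1 ∧ v * v = c ∧ r * r = φ c ∧
      g * φ c * g⁻¹ = φ v * r := by
  have hyy : (g * φ c * g⁻¹) * (g * φ c * g⁻¹) = 1 := by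
    have : (g * φ c * g⁻¹) * (g * φ c * g⁻¹) = g * (φ c * φ c) * g⁻¹ := by group
    rw [this, C.zz E]
    group
  obtain ⟨w, hw⟩ := C.act _ hg
  rcases Int.units_eq_one_or (δ w) with hδ | hδ
  · rcases C.kr_inv E hw hδ hyy with ⟨k, hk, hkk, hk'⟩ | h
    · left
      obtain ⟨d, hd, ε, rfl⟩ := E.inv_frame k hkk
      have hε : ε ∈ Ev := by rw [mem_Ev, ← hd.det]; exact hk
      by_cases hno : ∀ h : G, h * h = 1 → ∀ w, Ac δ φ h w → δ w = 1
      · exact C.iso_E E cF cE hd hno g hε hk'
      · push Not at hno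
        obtain ⟨b, hb, w0, hw0, hδ0⟩ := hno
        have hδ0' : δ w0 = -1 := (Int.units_eq_one_or _).resolve_left hδ0
        obtain ⟨d0, hd0, η, rfl⟩ := E.inv_frame w0 (C.sq_of_det E hb hw0 hδ0')
        rw [hd0.det] at hδ0'
        obtain ⟨D0, hD0, -⟩ := C.exists_lift hd0 hb hδ0' hw0
        obtain ⟨k, hk, hkk'⟩ := E.rf_trans _ _ (hd0.refl 0) (hd.refl 0)
        have hb2 : (φ k * D0 (sg 0) * (φ k)⁻¹) * (φ k * D0 (sg 0) * (φ k)⁻¹) = 1 := by
          have e1 : (φ k * D0 (sg 0) * (φ k)⁻¹) * (φ k * D0 (sg 0) * (φ k)⁻¹) =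
            φ k * (D0 (sg 0) * D0 (sg 0)) * (φ k)⁻¹ := by group
          rw [e1, ← map_mul, sq_one, map_one]
          group
        have hb3 : Ac δ φ (φ k * D0 (sg 0) * (φ k)⁻¹) (d (sg 0)) := by
          rw [← hkk']
          exact ((C.ac_phi hk).mul (hD0.ac _)).mul (C.ac_phi hk).inv
        obtain ⟨D, hD, -⟩ := C.exists_lift hd hb2 (by decide) hb3
        refine iso_D C E cF cD hd hD g (u := ε) ?_
        rw [hk', hD.ev _ hε]
    · exact Or.inr h
  · left
    obtain ⟨d, hd, η, rfl⟩ := E.inv_frame w (C.sq_of_det E hyy hw hδ)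
    rw [hd.det] at hδ
    obtain ⟨D, hD, hDη⟩ := C.exists_lift hd hyy hδ hw
    exact iso_D C E cF cD hd hD g (u := η) hDη.symm

/-- type `I₂` is not in `φ K₀` -/
theorem i2_not {v : W} {r : G} (hr : r ∈ R) (hv : δ v = 1) (hrr : r * r = φ c) {k : W} (hk : δ k = 1)
    (h : φ k = φ v * r) : False := by
  have h1 : r = φ (v⁻¹ * k) := by
    rw [C.mul _ _ (by rw [map_inv, hv, inv_one]) hk, C.inv' hv, h]
    group
  have h2 : δ (v⁻¹ * k) = 1 := by rw [map_mul, map_inv, hv, hk, inv_one, one_mul]
  have h3 := C.phi_mem_R E h2 (h1 ▸ hr)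
  have h4 : r * r = 1 := by
    rcases h3 with h3 | h3
    · rw [h1, h3, C.one', one_mul]
    · rw [h1, h3, C.zz E]
  rw [h4] at hrr
  exact C.z_ne E hrr.symm

/-- **Step (5)** `z` commutes with no other conjugate of itself. -/
theorem isolated [Finite G] (cF : CountF) (cE : CountE) (cD : CountD) (g : G)
    (hg : (g * φ c * g⁻¹) * φ c = φ c * (g * φ c * g⁻¹)) : g * φ c * g⁻¹ = φ c := by
  rcases C.tri E cF cE cD g hg with h | ⟨v, r, hr, hv, hvv, hrr, h⟩
  · exact h
  exfalso
  -- the conjugate by the inverse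
  have hg' : (g⁻¹ * φ c * g⁻¹⁻¹) * φ c = φ c * (g⁻¹ * φ c * g⁻¹⁻¹) := by
    have e1 : (g⁻¹ * φ c * g⁻¹⁻¹) * φ c = g⁻¹ * (φ c * (g * φ c * g⁻¹)) * g := by group
    have e2 : φ c * (g⁻¹ * φ c * g⁻¹⁻¹) = g⁻¹ * ((g * φ c * g⁻¹) * φ c) * g := by group
    rw [e1, e2, hg]
  rcases C.tri E cF cE cD g⁻¹ hg' with h' | ⟨v', r', hr', hv', hvv', hrr', h'⟩
  · have h2 : g * φ c * g⁻¹ = φ c := by
      conv_lhs => rw [← h']
      group
    rw [h2] at h
    exact C.i2_not E hr hv hrr E.c_det h
  -- a generator of `R`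
  obtain ⟨⟨ρ, hρ⟩, hgen⟩ := C.cyc.exists_generator
  have hpow : ∀ s ∈ R, ∃ j : ℤ, ρ ^ j = s := by
    intro s hs
    obtain ⟨j, hj⟩ := Subgroup.mem_zpowers_iff.1 (hgen ⟨s, hs⟩)
    exact ⟨j, congrArg Subtype.val hj⟩
  obtain ⟨m, hm⟩ := hpow _ (C.z_mem E)
  -- `x = g⁻¹ ρ g`
  have hρt : ρ * (g * φ c * g⁻¹) = (g * φ c * g⁻¹) * ρ := by
    rw [h, ← mul_assoc, C.r_comm hρ hv, mul_assoc, C.r_ab hρ hr, mul_assoc]
  have hxz : (g⁻¹ * ρ * g) * φ c = φ c * (g⁻¹ * ρ * g) := by
    have e1 : (g⁻¹ * ρ * g) * φ c = g⁻¹ * (ρ * (g * φ c * g⁻¹)) * g := by group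
    have e2 : φ c * (g⁻¹ * ρ * g) = g⁻¹ * ((g * φ c * g⁻¹) * ρ) * g := by group
    rw [e1, e2, hρt]
  obtain ⟨w, hw⟩ := C.act _ hxz
  have hxt : (g⁻¹ * ρ * g) * (φ v' * r') * (g⁻¹ * ρ * g)⁻¹ = φ v' * r' := by
    rw [← h']
    have e1 : g⁻¹ * ρ * g * (g⁻¹ * φ c * g⁻¹⁻¹) * (g⁻¹ * ρ * g)⁻¹ = g⁻¹ * (ρ * φ c * ρ⁻¹) * g := by
      group
    rw [e1, C.r_comm hρ E.c_det, mul_inv_cancel_right, inv_inv]
  have hδ : δ w = 1 := by
    by_contra hne
    have hδ' : δ w = -1 := (Int.units_eq_one_or _).resolve_left hne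
    -- `x` normalizes `R`
    have hxR : (g⁻¹ * ρ * g) * r' * (g⁻¹ * ρ * g)⁻¹ ∈ R := by
      rw [← C.ac_one_iff]
      have h1 := Ac.mul (Ac.mul hw (C.ac_one_iff.2 hr')) (Ac.inv hw)
      rwa [mul_one, mul_inv_cancel] at h1
    have e1 : (g⁻¹ * ρ * g) * (φ v' * r') * (g⁻¹ * ρ * g)⁻¹ =
        ((g⁻¹ * ρ * g) * φ v' * (g⁻¹ * ρ * g)⁻¹) * ((g⁻¹ * ρ * g) * r' * (g⁻¹ * ρ * g)⁻¹) := by
      group
    rw [e1, hw v' hv'] at hxt
    have hv'' : δ (w * v' * w⁻¹) = 1 := det_conj hv'
    have e2 : φ (v'⁻¹ * (w * v' * w⁻¹)) = r' * ((g⁻¹ * ρ * g) * r' * (g⁻¹ * ρ * g)⁻¹)⁻¹ := by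
      rw [C.mul _ _ (by rw [map_inv, hv', inv_one]) hv'', C.inv' hv', inv_mul_eq_iff_eq_mul,
        ← mul_assoc, ← hxt, mul_inv_cancel_right]
    have h3 := C.phi_mem_R E (k := v'⁻¹ * (w * v' * w⁻¹))
      (by rw [map_mul, map_inv, hv', hv'', inv_one, one_mul])
      (by rw [e2]; exact R.mul_mem hr' (R.inv_mem hxR))
    have h4 := E.cx_out v' w hvv' hδ'
    rcases h3 with h3 | h3
    · rw [inv_mul_eq_one] at h3
      apply h4.1
      rw [← mul_inv_eq_iff_eq_mul]
      exact h3.symm
    · rw [inv_mul_eq_iff_eq_mul, mul_inv_eq_iff_eq_mul, ← E.c_comm v', mul_assoc] at h3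
      exact h4.2 h3
  obtain ⟨s, hs, hx⟩ := C.exists_of_ac hw hδ
  -- the power
  have hcomm : Commute (φ w) s := (C.r_comm hs hδ).symm
  have h5 : (g⁻¹ * ρ * g) ^ m = g⁻¹ * φ c * g⁻¹⁻¹ := by
    have e1 : g⁻¹ * ρ * g = g⁻¹ * ρ * g⁻¹⁻¹ := by rw [inv_inv]
    rw [e1, conj_zpow, hm]
  have hφpow : ∃ k, δ k = 1 ∧ φ k = φ w ^ m := by
    have h6 := map_zpow (C.hom δ.ker.subtype (fun x => x.2)) ⟨w, hδ⟩ m
    exact ⟨((⟨w, hδ⟩ : δ.ker) ^ m : δ.ker), ((⟨w, hδ⟩ : δ.ker) ^ m : δ.ker).2, h6⟩
  obtain ⟨k, hk, hk'⟩ := hφpow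
  obtain ⟨j, hj⟩ := hpow s hs
  have h6 : s ^ m = φ c ^ j := by
    rw [← hj, ← hm, ← zpow_mul, ← zpow_mul, mul_comm]
  rw [hx, hcomm.mul_zpow, h6, ← hk'] at h5
  have hcj : ∃ l, δ l = 1 ∧ φ l = φ c ^ j := by
    rcases Int.even_or_odd j with ⟨i, hi⟩ | ⟨i, hi⟩
    · refine ⟨1, map_one δ, ?_⟩
      rw [hi, ← two_mul, zpow_mul, zpow_two, C.zz E, one_zpow, C.one']
    · refine ⟨c, E.c_det, ?_⟩
      rw [hi, zpow_add, zpow_mul, zpow_two, C.zz E, one_zpow, zpow_one, one_mul]
  obtain ⟨l, hl, hl'⟩ := hcj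
  rw [← hl', ← C.mul _ _ hk hl, h'] at h5
  exact C.i2_not E hr' hv' hrr' (by rw [map_mul, hk, hl, one_mul]) h5

end Cfg

end Cfsg.Agent.OddHalf.D9.EEight

end

-- merged: Cfsg.Agent.OddHalf.D9.EEight.Row
section

/-!
# The row `2.Ω₈⁺(2)`: the contradiction
-/

set_option autoImplicit false

namespace Cfsg.Agent.OddHalf.D9.EEight

open Subgroup Equiv

variable {W : Type*} [Group W] {δ : W →* ℤˣ} {c : W} {Rf : W → Prop}
variable {G : Type*} [Group G] {φ : W → G} {R : Subgroup G}

theorem countF : CountF := count_F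
theorem countE : CountE := count_E
theorem countD : CountD := count_D

/-- `z` commutes with no other conjugate. -/
theorem Cfg.isolated' [Finite G] (C : Cfg δ c φ R) (E : EF δ c Rf) (g : G)
    (hg : (g * φ c * g⁻¹) * φ c = φ c * (g * φ c * g⁻¹)) : g * φ c * g⁻¹ = φ c :=
  C.isolated E countF countE countD g hg

/-- **The row, abstract form** -/
theorem Cfg.false [Finite G] [IsSimpleGroup G] (C : Cfg δ c φ R) (E : EF δ c Rf) : False := by
  rcases UQ4.zstar (C.z_ne E) (C.zz E) with ⟨g, hg1, hg2⟩ | ⟨N, hN, hodd, hc⟩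
  · exact hg1 (C.isolated' E g hg2)
  · rcases hN.eq_bot_or_eq_top with h | h
    · -- `z` is central
      have hz : ∀ g : G, g * φ c = φ c * g := by
        intro g
        have h1 := hc g
        rw [h, Subgroup.mem_bot, mul_inv_eq_one, mul_inv_eq_iff_eq_mul] at h1
        exact h1.symm
      have hcen : φ c ∈ Subgroup.center G := Subgroup.mem_center_iff.2 hz
      have htop : Subgroup.center G = ⊤ := by
        rcases (inferInstance : (Subgroup.center G).Normal).eq_bot_or_eq_top with h2 | h2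
        · rw [h2, Subgroup.mem_bot] at hcen
          exact absurd hcen (C.z_ne E)
        · exact h2
      obtain ⟨d, hd, -⟩ := E.inv_frame 1 (mul_one 1)
      have hε : (sg 0 * sg 1 : Sg) ∈ Ev := by decide
      have hk : δ (d (sg 0 * sg 1)) = 1 := hd.det_ev ⟨_, hε⟩
      rcases E.cenK (d (sg 0 * sg 1)) (by
        intro k hk'
        apply C.inj _ _ (by rw [map_mul, hk, hk', one_mul]) (by rw [map_mul, hk, hk', one_mul])
        rw [C.mul _ _ hk hk', C.mul _ _ hk' hk]
        have h3 : φ k ∈ Subgroup.center G := by rw [htop]; trivial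
        exact (Subgroup.mem_center_iff.1 h3 _)) with h3 | h3
      · rw [← map_one d] at h3
        exact absurd (hd.inj h3) (by decide)
      · rw [← hd.neg] at h3
        exact absurd (hd.inj h3) (by decide)
    · -- `G` has odd order
      rw [h, Subgroup.card_top] at hodd
      have h2 : orderOf (φ c) = 2 := orderOf_eq_prime (by rw [pow_two]; exact C.zz E) (C.z_ne E)
      have h3 : 2 ∣ Nat.card G := h2 ▸ orderOf_dvd_natCard (φ c)
      rw [← Nat.not_even_iff_odd] at hodd
      exact hodd (even_iff_two_dvd.2 h3)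

/-- **The row**: `φ : K₀ → G` injective with `φ c = z`, `C_G(φ K₀)` a cyclic `2`-group, and the elements
of `C_G(z)` act on `φ K₀` as elements of `W`. -/
theorem false_of_hom [Finite G] [IsSimpleGroup G] (E : EF δ c Rf) (φ : δ.ker →* G)
    (hinj : Function.Injective φ) {z : G} (hz : φ ⟨c, E.c_det⟩ = z)
    (hcyc : IsCyclic (centralizer (φ.range : Set G)))
    (htwo : IsPGroup 2 (centralizer (φ.range : Set G)))
    (hact : ∀ h : G, h * z = z * h → ∃ w : W, ∀ k : δ.ker,
      h * φ k * h⁻¹ = φ ⟨w * k * w⁻¹, det_conj k.2⟩) : False := by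
  classical
  let φ' : W → G := fun w => if h : δ w = 1 then φ ⟨w, h⟩ else 1
  have hφ' : ∀ w (h : δ w = 1), φ' w = φ ⟨w, h⟩ := fun w h => dif_pos h
  refine Cfg.false (δ := δ) (c := c) (φ := φ') (R := centralizer (φ.range : Set G)) ?_ E
  exact
    { mul := by
        intro k l hk hl
        rw [hφ' k hk, hφ' l hl, hφ' (k * l) (by rw [map_mul, hk, hl, one_mul])]
        exact map_mul φ ⟨k, hk⟩ ⟨l, hl⟩
      inj := by
        intro k l hk hl h
        rw [hφ' k hk, hφ' l hl] at h
        exact congrArg Subtype.val (hinj h)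
      mem_R := by
        intro r
        rw [mem_centralizer_iff]
        constructor
        · intro h k hk
          rw [hφ' k hk]
          exact (h _ ⟨_, rfl⟩).symm
        · rintro h _ ⟨k, rfl⟩
          have := h k k.2
          rw [hφ' k k.2] at this
          exact this.symm
      cyc := hcyc
      two := htwo
      act := by
        intro h hh
        rw [hφ' c E.c_det, hz] at hh
        obtain ⟨w, hw⟩ := hact h hh
        refine ⟨w, fun k hk => ?_⟩
        rw [hφ' k hk, hw ⟨k, hk⟩, hφ' _ (det_conj hk)] }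

end Cfsg.Agent.OddHalf.D9.EEight

end

-- merged: Cfsg.Agent.OddHalf.D9.EEight.Eig
section

/-!
# Common eigenvectors of an elementary abelian group of isometries (helper109)

`exists_eig`: a finite elementary abelian `M ≤ W` has eight common eigenvectors `v i`, linearly independent, with
signs `χ : M →* Sg` injective and `det m = prd (χ m)`.
-/

set_option autoImplicit false

namespace Cfsg.Agent.OddHalf.D9.EEight.Eig

open Coord Move Fields

/-- the rational vector of a lattice vector -/
def q (x : Lat) : Fin 8 → ℚ := fun i => (x i : ℚ)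

theorem q_injective : Function.Injective q := fun x y h => by
  funext i
  have : (x i : ℚ) = (y i : ℚ) := congrFun h i
  exact_mod_cast this

theorem eq_zero_of_neg {x : Lat} (h : x = -x) : x = 0 := by
  funext i
  have := congrFun h i
  simp only [Pi.neg_apply] at this
  show x i = 0
  omega

theorem unit_smul_inj {x : Lat} (hx : x ≠ 0) {a b : ℤˣ} (h : (a : ℤ) • x = (b : ℤ) • x) : a = b := by
  rcases Int.units_eq_one_or a with rfl | rfl <;> rcases Int.units_eq_one_or b with rfl | rfl
  · rfl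
  · simp only [Units.val_one, one_smul, Units.val_neg, neg_smul] at h
    exact absurd (eq_zero_of_neg h) hx
  · simp only [Units.val_one, one_smul, Units.val_neg, neg_smul] at h
    exact absurd (eq_zero_of_neg h.symm) hx
  · rfl

theorem q_add (x y : Lat) : q (x + y) = q x + q y := by funext i; simp [q]
theorem q_sub (x y : Lat) : q (x - y) = q x - q y := by funext i; simp [q]
theorem q_neg (x : Lat) : q (-x) = - q x := by funext i; simp [q]
theorem q_zero : q 0 = 0 := by funext i; simp [q]
theorem q_smul (n : ℤ) (x : Lat) : q (n • x) = (n : ℚ) • q x := by funext i; simp [q]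
theorem q_sum {ι : Type*} (s : Finset ι) (f : ι → Lat) : q (∑ i ∈ s, f i) = ∑ i ∈ s, q (f i) := by
  classical
  induction s using Finset.induction_on with
  | empty => simp [q_zero]
  | insert i s hi ih => rw [Finset.sum_insert hi, Finset.sum_insert hi, q_add, ih]

/-- the rational linear map of an isometry -/
noncomputable def L (w : W) : (Fin 8 → ℚ) →ₗ[ℚ] (Fin 8 → ℚ) :=
  Matrix.toLin' (((w : (Matrix (Fin 8) (Fin 8) ℤ)ˣ) : Matrix (Fin 8) (Fin 8) ℤ).map (Int.castRingHom ℚ))

theorem L_q (w : W) (x : Lat) : L w (q x) = q (ap w x) := by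
  funext i
  unfold L
  rw [Matrix.toLin'_apply]
  simp [ap, q, Matrix.mulVec, dotProduct]

theorem det_L (w : W) : LinearMap.det (L w) = ((det w : ℤˣ) : ℤ) := by
  unfold L
  rw [LinearMap.det_toLin', coe_det, ← RingHom.mapMatrix_apply, ← RingHom.map_det]
  simp

/-- common eigenvectors of a set of isometries -/
def ES (l : List W) : Set Lat := {x | ∀ m ∈ l, ap m x = x ∨ ap m x = -x}

theorem span_ES (l : List W) (hl : ∀ x ∈ l, x * x = 1) (hc : ∀ x ∈ l, ∀ y ∈ l, x * y = y * x) :
    ∀ x : Lat, q x ∈ Submodule.span ℚ (q '' ES l) := by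
  induction l with
  | nil => exact fun x => Submodule.subset_span ⟨x, by simp [ES], rfl⟩
  | cons m l ih =>
    have ih' := ih (fun x hx => hl x (List.mem_cons_of_mem _ hx))
      (fun x hx y hy => hc x (List.mem_cons_of_mem _ hx) y (List.mem_cons_of_mem _ hy))
    intro x
    refine Submodule.span_le.2 ?_ (ih' x)
    rintro _ ⟨y, hy, rfl⟩
    have hm : ap m (ap m y) = y := by rw [← ap_mul, hl m List.mem_cons_self, ap_one]
    have h1 : y + ap m y ∈ ES (m :: l) := by
      intro m' hm'
      rcases List.mem_cons.1 hm' with rfl | hm'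
      · left; rw [ap_add, hm, add_comm]
      · have e : ap m' (ap m y) = ap m (ap m' y) := by
          rw [← ap_mul, ← ap_mul, hc _ (List.mem_cons_of_mem _ hm') _ List.mem_cons_self]
        rcases hy m' hm' with h | h
        · left; rw [ap_add, e, h]
        · right; rw [ap_add, e, h, ap_neg, neg_add]
    have h2 : y - ap m y ∈ ES (m :: l) := by
      intro m' hm'
      rcases List.mem_cons.1 hm' with rfl | hm'
      · right; rw [ap_sub, hm, neg_sub]
      · have e : ap m' (ap m y) = ap m (ap m' y) := by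
          rw [← ap_mul, ← ap_mul, hc _ (List.mem_cons_of_mem _ hm') _ List.mem_cons_self]
        rcases hy m' hm' with h | h
        · left; rw [ap_sub, e, h]
        · right; rw [ap_sub, e, h, ap_neg]; abel
    have h3 : q y = (1 / 2 : ℚ) • (q (y + ap m y) + q (y - ap m y)) := by
      rw [q_add, q_sub]
      rw [show q y + q (ap m y) + (q y - q (ap m y)) = (2 : ℚ) • q y by rw [two_smul]; abel, smul_smul]
      norm_num
    show q y ∈ _
    rw [h3]
    exact Submodule.smul_mem _ _ (Submodule.add_mem _ (Submodule.subset_span ⟨_, h1, rfl⟩)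
      (Submodule.subset_span ⟨_, h2, rfl⟩))

theorem span_q : Submodule.span ℚ (Set.range q) = ⊤ := by
  rw [eq_top_iff]
  rintro x -
  have : x = ∑ i, x i • q (Pi.single i 1) := by
    funext j
    rw [Finset.sum_apply]
    simp [q, Pi.single_apply]
  rw [this]
  exact Submodule.sum_mem _ fun i _ => Submodule.smul_mem _ _ (Submodule.subset_span ⟨_, rfl⟩)

/-- a basis of common eigenvectors -/
structure EB (M : Subgroup W) (v : Fin 8 → Lat) (χ : M →* Sg) : Prop where
  ap_v : ∀ (m : M) (i : Fin 8), ap (m : W) (v i) = ((χ m i : ℤˣ) : ℤ) • v i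
  inj : Function.Injective χ
  det : ∀ m : M, det (m : W) = prd (χ m)
  span : ∀ x : Lat, ∃ n : ℤ, n ≠ 0 ∧ ∃ c : Fin 8 → ℤ, n • x = ∑ i, c i • v i
  indep : ∀ c : Fin 8 → ℤ, ∑ i, c i • v i = 0 → ∀ i, c i = 0

theorem EB.ne {M : Subgroup W} {v : Fin 8 → Lat} {χ : M →* Sg} (h : EB M v χ) (i : Fin 8) : v i ≠ 0 := by
  classical
  intro h0
  have := h.indep (Pi.single i 1) (by
    rw [Finset.sum_eq_single i]
    · simp [h0]
    · intro j _ hj; simp [hj]
    · simp) i
  simp at this

theorem exists_eig (M : Subgroup W) [Finite M] (hE : IsEl M) : ∃ (v : Fin 8 → Lat) (χ : M →* Sg), EB M v χ := by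
  classical
  have hfin : (M : Set W).Finite := Set.toFinite _
  set l : List W := hfin.toFinset.toList with hl
  have hmem : ∀ x, x ∈ l ↔ x ∈ M := fun x => by rw [hl, Finset.mem_toList, Set.Finite.mem_toFinset]; rfl
  have hsp : ⊤ ≤ Submodule.span ℚ (q '' ES l) := by
    rw [← span_q, Submodule.span_le]
    rintro _ ⟨x, rfl⟩
    exact span_ES l (fun x hx => hE.1 x ((hmem x).1 hx))
      (fun x hx y hy => hE.2 x ((hmem x).1 hx) y ((hmem y).1 hy)) x
  let b0 := Module.Basis.ofSpan hsp
  have hb0 : ∀ i, b0 i ∈ q '' ES l := fun i => Module.Basis.ofSpan_subset hsp ⟨i, rfl⟩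
  let e := b0.indexEquiv (Pi.basisFun ℚ (Fin 8))
  let b := b0.reindex e
  have hb : ∀ i, ∃ v, v ∈ ES l ∧ q v = b i := fun i => by
    obtain ⟨v, hv, h⟩ := hb0 (e.symm i)
    exact ⟨v, hv, by rw [h, Module.Basis.reindex_apply]⟩
  choose v hvE hvb using hb
  have hne : ∀ i, v i ≠ 0 := fun i h => b.ne_zero i (by rw [← hvb, h, q_zero])
  let s : W → Sg := fun m i => if ap m (v i) = v i then 1 else -1
  have hs : ∀ m ∈ M, ∀ i, ap m (v i) = ((s m i : ℤˣ) : ℤ) • v i := by
    intro m hm i
    show _ = ((if ap m (v i) = v i then (1 : ℤˣ) else -1 : ℤˣ) : ℤ) • v i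
    split_ifs with h
    · rw [h]; simp
    · rcases hvE i m ((hmem m).2 hm) with h1 | h1
      · exact absurd h1 h
      · rw [h1]; simp
  let χ : M →* Sg :=
    { toFun := fun m => s m
      map_one' := by
        funext i
        apply unit_smul_inj (hne i)
        rw [OneMemClass.coe_one, ← hs 1 (one_mem M), ap_one]
        simp
      map_mul' := fun m n => by
        funext i
        apply unit_smul_inj (hne i)
        rw [← hs _ (m * n).2, Pi.mul_apply, Units.val_mul, mul_smul, ← hs _ n.2, Subgroup.coe_mul, ap_mul, hs n n.2,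
          ap_smul, hs m m.2, smul_comm] }
  have hχ : ∀ (m : M) (i : Fin 8), ap (m : W) (v i) = ((χ m i : ℤˣ) : ℤ) • v i := fun m i => hs m m.2 i
  have hL : ∀ (m : M) (i : Fin 8), L (m : W) (b i) = (((χ m i : ℤˣ) : ℤ) : ℚ) • b i := fun m i => by
    rw [← hvb, L_q, hχ, q_smul]
  refine ⟨v, χ, hχ, ?_, ?_, ?_, ?_⟩
  · -- injective
    rw [injective_iff_map_eq_one]
    intro m hm
    have h1 : L (m : W) = LinearMap.id := by
      apply b.ext
      intro i
      rw [hL, hm]
      simp
    apply Subtype.ext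
    apply ext_ap
    intro x
    apply q_injective
    rw [← L_q, h1]
    simp
  · intro m
    have h1 : LinearMap.toMatrix b b (L (m : W)) = Matrix.diagonal (fun i => (((χ m i : ℤˣ) : ℤ) : ℚ)) := by
      ext i j
      rw [LinearMap.toMatrix_apply, hL, map_smul, Finsupp.smul_apply, Module.Basis.repr_self, Matrix.diagonal_apply,
        Finsupp.single_apply]
      by_cases h : i = j
      · subst h; simp
      · simp [h, Ne.symm h]
    have h2 := LinearMap.det_toMatrix b (L (m : W))
    rw [h1, Matrix.det_diagonal, det_L] at h2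
    apply Units.ext
    have h3 : ((∏ i, ((χ m i : ℤˣ) : ℤ) : ℤ) : ℚ) = (((det (m : W) : ℤˣ) : ℤ) : ℚ) := by
      rw [← h2]; push_cast; rfl
    have h4 : (∏ i, ((χ m i : ℤˣ) : ℤ) : ℤ) = ((det (m : W) : ℤˣ) : ℤ) := by exact_mod_cast h3
    rw [prd_apply, ← h4, Units.coe_prod]
  · intro x
    -- clear denominators
    set r : Fin 8 → ℚ := fun i => b.repr (q x) i with hr
    refine ⟨∏ j, ((r j).den : ℤ), ?_, fun i => (r i).num * ∏ j ∈ Finset.univ.erase i, ((r j).den : ℤ), ?_⟩
    · rw [Finset.prod_ne_zero_iff]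
      intro j _
      exact_mod_cast (r j).den_nz
    · apply q_injective
      rw [q_smul, q_sum]
      have h1 : q x = ∑ i, r i • b i := (b.sum_repr (q x)).symm
      rw [h1, Finset.smul_sum]
      refine Finset.sum_congr rfl fun i _ => ?_
      rw [q_smul, hvb, smul_smul]
      congr 1
      rw [← Finset.mul_prod_erase _ _ (Finset.mem_univ i)]
      push_cast
      have h2 : ((r i).den : ℚ) * r i = (r i).num := Rat.den_mul_eq_num (r i)
      rw [← h2]
      ring
  · intro c hc i
    have h1 : ∑ i, (c i : ℚ) • b i = 0 := by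
      have := congrArg q hc
      rw [q_sum, q_zero] at this
      rw [← this]
      exact Finset.sum_congr rfl fun i _ => by rw [q_smul, hvb]
    have h2 := (Fintype.linearIndependent_iff.1 b.linearIndependent) (fun i => (c i : ℚ)) h1 i
    exact_mod_cast h2

end Cfsg.Agent.OddHalf.D9.EEight.Eig

end

-- merged: Cfsg.Agent.OddHalf.D9.EEight.EigCard
section

/-!
# `card_le` and `cx_card` of `EF det neg IsRefl` (helper109)
-/

set_option autoImplicit false

namespace Cfsg.Agent.OddHalf.D9.EEight.EigCard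

open Coord Move Fields Eig

theorem card_Sg : Nat.card Sg = 2 ^ 8 := by
  rw [Nat.card_eq_fintype_card]
  simp [Sg]

theorem card_Ev : Nat.card Ev = 2 ^ 7 := by
  have h1 : Nat.card (prd.range) = 2 := by
    have : prd.range = ⊤ := by
      rw [MonoidHom.range_eq_top]
      intro u
      rcases Int.units_eq_one_or u with rfl | rfl
      · exact ⟨1, map_one _⟩
      · exact ⟨sg 0, by decide⟩
    rw [this, Subgroup.card_top]
    simp
  have h2 := Subgroup.card_mul_index (prd.ker)
  rw [Subgroup.index_ker, h1, card_Sg] at h2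
  show Nat.card prd.ker = _
  omega

theorem finite_of_card {M : Subgroup W} {n : ℕ} (h : Nat.card M = 2 ^ n) : Finite M :=
  Nat.finite_of_card_ne_zero (by rw [h]; positivity)

theorem EB.range_le {M : Subgroup W} {v : Fin 8 → Lat} {χ : M →* Sg} (h : EB M v χ) (hK : M ≤ det.ker) :
    χ.range ≤ Ev := by
  rintro _ ⟨m, rfl⟩
  rw [mem_Ev, ← h.det]
  exact hK m.2

theorem card_le (M : Subgroup W) (hK : M ≤ det.ker) (hE : IsEl M) : Nat.card M ≤ 2 ^ 7 := by
  rcases finite_or_infinite M with hf | hf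
  · obtain ⟨v, χ, h⟩ := exists_eig M hE
    rw [← card_Ev]
    rw [Nat.card_congr (Equiv.ofInjective χ h.inj)]
    exact Subgroup.card_le_of_le (EB.range_le h hK)
  · rw [Nat.card_eq_zero_of_infinite]; positivity

theorem cx_card (v : W) (hv : v * v = neg) (M : Subgroup W) (hK : M ≤ det.ker) (hE : IsEl M)
    (hvM : ∀ x ∈ M, v * x = x * v) : Nat.card M ≤ 2 ^ 4 := by
  classical
  rcases finite_or_infinite M with hf | hf
  swap
  · rw [Nat.card_eq_zero_of_infinite]; positivity
  obtain ⟨u, χ, h⟩ := exists_eig M hE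
  have hvv : ∀ x, ap v (ap v x) = -x := fun x => by rw [← ap_mul, hv, ap_neg_one]
  -- every character occurs twice
  have key : ∀ i, ∃ j, j ≠ i ∧ ∀ m : M, χ m j = χ m i := by
    intro i
    by_contra hcon
    push Not at hcon
    obtain ⟨n, hn, c, hc⟩ := h.span (ap v (u i))
    -- only the `i`-th coefficient is non zero
    have hc0 : ∀ j, j ≠ i → c j = 0 := by
      intro j hj
      obtain ⟨m, hm⟩ := hcon j hj
      have h1 : ap (m : W) (n • ap v (u i)) = ((χ m i : ℤˣ) : ℤ) • (n • ap v (u i)) := by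
        rw [ap_smul, ← ap_mul, ← hvM m m.2, ap_mul, h.ap_v, ap_smul, smul_comm]
      rw [hc] at h1
      have h2 : ap (m : W) (∑ k, c k • u k) = ∑ k, (c k * ((χ m k : ℤˣ) : ℤ)) • u k := by
        have : ∀ s : Finset (Fin 8), ap (m : W) (∑ k ∈ s, c k • u k) = ∑ k ∈ s, (c k * ((χ m k : ℤˣ) : ℤ)) • u k := by
          intro s
          induction s using Finset.induction_on with
          | empty => simp
          | insert k s hk ih => rw [Finset.sum_insert hk, Finset.sum_insert hk, ap_add, ih, ap_smul, h.ap_v, smul_smul]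
        exact this _
      rw [h2, Finset.smul_sum] at h1
      have h3 : ∑ k, (c k * ((χ m k : ℤˣ) : ℤ) - ((χ m i : ℤˣ) : ℤ) * c k) • u k = 0 := by
        simp only [sub_smul, Finset.sum_sub_distrib]
        rw [h1, sub_eq_zero]
        exact Finset.sum_congr rfl fun k _ => by rw [smul_smul]
      have h4 := h.indep _ h3 j
      have h5 : c j * (((χ m j : ℤˣ) : ℤ) - ((χ m i : ℤˣ) : ℤ)) = 0 := by rw [← h4]; ring
      rcases mul_eq_zero.1 h5 with h6 | h6
      · exact h6
      · exfalso
        apply hm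
        apply Units.ext
        omega
    have h1 : n • ap v (u i) = c i • u i := by
      rw [hc, Finset.sum_eq_single i]
      · intro j _ hj; rw [hc0 j hj, zero_smul]
      · intro h; exact absurd (Finset.mem_univ i) h
    have h2 : (n * n + c i * c i) • u i = 0 := by
      have e1 : (n * n) • (ap v (ap v (u i))) = (c i * c i) • u i := by
        calc (n * n) • (ap v (ap v (u i))) = n • ap v (n • ap v (u i)) := by rw [ap_smul, smul_smul]
          _ = n • (c i • ap v (u i)) := by rw [h1, ap_smul]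
          _ = c i • (n • ap v (u i)) := by rw [smul_comm]
          _ = _ := by rw [h1, smul_smul]
      rw [hvv, smul_neg] at e1
      rw [add_smul, ← e1]
      abel
    have h3 : n * n + c i * c i ≠ 0 := by
      have := mul_self_pos.2 hn
      have := mul_self_nonneg (c i)
      omega
    rcases smul_eq_zero.1 h2 with h4 | h4
    · exact h3 h4
    · exact h.ne i h4
  -- the classes
  let St : Setoid (Fin 8) :=
    { r := fun i j => ∀ m : M, χ m i = χ m j
      iseqv := ⟨fun _ _ => rfl, fun h m => (h m).symm, fun h h' m => (h m).trans (h' m)⟩ }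
  let Qt := Quotient St
  have hfq : Fintype Qt := Fintype.ofFinite Qt
  have hQ : 2 * Fintype.card Qt ≤ 8 := by
    have h1 := Finset.mul_card_image_le_card_of_maps_to (f := fun i : Fin 8 => (Quotient.mk St i : Qt))
      (s := Finset.univ) (t := (Finset.univ : Finset Qt)) (fun _ _ => Finset.mem_univ _) 2 (by
        intro b _
        obtain ⟨i, rfl⟩ := Quotient.exists_rep b
        obtain ⟨j, hj, hj2⟩ := key i
        have h2 : ({i, j} : Finset (Fin 8)) ⊆
            Finset.univ.filter (fun a : Fin 8 => (Quotient.mk St a : Qt) = Quotient.mk St i) := by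
          intro k hk
          rw [Finset.mem_insert, Finset.mem_singleton] at hk
          rw [Finset.mem_filter]
          refine ⟨Finset.mem_univ _, ?_⟩
          rcases hk with rfl | rfl
          · rfl
          · exact Quotient.sound hj2
        have h3 := Finset.card_le_card h2
        rwa [Finset.card_pair hj.symm] at h3)
    simpa using h1
  let g : M → Qt → ℤˣ := fun m => Quotient.lift (fun i => χ m i) fun i j hij => hij m
  have hg : Function.Injective g := by
    intro m m' hmm
    apply h.inj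
    funext i
    exact congrFun hmm (Quotient.mk St i)
  have h1 := Nat.card_le_card_of_injective g hg
  have h2 : Nat.card (Qt → ℤˣ) = 2 ^ Fintype.card Qt := by
    rw [Nat.card_eq_fintype_card, Fintype.card_fun]
    simp
  rw [h2] at h1
  exact h1.trans (Nat.pow_le_pow_right (by norm_num) (by omega))

end Cfsg.Agent.OddHalf.D9.EEight.EigCard

end

-- merged: Cfsg.Agent.OddHalf.D9.EEight.OutRefl
section

/-!
# `out_refl` of `EF det neg IsRefl` (helper109)
-/

set_option autoImplicit false

namespace Cfsg.Agent.OddHalf.D9.EEight.OutRefl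

open Coord Move Fields Eig EigCard

/-- every involution negates a root -/
def NegRoot : Prop := ∀ w : W, w * w = 1 → w ≠ 1 → ∃ a : Lat, IsRoot a ∧ ap w a = -a

section

variable {M : Subgroup W} {v : Fin 8 → Lat} {χ : M →* Sg}

theorem eb_ext (h : EB M v χ) {w w' : W} (he : ∀ i, ap w (v i) = ap w' (v i)) : w = w' := by
  classical
  apply ext_ap
  intro x
  obtain ⟨n, hn, c, hc⟩ := h.span x
  have h1 : ∀ u : W, n • ap u x = ∑ i, c i • ap u (v i) := by
    intro u
    rw [← ap_smul, hc]
    have : ∀ s : Finset (Fin 8), ap u (∑ i ∈ s, c i • v i) = ∑ i ∈ s, c i • ap u (v i) := by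
      intro s
      induction s using Finset.induction_on with
      | empty => simp
      | insert k s hk ih => rw [Finset.sum_insert hk, Finset.sum_insert hk, ap_add, ih, ap_smul]
    exact this _
  have h2 : n • ap w x = n • ap w' x := by
    rw [h1, h1]
    exact Finset.sum_congr rfl fun i _ => by rw [he]
  funext i
  have := congrFun h2 i
  simp only [Pi.smul_apply, smul_eq_mul] at this
  exact mul_left_cancel₀ hn this

/-- coefficients of a vector with `m x = δ x` -/
theorem eb_coeff (h : EB M v χ) {x : Lat} {m : M} {δ : ℤˣ} (hx : ap (m : W) x = (δ : ℤ) • x) {n : ℤ} {c : Fin 8 → ℤ}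
    (hc : n • x = ∑ i, c i • v i) (j : Fin 8) (hj : χ m j ≠ δ) : c j = 0 := by
  classical
  have h1 : ap (m : W) (n • x) = (δ : ℤ) • (n • x) := by rw [ap_smul, hx, smul_comm]
  rw [hc] at h1
  have h2 : ap (m : W) (∑ k, c k • v k) = ∑ k, (c k * ((χ m k : ℤˣ) : ℤ)) • v k := by
    have : ∀ s : Finset (Fin 8), ap (m : W) (∑ k ∈ s, c k • v k) = ∑ k ∈ s, (c k * ((χ m k : ℤˣ) : ℤ)) • v k := by
      intro s
      induction s using Finset.induction_on with
      | empty => simp
      | insert k s hk ih => rw [Finset.sum_insert hk, Finset.sum_insert hk, ap_add, ih, ap_smul, h.ap_v, smul_smul]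
    exact this _
  rw [h2, Finset.smul_sum] at h1
  have h3 : ∑ k, (c k * ((χ m k : ℤˣ) : ℤ) - (δ : ℤ) * c k) • v k = 0 := by
    simp only [sub_smul, Finset.sum_sub_distrib]
    rw [h1, sub_eq_zero]
    exact Finset.sum_congr rfl fun k _ => by rw [smul_smul]
  have h4 := h.indep _ h3 j
  have h5 : c j * (((χ m j : ℤˣ) : ℤ) - (δ : ℤ)) = 0 := by rw [← h4]; ring
  rcases mul_eq_zero.1 h5 with h6 | h6
  · exact h6
  · exfalso
    apply hj
    apply Units.ext
    omega

/-- the root on the line of `v i` -/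
theorem eb_root (h : EB M v χ) (hN : NegRoot) (hE : IsEl M) {m : M} {i : Fin 8} (hm : χ m = sg i) :
    ∃ (a : Lat) (ha : IsRoot a), (m : W) = refl ha ∧ ∃ n c : ℤ, n ≠ 0 ∧ c ≠ 0 ∧ n • a = c • v i := by
  have hm1 : (m : W) ≠ 1 := by
    intro h1
    have : m = 1 := Subtype.ext h1
    rw [this, map_one] at hm
    have := congrFun hm i
    simp [sg] at this
  obtain ⟨a, ha, hma⟩ := hN m (hE.1 _ m.2) hm1
  obtain ⟨n, hn, c, hc⟩ := h.span a
  have hc0 : ∀ j, j ≠ i → c j = 0 := fun j hj => eb_coeff h (δ := -1) (by rw [hma]; simp) hc j (by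
    rw [hm]; simp [sg, hj])
  have hna : n • a = c i • v i := by
    rw [hc, Finset.sum_eq_single i]
    · intro j _ hj; rw [hc0 j hj, zero_smul]
    · intro h; exact absurd (Finset.mem_univ i) h
  have hci : c i ≠ 0 := by
    intro h0
    rw [h0, zero_smul] at hna
    rcases smul_eq_zero.1 hna with h1 | h1
    · exact hn h1
    · rw [h1] at ha
      unfold IsRoot form at ha
      simp at ha
  refine ⟨a, ha, ?_, n, c i, hn, hci, hna⟩
  apply eb_ext h
  intro j
  rw [h.ap_v]
  by_cases hj : j = i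
  · subst hj
    have h1 : χ m j = -1 := by rw [hm]; simp [sg]
    rw [h1]
    have h2 : c j • ap (refl ha) (v j) = c j • (-(v j)) := by
      rw [← ap_smul, ← hna, ap_smul, ap_refl_self, smul_neg, hna, smul_neg]
    have h3 : ap (refl ha) (v j) = - v j := by
      funext k
      have := congrFun h2 k
      simp only [Pi.smul_apply, smul_eq_mul] at this
      exact mul_left_cancel₀ hci this
    rw [h3]; simp
  · have h1 : χ m j = 1 := by rw [hm]; simp [sg, hj]
    have h2 : form (v j) a = 0 := by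
      have := form_ap (m : W) (v j) a
      rw [h.ap_v, h1, hma] at this
      simp only [Units.val_one, one_smul, form_neg_right] at this
      omega
    rw [h1, ap_refl_orth ha h2]; simp

/-- the sign vector of a reflection -/
theorem eb_sg (h : EB M v χ) {m : M} (hm : IsRefl (m : W)) : ∃ i, χ m = sg i := by
  obtain ⟨a, ha, hma⟩ := hm
  have key : ∀ j, χ m j = -1 → (2 : ℤ) • v j = form (v j) a • a := by
    intro j hj
    have h1 := h.ap_v m j
    rw [hj, hma, ap_refl] at h1
    simp only [Units.val_neg, Units.val_one, neg_smul, one_smul] at h1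
    rw [two_smul]
    have : v j + v j = form (v j) a • a + (v j - form (v j) a • a) + v j := by abel
    rw [this, h1]; abel
  have hex : ∃ i, χ m i = -1 := by
    by_contra hcon
    push Not at hcon
    have h1 : χ m = 1 := by
      funext i
      exact (Int.units_eq_one_or _).resolve_right (hcon i)
    have h2 : (m : W) = 1 := by
      have : m = 1 := h.inj (by rw [h1, map_one])
      rw [this]; rfl
    have h3 := rf_det (m : W) ⟨a, ha, hma⟩
    rw [h2, map_one] at h3
    exact absurd h3 (by decide)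
  obtain ⟨i, hi⟩ := hex
  refine ⟨i, ?_⟩
  funext j
  by_cases hj : j = i
  · subst hj; rw [hi]; simp [sg]
  · have h0 : sg i j = 1 := by simp [sg, hj]
    rw [h0]
    by_contra hcon
    have hj1 : χ m j = -1 := (Int.units_eq_one_or _).resolve_left hcon
    have e1 := key i hi
    have e2 := key j hj1
    -- a linear relation
    have h4 : (2 * form (v j) a) • v i + (-(2 * form (v i) a)) • v j = 0 := by
      have f1 : (2 * form (v j) a) • v i = (form (v j) a * form (v i) a) • a := by
        rw [mul_comm 2, mul_smul, e1, smul_smul]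
      have f2 : (2 * form (v i) a) • v j = (form (v j) a * form (v i) a) • a := by
        rw [mul_comm 2, mul_smul, e2, smul_smul, mul_comm]
      rw [neg_smul, f1, f2, add_neg_cancel]
    have h5 : ∑ k, (if k = i then 2 * form (v j) a else if k = j then -(2 * form (v i) a) else 0) • v k = 0 := by
      rw [← h4]
      have : ∀ k, (if k = i then 2 * form (v j) a else if k = j then -(2 * form (v i) a) else 0) • v k =
          (if k = i then (2 * form (v j) a) • v k else 0) + (if k = j then (-(2 * form (v i) a)) • v k else 0) := by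
        intro k
        by_cases hk : k = i
        · subst hk
          rw [if_pos rfl, if_pos rfl, if_neg (Ne.symm hj), add_zero]
        · rw [if_neg hk, if_neg hk, zero_add]
          split_ifs <;> simp
      rw [Finset.sum_congr rfl fun k _ => this k, Finset.sum_add_distrib]
      simp
    have h6 := h.indep _ h5 i
    rw [if_pos rfl] at h6
    have h7 : form (v j) a = 0 := by omega
    rw [h7, zero_smul] at e2
    rcases smul_eq_zero.1 e2 with h8 | h8
    · omega
    · exact h.ne j h8

end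

/-- subgroups of index 2 without `sg i` -/
theorem eq_Ev_of_not {A : Subgroup Sg} (hA : A.index = 2) (h : ∀ i, sg i ∉ A) : A = Ev := by
  classical
  have key : ∀ s : Finset (Fin 8), (∏ i ∈ s, sg i ∈ A ↔ prd (∏ i ∈ s, sg i) = 1) := by
    intro s
    induction s using Finset.induction_on with
    | empty => simp [one_mem]
    | insert k s hk ih =>
      rw [Finset.prod_insert hk, Subgroup.mul_mem_iff_of_index_two hA, ih, map_mul]
      have h1 : prd (sg k) = -1 := by
        have : ∀ k : Fin 8, prd (sg k) = -1 := by decide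
        exact this k
      rw [h1]
      constructor
      · intro h2
        rcases Int.units_eq_one_or (prd (∏ i ∈ s, sg i)) with h3 | h3
        · exact absurd (h2.2 h3) (h k)
        · rw [h3]; decide
      · intro h2
        constructor
        · intro h3; exact absurd h3 (h k)
        · intro h3
          rw [h3] at h2
          exact absurd h2 (by decide)
  ext ε
  have hε : ε = ∏ i ∈ Finset.univ.filter (fun i => ε i = -1), sg i := by
    funext j
    rw [Finset.prod_apply]
    by_cases hj : ε j = -1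
    · rw [Finset.prod_eq_single j]
      · simp [sg, hj]
      · intro k _ hk; simp [sg, Ne.symm hk]
      · intro h1; exact absurd (Finset.mem_filter.2 ⟨Finset.mem_univ j, hj⟩) h1
    · rw [Finset.prod_eq_one]
      · exact (Int.units_eq_one_or _).resolve_right hj
      · intro k hk
        have : k ≠ j := fun e => hj (e ▸ (Finset.mem_filter.1 hk).2)
        simp [sg, Ne.symm this]
  rw [hε, key, mem_Ev]

theorem out_refl (hN : NegRoot) (M : Subgroup W) (hE : IsEl M) (hM : Nat.card M = 2 ^ 7) (hK : ¬ M ≤ det.ker) :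
    (∃ ρ ∈ M, IsRefl ρ) ∧ {ρ | ρ ∈ M ∧ IsRefl ρ}.ncard ≤ 7 := by
  classical
  have hf := finite_of_card hM
  obtain ⟨v, χ, h⟩ := exists_eig M hE
  have hA : Nat.card χ.range = 2 ^ 7 := by
    rw [← hM]; exact (Nat.card_congr (Equiv.ofInjective χ h.inj)).symm
  have hidx : χ.range.index = 2 := by
    have := Subgroup.card_mul_index χ.range
    rw [hA, card_Sg] at this
    omega
  constructor
  · by_contra hcon
    have h1 : χ.range = Ev := by
      apply eq_Ev_of_not hidx
      rintro i ⟨m, hm⟩
      obtain ⟨a, ha, h2, -⟩ := eb_root h hN hE hm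
      exact hcon ⟨m, m.2, a, ha, h2⟩
    apply hK
    intro m hm
    have h2 : χ ⟨m, hm⟩ ∈ Ev := h1 ▸ ⟨_, rfl⟩
    rw [MonoidHom.mem_ker]
    rw [mem_Ev, ← h.det] at h2
    exact h2
  · -- the indices
    have h1 : ∀ ρ ∈ {ρ | ρ ∈ M ∧ IsRefl ρ}, ∃ i, ∃ hm : ρ ∈ M, χ ⟨ρ, hm⟩ = sg i := by
      rintro ρ ⟨h2, h3⟩
      obtain ⟨i, hi⟩ := eb_sg h (m := ⟨ρ, h2⟩) h3
      exact ⟨i, h2, hi⟩
    have h2 : ∃ f : W → Fin 8, ∀ ρ ∈ {ρ | ρ ∈ M ∧ IsRefl ρ}, ∃ hm : ρ ∈ M, χ ⟨ρ, hm⟩ = sg (f ρ) := by
      refine ⟨fun ρ => if hρ : ρ ∈ {ρ | ρ ∈ M ∧ IsRefl ρ} then (h1 ρ hρ).choose else 0, fun ρ hρ => ?_⟩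
      simp only [dif_pos hρ]
      exact (h1 ρ hρ).choose_spec
    obtain ⟨f, hf⟩ := h2
    let T : Set (Fin 8) := {i | sg i ∈ χ.range}
    have h3 : ∀ ρ ∈ {ρ | ρ ∈ M ∧ IsRefl ρ}, f ρ ∈ T := fun ρ hρ => by
      obtain ⟨hm, h4⟩ := hf ρ hρ
      exact ⟨_, h4⟩
    have h4 : Set.InjOn f {ρ | ρ ∈ M ∧ IsRefl ρ} := by
      intro ρ hρ ρ' hρ' e
      obtain ⟨hm, h4⟩ := hf ρ hρ
      obtain ⟨hm', h4'⟩ := hf ρ' hρ'
      rw [← e, ← h4] at h4'
      exact (congrArg Subtype.val (h.inj h4')).symm
    have h5 : T ≠ Set.univ := by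
      intro hT
      have h6 : χ.range = ⊤ := by
        rw [eq_top_iff]
        intro ε _
        have hε : ε = ∏ i ∈ Finset.univ.filter (fun i => ε i = -1), sg i := by
          funext j
          rw [Finset.prod_apply]
          by_cases hj : ε j = -1
          · rw [Finset.prod_eq_single j]
            · simp [sg, hj]
            · intro k _ hk; simp [sg, Ne.symm hk]
            · intro h1; exact absurd (Finset.mem_filter.2 ⟨Finset.mem_univ j, hj⟩) h1
          · rw [Finset.prod_eq_one]
            · exact (Int.units_eq_one_or _).resolve_right hj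
            · intro k hk
              have : k ≠ j := fun e => hj (e ▸ (Finset.mem_filter.1 hk).2)
              simp [sg, Ne.symm this]
        rw [hε]
        exact Subgroup.prod_mem _ fun i _ => (hT ▸ Set.mem_univ i : i ∈ T)
      rw [h6, Subgroup.card_top, card_Sg] at hA
      omega
    have h6 : T.ncard ≤ 7 := by
      have h7 : T.ncard < (Set.univ : Set (Fin 8)).ncard :=
        Set.ncard_lt_ncard (Set.ssubset_univ_iff.2 h5) (Set.toFinite _)
      rw [Set.ncard_univ, Nat.card_eq_fintype_card, Fintype.card_fin] at h7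
      omega
    exact (Set.ncard_le_ncard_of_injOn f h3 h4 (Set.toFinite _)).trans h6

end Cfsg.Agent.OddHalf.D9.EEight.OutRefl

end

-- merged: Cfsg.Agent.OddHalf.D9.EEight.TwoTypes
section

/-!
# `two_types` of `EF det neg IsRefl` (helper109)
-/

set_option autoImplicit false

namespace Cfsg.Agent.OddHalf.D9.EEight.TwoTypes

open Coord Move Fields Eig EigCard OutRefl FrameBase Cfsg.Agent.OddHalf.D9.EEight.FrameHom

variable {M : Subgroup W} {v : Fin 8 → Lat} {χ : M →* Sg}

/-- `x` lies on the line of `v i` -/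
def On (v : Fin 8 → Lat) (i : Fin 8) (x : Lat) : Prop := ∃ n c : ℤ, n ≠ 0 ∧ c ≠ 0 ∧ n • x = c • v i

theorem smul_inj {n : ℤ} (hn : n ≠ 0) {x y : Lat} (h : n • x = n • y) : x = y := by
  funext i
  have := congrFun h i
  simp only [Pi.smul_apply, smul_eq_mul] at this
  exact mul_left_cancel₀ hn this

theorem root_ne {a : Lat} (ha : IsRoot a) : a ≠ 0 := by
  rintro rfl
  unfold IsRoot form at ha
  simp at ha

/-- a sum with at most two non zero coefficients -/
theorem sum_two {i j : Fin 8} (hij : i ≠ j) (c : Fin 8 → ℤ) (v : Fin 8 → Lat) (hc : ∀ k, k ≠ i → k ≠ j → c k = 0) :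
    ∑ k, c k • v k = c i • v i + c j • v j := by
  rw [Finset.sum_eq_add i j hij]
  · intro k _ hk
    rw [hc k hk.1 hk.2, zero_smul]
  · intro h; exact absurd (Finset.mem_univ i) h
  · intro h; exact absurd (Finset.mem_univ j) h

/-- vectors negated by `m`, `χ m = sg i * sg j` -/
theorem in_plane (h : EB M v χ) {i j : Fin 8} (hij : i ≠ j) {m : M} (hm : χ m = sg i * sg j) {x : Lat}
    (hx : ap (m : W) x = -x) : ∃ n c d : ℤ, n ≠ 0 ∧ n • x = c • v i + d • v j := by
  obtain ⟨n, hn, c, hc⟩ := h.span x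
  refine ⟨n, c i, c j, hn, ?_⟩
  rw [hc]
  apply sum_two hij
  intro k hki hkj
  refine eb_coeff h (δ := -1) (m := m) (by rw [hx]; simp) hc k ?_
  rw [hm]
  simp [sg, hki, hkj]

/-- Cramer's rule in the plane -/
theorem no_three {a b s x y : Lat} (ha : IsRoot a) (hb : IsRoot b) (hs : IsRoot s) (hab : form a b = 0)
    (has : form a s = 0) (hbs : form b s = 0) {n₁ c₁ d₁ n₂ c₂ d₂ n₃ c₃ d₃ : ℤ} (h1 : n₁ ≠ 0) (h2 : n₂ ≠ 0) (h3 : n₃ ≠ 0)
    (e1 : n₁ • a = c₁ • x + d₁ • y) (e2 : n₂ • b = c₂ • x + d₂ • y) (e3 : n₃ • s = c₃ • x + d₃ • y) : False := by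
  have ha2 : form a a = 2 := ha
  have hb2 : form b b = 2 := hb
  have hs2 : form s s = 2 := hs
  by_cases hD : c₁ * d₂ = c₂ * d₁
  · -- `a`, `b` parallel
    have f1 : (d₂ * n₁) • a = (d₁ * n₂) • b := by
      rw [mul_smul, mul_smul, e1, e2, smul_add, smul_add, smul_smul, smul_smul, smul_smul, smul_smul,
        show d₂ * c₁ = d₁ * c₂ by rw [mul_comm d₂, hD]; ring, mul_comm d₂ d₁]
    have f2 : (c₂ * n₁) • a = (c₁ * n₂) • b := by
      rw [mul_smul, mul_smul, e1, e2, smul_add, smul_add, smul_smul, smul_smul, smul_smul, smul_smul,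
        show c₂ * d₁ = c₁ * d₂ by rw [← hD], mul_comm c₂ c₁]
    have g1 := congrArg (form a) f1
    have g2 := congrArg (form a) f2
    rw [form_smul_right, form_smul_right, ha2, hab, mul_zero] at g1 g2
    have k1 : d₂ = 0 := by
      rcases mul_eq_zero.1 (show d₂ * (n₁ * 2) = 0 by rw [← g1]; ring) with h | h
      · exact h
      · omega
    have k2 : c₂ = 0 := by
      rcases mul_eq_zero.1 (show c₂ * (n₁ * 2) = 0 by rw [← g2]; ring) with h | h
      · exact h
      · omega
    rw [k1, k2, zero_smul, zero_smul, add_zero] at e2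
    have := congrArg (form b) e2
    rw [form_smul_right, hb2] at this
    simp [form] at this
    exact h2 this
  · have f : ((c₁ * d₂ - c₂ * d₁) * n₃) • s = ((c₃ * d₂ - c₂ * d₃) * n₁) • a + ((c₁ * d₃ - c₃ * d₁) * n₂) • b := by
      rw [mul_smul, mul_smul, mul_smul, e1, e2, e3]
      simp only [smul_add, smul_smul]
      have g1 : (c₁ * d₂ - c₂ * d₁) * c₃ = (c₃ * d₂ - c₂ * d₃) * c₁ + (c₁ * d₃ - c₃ * d₁) * c₂ := by ring
      have g2 : (c₁ * d₂ - c₂ * d₁) * d₃ = (c₃ * d₂ - c₂ * d₃) * d₁ + (c₁ * d₃ - c₃ * d₁) * d₂ := by ring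
      rw [g1, g2, add_smul, add_smul]
      abel
    have g := congrArg (form s) f
    rw [form_smul_right, form_add_right, form_smul_right, form_smul_right, form_comm s a, form_comm s b, has, hbs, hs2,
      mul_zero, mul_zero, add_zero] at g
    rcases mul_eq_zero.1 g with h | h
    · rcases mul_eq_zero.1 h with h | h
      · exact hD (sub_eq_zero.1 h)
      · exact h3 h
    · omega

/-- `m` with `χ m = sg i * sg j` is a product of two orthogonal reflections -/
theorem exists_two (h : EB M v χ) (hN : NegRoot) (hE : IsEl M) (hK : M ≤ det.ker) {i j : Fin 8} (hij : i ≠ j) {m : M}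
    (hm : χ m = sg i * sg j) :
    ∃ (a b : Lat) (ha : IsRoot a) (hb : IsRoot b), form a b = 0 ∧ (m : W) = refl ha * refl hb := by
  have hmm : (m : W) * m = 1 := hE.1 _ m.2
  have hd : det (m : W) = 1 := hK m.2
  have hrr : ∀ {a : Lat} (ha : IsRoot a), refl ha * refl ha = 1 := fun {a} ha => ext_ap fun x => by
    rw [ap_mul, ap_refl, ap_refl, form_sub_left, form_smul_left, show form a a = 2 from ha, ap_one,
      show form x a - form x a * 2 = - form x a by ring, neg_smul]
    abel
  have hm1 : (m : W) ≠ 1 := by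
    intro h1
    have : m = 1 := Subtype.ext h1
    rw [this, map_one] at hm
    have := congrFun hm i
    simp [sg, hij] at this
  obtain ⟨a, ha, hma⟩ := hN m hmm hm1
  -- first step
  have hc1 : refl ha * (m : W) = m * refl ha := by
    have h1 := conj_refl (m : W) ha
    have h2 : refl (isRoot_ap ha (m : W)) = refl ha := (refl_congr _ (isRoot_neg ha) hma).trans (refl_neg ha)
    rw [h2] at h1
    calc refl ha * (m : W) = ((m : W) * refl ha * (m : W)⁻¹) * m := by rw [h1]
      _ = _ := by group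
  set w1 : W := refl ha * m with hw1
  have hw11 : w1 * w1 = 1 := by
    calc w1 * w1 = refl ha * (m : W) * (refl ha * m) := rfl
      _ = refl ha * (m * refl ha) * m := by group
      _ = refl ha * (refl ha * m) * m := by rw [← hc1, hw1]
      _ = (refl ha * refl ha) * (m * m) := by group
      _ = 1 := by rw [hrr, hmm, one_mul]
  have hw1d : det w1 = -1 := by rw [hw1, map_mul, rf_det', hd, mul_one]
  have hw1n : w1 ≠ 1 := fun h1 => by rw [h1, map_one] at hw1d; exact absurd hw1d (by decide)
  have hw1a : ap w1 a = a := by rw [hw1, ap_mul, hma, ap_neg, ap_refl_self, neg_neg]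
  obtain ⟨b, hb, hwb⟩ := hN w1 hw11 hw1n
  have hab : form a b = 0 := by
    have := form_ap w1 a b
    rw [hw1a, hwb, form_neg_right] at this
    omega
  have hmb : ap (m : W) b = -b := by
    have : (m : W) = refl ha * w1 := by rw [hw1, ← mul_assoc, hrr, one_mul]
    rw [this, ap_mul, hwb, ap_neg, ap_refl_orth ha (by rw [form_comm]; exact hab)]
  -- second step
  have hc2 : refl hb * w1 = w1 * refl hb := by
    have h1 := conj_refl w1 hb
    have h2 : refl (isRoot_ap hb w1) = refl hb := (refl_congr _ (isRoot_neg hb) hwb).trans (refl_neg hb)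
    rw [h2] at h1
    calc refl hb * w1 = (w1 * refl hb * w1⁻¹) * w1 := by rw [h1]
      _ = _ := by group
  set w2 : W := refl hb * w1 with hw2
  have hw22 : w2 * w2 = 1 := by
    calc w2 * w2 = refl hb * (w1 * refl hb) * w1 := by rw [hw2]; group
      _ = refl hb * (refl hb * w1) * w1 := by rw [← hc2, hw2]
      _ = (refl hb * refl hb) * (w1 * w1) := by group
      _ = 1 := by rw [hrr, hw11, one_mul]
  have hw2b : ap w2 b = b := by rw [hw2, ap_mul, hwb, ap_neg, ap_refl_self, neg_neg]
  have hw2a : ap w2 a = a := by rw [hw2, ap_mul, hw1a, ap_refl_orth hb hab]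
  by_cases hw2n : w2 = 1
  · refine ⟨a, b, ha, hb, hab, ?_⟩
    calc (m : W) = refl ha * w1 := by rw [hw1, ← mul_assoc, hrr, one_mul]
      _ = refl ha * (refl hb * w2) := by rw [hw2, ← mul_assoc (refl hb), hrr, one_mul]
      _ = _ := by rw [hw2n, mul_one]
  · exfalso
    obtain ⟨s, hs, hws⟩ := hN w2 hw22 hw2n
    have has : form a s = 0 := by
      have := form_ap w2 a s
      rw [hw2a, hws, form_neg_right] at this
      omega
    have hbs : form b s = 0 := by
      have := form_ap w2 b s
      rw [hw2b, hws, form_neg_right] at this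
      omega
    have hms : ap (m : W) s = -s := by
      have e : (m : W) = refl ha * (refl hb * w2) := by
        rw [hw2, ← mul_assoc (refl hb), hrr, one_mul, hw1, ← mul_assoc, hrr, one_mul]
      rw [e, ap_mul, ap_mul, hws, ap_neg, ap_refl_orth hb (by rw [form_comm]; exact hbs), ap_neg,
        ap_refl_orth ha (by rw [form_comm]; exact has)]
    obtain ⟨n₁, c₁, d₁, k1, e1⟩ := in_plane h hij hm hma
    obtain ⟨n₂, c₂, d₂, k2, e2⟩ := in_plane h hij hm hmb
    obtain ⟨n₃, c₃, d₃, k3, e3⟩ := in_plane h hij hm hms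
    exact no_three ha hb hs hab has hbs k1 k2 k3 e1 e2 e3

/-- an integral relation between a root and a norm 4 vector on the same line -/
theorem no_sqrt {p q : ℤ} (hp : p ≠ 0) (h : p * p = 2 * (q * q)) : False := by
  have h1 : Irrational (Real.sqrt 2) := irrational_sqrt_two
  have hq : q ≠ 0 := by
    rintro rfl
    rcases mul_eq_zero.1 (show p * p = 0 by rw [h]; ring) with h2 | h2 <;> exact hp h2
  apply h1
  refine ⟨|(p : ℚ)| / |(q : ℚ)|, ?_⟩
  have hq' : (0 : ℝ) < |(q : ℝ)| := abs_pos.2 (by exact_mod_cast hq)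
  have e : (p : ℝ) * p = 2 * (q * q) := by exact_mod_cast h
  push_cast
  rw [eq_comm, Real.sqrt_eq_iff_mul_self_eq_of_pos]
  · field_simp
    rw [sq_abs, sq_abs]
    nlinarith
  · exact div_pos (abs_pos.2 (by exact_mod_cast hp)) hq'

/-- the vector `y` of norm 4 on the line of `v i` -/
def NormFour (v : Fin 8 → Lat) (i : Fin 8) (y : Lat) : Prop := form y y = 4 ∧ On v i y

/-- a root on the line of `v i` -/
def Rt (v : Fin 8 → Lat) (i : Fin 8) (y : Lat) : Prop := IsRoot y ∧ On v i y

theorem not_both {i : Fin 8} {a y : Lat} (ha : Rt v i a) (hy : NormFour v i y) : False := by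
  obtain ⟨ha, n, c, hn, hc, e⟩ := ha
  obtain ⟨hy, n', c', hn', hc', e'⟩ := hy
  have f : (c' * n) • a = (c * n') • y := by
    rw [mul_smul, mul_smul, e, e', smul_smul, smul_smul, mul_comm]
  have g := congrArg (fun z => form z z) f
  simp only [form_smul_left, form_smul_right] at g
  rw [show form a a = 2 from ha, hy] at g
  exact no_sqrt (p := c' * n) (q := c * n') (mul_ne_zero hc' hn) (by linarith)

theorem norm_unique {i : Fin 8} {x y : Lat} (hx : NormFour v i x) (hy : NormFour v i y) : x = y ∨ x = -y := by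
  obtain ⟨hx, n, c, hn, hc, e⟩ := hx
  obtain ⟨hy, n', c', hn', hc', e'⟩ := hy
  have f : (c' * n) • x = (c * n') • y := by
    rw [mul_smul, mul_smul, e, e', smul_smul, smul_smul, mul_comm]
  have g := congrArg (fun z => form z z) f
  simp only [form_smul_left, form_smul_right] at g
  rw [hx, hy] at g
  have h1 : (c' * n) * (c' * n) = (c * n') * (c * n') := by linarith
  have h2 : c' * n ≠ 0 := mul_ne_zero hc' hn
  rcases mul_self_eq_mul_self_iff.1 h1 with h3 | h3
  · left
    rw [← h3] at f
    exact smul_inj h2 f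
  · right
    have h4 : c * n' = -(c' * n) := by rw [h3, neg_neg]
    rw [h4, neg_smul, ← smul_neg] at f
    exact smul_inj h2 f

/-- `w x = -x`, `m' x = x`, ... : the line of `x` -/
theorem on_of (h : EB M v χ) {i j : Fin 8} (hij : i ≠ j) {m m' : M} (hm : χ m = sg i * sg j) {x : Lat} (hx0 : x ≠ 0)
    (hx : ap (m : W) x = -x) {δ : ℤˣ} (hx' : ap (m' : W) x = (δ : ℤ) • x) (hj : χ m' j ≠ δ) : On v i x := by
  obtain ⟨n, hn, c, hc⟩ := h.span x
  have hcj : c j = 0 := eb_coeff h hx' hc j hj
  have hck : ∀ k, k ≠ i → k ≠ j → c k = 0 := by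
    intro k hki hkj
    refine eb_coeff h (δ := -1) (m := m) (by rw [hx]; simp) hc k ?_
    rw [hm]
    simp [sg, hki, hkj]
  rw [sum_two hij c v hck, hcj, zero_smul, add_zero] at hc
  refine ⟨n, c i, hn, ?_, hc⟩
  intro h0
  rw [h0, zero_smul] at hc
  rcases smul_eq_zero.1 hc with h1 | h1
  · exact hn h1
  · exact hx0 h1

/-- the two types of a plane -/
theorem plane_types (h : EB M v χ) (hN : NegRoot) (hE : IsEl M) (hK : M ≤ det.ker) {i j k : Fin 8} (hij : i ≠ j)
    (hki : k ≠ i) (hkj : k ≠ j) {m m' : M} (hm : χ m = sg i * sg j) (hm' : χ m' = sg i * sg k) :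
    (∃ a b, Rt v i a ∧ Rt v j b) ∨
    ∃ x y, NormFour v i x ∧ NormFour v j y ∧ (∃ z, x + y = (2 : ℤ) • z) ∧ ∃ z, x - y = (2 : ℤ) • z := by
  obtain ⟨a, b, ha, hb, hab, hw⟩ := exists_two h hN hE hK hij hm
  have hba : form b a = 0 := by rw [form_comm]; exact hab
  have ha2 : form a a = 2 := ha
  have hb2 : form b b = 2 := hb
  have hma : ap (m : W) a = -a := by rw [hw, ap_mul, ap_refl_orth hb hab, ap_refl_self]
  have hmb : ap (m : W) b = -b := by rw [hw, ap_mul, ap_refl_self, ap_neg, ap_refl_orth ha hba]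
  have hcomm : ∀ x, ap (m : W) (ap (m' : W) x) = ap (m' : W) (ap (m : W) x) := fun x => by
    rw [← ap_mul, ← ap_mul, hE.2 _ m.2 _ m'.2]
  have hi : χ m' i = -1 := by rw [hm']; simp [sg, Ne.symm hki]
  have hj : χ m' j = 1 := by rw [hm']; simp [sg, Ne.symm hij, Ne.symm hkj]
  have hm'2 : ∀ x, ap (m' : W) (ap (m' : W) x) = x := fun x => by rw [← ap_mul, hE.1 _ m'.2, ap_one]
  have key : ∀ {r : Lat}, IsRoot r → ap (m : W) r = -r → ap (m' : W) r = a ∨ ap (m' : W) r = -a ∨ ap (m' : W) r = b ∨
      ap (m' : W) r = -b := by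
    intro r hr hmr
    apply plane ha hb hab (isRoot_ap hr _)
    rw [← hw, hcomm, hmr, ap_neg]
  -- the line of `v i`: negated by `m'`; the line of `v j`: fixed by `m'`
  have oni : ∀ {x : Lat}, x ≠ 0 → ap (m : W) x = -x → ap (m' : W) x = -x → On v i x := fun hx0 hx hx' =>
    on_of h hij hm hx0 hx (δ := -1) (by rw [hx']; simp) (by rw [hj]; decide)
  have onj : ∀ {x : Lat}, x ≠ 0 → ap (m : W) x = -x → ap (m' : W) x = x → On v j x := fun hx0 hx hx' =>
    on_of h (Ne.symm hij) (by rw [hm, mul_comm]) hx0 hx (δ := 1) (by rw [hx']; simp) (by rw [hi]; decide)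
  have hab0 : a ≠ b := fun e => by rw [e] at hab; omega
  have haa : a ≠ -a := fun e => root_ne ha (eq_zero_of_neg e)
  have hbb : b ≠ -b := fun e => root_ne hb (eq_zero_of_neg e)
  have nsum : form (a + b) (a + b) = 4 := by
    rw [form_add_left, form_add_right, form_add_right]; omega
  have nsub : form (a - b) (a - b) = 4 := by
    rw [form_sub_left, form_sub_right, form_sub_right]; omega
  have ne_of : ∀ {x : Lat}, form x x = 4 → x ≠ 0 := by
    rintro x hx rfl
    simp [form] at hx
  have msum : ap (m : W) (a + b) = -(a + b) := by rw [ap_add, hma, hmb, neg_add]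
  have msub : ap (m : W) (a - b) = -(a - b) := by rw [ap_sub, hma, hmb]; abel
  rcases key ha hma with h1 | h1 | h1 | h1
  · -- `a` fixed; then `b` is negated
    left
    have h2 : ap (m' : W) b = -b := by
      rcases key hb hmb with h3 | h3 | h3 | h3
      · exfalso
        have := hm'2 b
        rw [h3, h1] at this
        exact hab0 this
      · exfalso
        have := hm'2 b
        rw [h3, ap_neg, h1] at this
        rw [← this, form_neg_right] at hab
        omega
      · exfalso
        obtain ⟨n, c, hn, hc, e⟩ := onj (root_ne ha) hma h1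
        obtain ⟨n', c', hn', hc', e'⟩ := onj (root_ne hb) hmb h3
        have f : (c' * n) • a = (c * n') • b := by
          rw [mul_smul, mul_smul, e, e', smul_smul, smul_smul, mul_comm]
        have g := congrArg (form a) f
        rw [form_smul_right, form_smul_right, ha2, hab, mul_zero] at g
        rcases mul_eq_zero.1 g with h4 | h4
        · exact mul_ne_zero hc' hn h4
        · omega
      · exact h3
    exact ⟨b, a, ⟨hb, oni (root_ne hb) hmb h2⟩, ⟨ha, onj (root_ne ha) hma h1⟩⟩
  · left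
    have h2 : ap (m' : W) b = b := by
      rcases key hb hmb with h3 | h3 | h3 | h3
      · exfalso
        have := hm'2 b
        rw [h3, h1] at this
        rw [← this, form_neg_right] at hab
        omega
      · exfalso
        have := hm'2 b
        rw [h3, ap_neg, h1, neg_neg] at this
        exact hab0 this
      · exact h3
      · exfalso
        obtain ⟨n, c, hn, hc, e⟩ := oni (root_ne ha) hma h1
        obtain ⟨n', c', hn', hc', e'⟩ := oni (root_ne hb) hmb h3
        have f : (c' * n) • a = (c * n') • b := by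
          rw [mul_smul, mul_smul, e, e', smul_smul, smul_smul, mul_comm]
        have g := congrArg (form a) f
        rw [form_smul_right, form_smul_right, ha2, hab, mul_zero] at g
        rcases mul_eq_zero.1 g with h4 | h4
        · exact mul_ne_zero hc' hn h4
        · omega
    exact ⟨a, b, ⟨ha, oni (root_ne ha) hma h1⟩, ⟨hb, onj (root_ne hb) hmb h2⟩⟩
  · right
    have h2 : ap (m' : W) b = a := by rw [← h1, hm'2]
    have f1 : ap (m' : W) (a - b) = -(a - b) := by rw [ap_sub, h1, h2]; abel
    have f2 : ap (m' : W) (a + b) = a + b := by rw [ap_add, h1, h2]; abel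
    refine ⟨a - b, a + b, ⟨nsub, oni (ne_of nsub) msub f1⟩, ⟨nsum, onj (ne_of nsum) msum f2⟩, ⟨a, ?_⟩, ⟨-b, ?_⟩⟩
    · rw [two_smul]; abel
    · rw [two_smul]; abel
  · right
    have h2 : ap (m' : W) b = -a := by
      have := hm'2 a
      rw [h1, ap_neg] at this
      rw [← this, neg_neg]
    have f1 : ap (m' : W) (a + b) = -(a + b) := by rw [ap_add, h1, h2]; abel
    have f2 : ap (m' : W) (a - b) = a - b := by rw [ap_sub, h1, h2]; abel
    refine ⟨a + b, a - b, ⟨nsum, oni (ne_of nsum) msum f1⟩, ⟨nsub, onj (ne_of nsub) msub f2⟩, ⟨a, ?_⟩, ⟨b, ?_⟩⟩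
    · rw [two_smul]; abel
    · rw [two_smul]; abel

end Cfsg.Agent.OddHalf.D9.EEight.TwoTypes

end

-- merged: Cfsg.Agent.OddHalf.D9.EEight.TwoTypesEnd
section

/-!
# `two_types` of `EF det neg IsRefl`: the end (helper109)

`two_types (hN : NegRoot) (hFt : ExFt)`, where `ExFt` = even sign changes along eight orthogonal vectors of norm 4
congruent modulo 2.
-/

set_option autoImplicit false

namespace Cfsg.Agent.OddHalf.D9.EEight.TwoTypesEnd

open Coord Move Fields Eig EigCard OutRefl FrameBase Cfsg.Agent.OddHalf.D9.EEight.FrameHom TwoTypes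

/-- the even sign changes in a `D₈` frame -/
def ExFt : Prop := ∀ n : Fin 8 → Lat, (∀ i j, form (n i) (n j) = if i = j then 4 else 0) →
  (∀ i j, ∃ y, n i - n j = (2 : ℤ) • y) →
  ∃ f : Ev →* W, IsFt det neg f ∧ ∀ (ε : Ev) (j : Fin 8), ap (f ε) (n j) = ((((ε : Sg) j : ℤˣ) : ℤ)) • n j

variable {M : Subgroup W} {v : Fin 8 → Lat} {χ : M →* Sg}

theorem sg2_mem (i j : Fin 8) : sg i * sg j ∈ Ev := by
  have : ∀ i j : Fin 8, prd (sg i * sg j) = 1 := by decide
  exact this i j

theorem orth_v (h : EB M v χ) (hr : χ.range = Ev) {i j : Fin 8} (hij : i ≠ j) : form (v i) (v j) = 0 := by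
  obtain ⟨k, hki, hkj⟩ : ∃ k : Fin 8, k ≠ i ∧ k ≠ j := by
    have : ∀ i j : Fin 8, ∃ k : Fin 8, k ≠ i ∧ k ≠ j := by decide
    exact this i j
  have hmem : sg i * sg k ∈ χ.range := by rw [hr]; exact sg2_mem i k
  obtain ⟨m, hm⟩ := hmem
  have e := form_ap (m : W) (v i) (v j)
  have hi : χ m i = -1 := by rw [hm]; simp [sg, Ne.symm hki]
  have hj : χ m j = 1 := by rw [hm]; simp [sg, Ne.symm hij, Ne.symm hkj]
  rw [h.ap_v, h.ap_v, hi, hj, form_smul_left, form_smul_right] at e
  simp only [Units.val_neg, Units.val_one] at e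
  omega

theorem orth_on (h : EB M v χ) (hr : χ.range = Ev) {i j : Fin 8} (hij : i ≠ j) {x y : Lat} (hx : On v i x)
    (hy : On v j y) : form x y = 0 := by
  obtain ⟨n, c, hn, hc, e⟩ := hx
  obtain ⟨n', c', hn', hc', e'⟩ := hy
  have h1 : form (n • x) (n' • y) = 0 := by
    rw [e, e', form_smul_left, form_smul_right, orth_v h hr hij, mul_zero, mul_zero]
  rw [form_smul_left, form_smul_right] at h1
  rcases mul_eq_zero.1 h1 with h2 | h2
  · exact absurd h2 hn
  · rcases mul_eq_zero.1 h2 with h3 | h3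
    · exact absurd h3 hn'
    · exact h3

theorem ap_on (h : EB M v χ) {i : Fin 8} {x : Lat} (hx : On v i x) (m : M) : ap (m : W) x = ((χ m i : ℤˣ) : ℤ) • x := by
  obtain ⟨n, c, hn, hc, e⟩ := hx
  apply smul_inj hn
  rw [← ap_smul, e, ap_smul, h.ap_v, smul_comm, ← e, smul_comm]

/-- two isometries with the same effect on vectors of the eight lines -/
theorem ext_on (h : EB M v χ) {x : Fin 8 → Lat} (hx : ∀ i, On v i (x i)) {w w' : W}
    (he : ∀ i, ap w (x i) = ap w' (x i)) : w = w' := by
  apply eb_ext h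
  intro i
  obtain ⟨n, c, hn, hc, e⟩ := hx i
  apply smul_inj hc
  rw [← ap_smul, ← ap_smul, ← e, ap_smul, ap_smul, he]

theorem two_types (hN : NegRoot) (hFt : ExFt) (M : Subgroup W) (hK : M ≤ det.ker) (hE : IsEl M)
    (hM : Nat.card M = 2 ^ 7) :
    (∃ d : Sg →* W, IsFr det neg IsRefl d ∧ M = Ev.map d) ∨ ∃ f : Ev →* W, IsFt det neg f ∧ M = f.range := by
  classical
  have hf := finite_of_card hM
  obtain ⟨v, χ, h⟩ := exists_eig M hE
  have hr : χ.range = Ev := by
    have : Finite Ev := inferInstance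
    apply Subgroup.eq_of_le_of_card_ge (EB.range_le h hK)
    rw [card_Ev, ← hM]
    exact (Nat.card_congr (Equiv.ofInjective χ h.inj)).le
  have hpair : ∀ i j, i ≠ j → (∃ a b, TwoTypes.Rt v i a ∧ TwoTypes.Rt v j b) ∨
      ∃ x y, NormFour v i x ∧ NormFour v j y ∧ (∃ z, x + y = (2 : ℤ) • z) ∧ ∃ z, x - y = (2 : ℤ) • z := by
    intro i j hij
    obtain ⟨k, hki, hkj⟩ : ∃ k : Fin 8, k ≠ i ∧ k ≠ j := by
      have : ∀ i j : Fin 8, ∃ k : Fin 8, k ≠ i ∧ k ≠ j := by decide
      exact this i j
    obtain ⟨m, hm⟩ : sg i * sg j ∈ χ.range := by rw [hr]; exact sg2_mem i j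
    obtain ⟨m', hm'⟩ : sg i * sg k ∈ χ.range := by rw [hr]; exact sg2_mem i k
    exact plane_types h hN hE hK hij hki hkj hm hm'
  have hprd : ∀ m : M, prd (χ m) = 1 := fun m => by
    rw [← h.det]; exact hK m.2
  by_cases hR : ∃ a, TwoTypes.Rt v 0 a
  · -- all lines contain roots
    left
    obtain ⟨a0, ha0⟩ := hR
    have hall : ∀ j, ∃ a, TwoTypes.Rt v j a := by
      intro j
      by_cases hj : j = 0
      · exact hj ▸ ⟨a0, ha0⟩
      · rcases hpair 0 j (Ne.symm hj) with ⟨_, b, _, hb⟩ | ⟨x, _, hx, _⟩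
        · exact ⟨b, hb⟩
        · exact (not_both ha0 hx).elim
    choose a ha using hall
    have hfr : Frame a := ⟨fun i => (ha i).1, fun i j hij => orth_on h hr hij (ha i).2 (ha j).2⟩
    obtain ⟨π, hπ⟩ := FrameCode.exists_lab hfr
    refine ⟨dh (hfr.comp π), isFr _ hπ, ?_⟩
    have hinj := FrameHom.inj (hfr.comp π)
    have hle : M ≤ Ev.map (dh (hfr.comp π)) := by
      intro m hm
      refine ⟨pm π (χ ⟨m, hm⟩), ?_, ?_⟩
      · show prd _ = 1
        rw [prd_pm]; exact hprd _
      · symm
        apply eq_dh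
        intro j
        exact ap_on h (ha (π j)).2 ⟨m, hm⟩
    have : Finite (Ev.map (dh (hfr.comp π))) := by
      have : Finite Ev := inferInstance
      exact Set.Finite.image _ (Set.toFinite _)
    apply Subgroup.eq_of_le_of_card_ge hle
    rw [hM, ← card_Ev]
    exact (Nat.card_congr (Subgroup.equivMapOfInjective Ev _ hinj).toEquiv.symm).le
  · -- all lines contain vectors of norm 4
    right
    have hN4 : ∀ j, j ≠ 0 → ∃ x y, NormFour v 0 x ∧ NormFour v j y ∧ (∃ z, x + y = (2 : ℤ) • z) ∧
        ∃ z, x - y = (2 : ℤ) • z := by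
      intro j hj
      rcases hpair 0 j (Ne.symm hj) with ⟨a, _, ha, _⟩ | h1
      · exact absurd ⟨a, ha⟩ hR
      · exact h1
    obtain ⟨x0, _, hx0, _⟩ := hN4 1 (by decide)
    have hex : ∀ j, ∃ y, NormFour v j y ∧ ∃ z, y - x0 = (2 : ℤ) • z := by
      intro j
      by_cases hj : j = 0
      · subst hj
        exact ⟨x0, hx0, 0, by simp⟩
      · obtain ⟨x, y, hx, hy, ⟨z1, hz1⟩, ⟨z2, hz2⟩⟩ := hN4 j hj
        refine ⟨y, hy, ?_⟩
        rcases norm_unique hx hx0 with h1 | h1
        · refine ⟨-z2, ?_⟩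
          rw [smul_neg, ← hz2, h1]; abel
        · refine ⟨z1, ?_⟩
          rw [← hz1, h1]; abel
    choose n hn hn2 using hex
    have hon : ∀ i, On v i (n i) := fun i => (hn i).2
    obtain ⟨f, hft, hfn⟩ := hFt n (by
      intro i j
      split_ifs with hij
      · subst hij; exact (hn i).1
      · exact orth_on h hr hij (hon i) (hon j)) (by
      intro i j
      obtain ⟨z1, h1⟩ := hn2 i
      obtain ⟨z2, h2⟩ := hn2 j
      refine ⟨z1 - z2, ?_⟩
      rw [smul_sub, ← h1, ← h2]; abel)
    refine ⟨f, hft, ?_⟩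
    have hle : M ≤ f.range := by
      intro m hm
      have hεm : χ ⟨m, hm⟩ ∈ Ev := hprd _
      refine ⟨⟨χ ⟨m, hm⟩, hεm⟩, ?_⟩
      apply ext_on h hon
      intro i
      rw [hfn, ap_on h (hon i) ⟨m, hm⟩]
    have : Finite f.range := Finite.of_surjective f.rangeRestrict f.rangeRestrict_surjective
    apply Subgroup.eq_of_le_of_card_ge hle
    rw [hM, ← card_Ev]
    exact (Nat.card_congr (Equiv.ofInjective f hft.inj)).symm.le

end Cfsg.Agent.OddHalf.D9.EEight.TwoTypesEnd

end

-- merged: Cfsg.Agent.OddHalf.D9.EEight.CxOut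
section

/-!
# (W4): elements of determinant `-1` do not commute or anticommute with a complex structure
-/

set_option autoImplicit false

namespace Cfsg.Agent.OddHalf.D9.EEight

open Matrix

namespace CxOut

/-- A linear map that commutes with a complex structure has determinant `≥ 0`. -/
theorem det_nonneg_of_commute {V : Type*} [AddCommGroup V] [Module ℝ V]
    (J f : Module.End ℝ V) (hJ : J * J = -1) (hf : f * J = J * f) :
    0 ≤ LinearMap.det f := by
  let φ : ℂ →ₐ[ℝ] Module.End ℝ V := Complex.liftAux J hJ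
  let _ : Module ℂ V := Module.compHom V φ.toRingHom
  have hsm : ∀ (z : ℂ) (v : V), z • v = φ z v := fun z v => rfl
  have : IsScalarTower ℝ ℂ V := ⟨fun r z v => by
    rw [hsm, hsm, map_smul]; rfl⟩
  let f' : V →ₗ[ℂ] V :=
    { toFun := f
      map_add' := f.map_add
      map_smul' := by
        intro z v
        rw [RingHom.id_apply, hsm, hsm]
        have h1 : f * φ z = φ z * f := by
          change f * (Complex.liftAux J hJ z) = (Complex.liftAux J hJ z) * f
          rw [Complex.liftAux_apply, mul_add, add_mul, mul_smul_comm, smul_mul_assoc, hf,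
            Algebra.commutes]
        exact congrArg (fun g : Module.End ℝ V => g v) h1 }
  have h1 : (f'.restrictScalars ℝ) = f := rfl
  rw [← h1, LinearMap.det_restrictScalars, Algebra.norm_complex_apply]
  exact Complex.normSq_nonneg _

/-- In dimension `8`, a linear map that anticommutes with a complex structure has determinant
`≥ 0`. -/
theorem det_nonneg_of_anti {V : Type*} [AddCommGroup V] [Module ℝ V] [FiniteDimensional ℝ V]
    (h8 : Module.finrank ℝ V = 8)
    (J f : Module.End ℝ V) (hJ : J * J = -1) (hf : f * J = -(J * f)) :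
    0 ≤ LinearMap.det f := by
  classical
  let φ : ℂ →ₐ[ℝ] Module.End ℝ V := Complex.liftAux J hJ
  let _ : Module ℂ V := Module.compHom V φ.toRingHom
  have hsm : ∀ (z : ℂ) (v : V), z • v = φ z v := fun z v => rfl
  have : IsScalarTower ℝ ℂ V := ⟨fun r z v => by
    rw [hsm, hsm, map_smul]; rfl⟩
  have : Module.Finite ℂ V := Module.Finite.right ℝ ℂ V
  have h4 : Module.finrank ℂ V = 4 := by
    have h := Module.finrank_mul_finrank ℝ ℂ V
    rw [Complex.finrank_real_complex, h8] at h
    omega
  let b : Module.Basis (Fin 4) ℂ V := Module.finBasisOfFinrankEq ℂ V h4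
  let B : Module.Basis (Fin 2 × Fin 4) ℝ V := Complex.basisOneI.smulTower b
  have hI : ∀ v : V, Complex.I • v = J v := fun v => by
    rw [hsm]
    change (Complex.liftAux J hJ Complex.I) v = J v
    rw [Complex.liftAux_apply_I]
  have hB0 : ∀ j, B (0, j) = b j := fun j => by
    rw [Module.Basis.smulTower_apply]
    simp
  have hB1 : ∀ j, B (1, j) = J (b j) := fun j => by
    rw [Module.Basis.smulTower_apply, ← hI]
    simp
  have hJJ : ∀ v : V, J (J v) = -v := fun v => by
    have := congrArg (fun g : Module.End ℝ V => g v) hJ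
    exact this
  let d : Fin 2 × Fin 4 → ℝ := fun p => if p.1 = 0 then 1 else -1
  let κ : Module.End ℝ V := B.constr ℝ (fun p => d p • B p)
  have hκ : ∀ p, κ (B p) = d p • B p := fun p => B.constr_basis ℝ _ p
  have hdet : LinearMap.det κ = 1 := by
    rw [← LinearMap.det_toMatrix B]
    have h1 : LinearMap.toMatrix B B κ = Matrix.diagonal d := by
      ext p q
      rw [LinearMap.toMatrix_apply, hκ, map_smul, Module.Basis.repr_self, Matrix.diagonal_apply]
      by_cases hpq : p = q
      · subst hpq; simp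
      · rw [if_neg hpq]
        simp [Finsupp.single_apply, Ne.symm hpq]
    rw [h1, Matrix.det_diagonal, Fintype.prod_prod_type]
    simp [d]
    norm_num
  have hκJ : κ * J = -(J * κ) := by
    apply B.ext
    rintro ⟨i, j⟩
    change κ (J (B (i, j))) = -(J (κ (B (i, j))))
    fin_cases i
    · change κ (J (B (0, j))) = -(J (κ (B (0, j))))
      have e1 : J (B (0, j)) = B (1, j) := by rw [hB0, hB1]
      rw [e1, hκ, hκ, map_smul, e1]
      simp [d]
    · change κ (J (B (1, j))) = -(J (κ (B (1, j))))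
      have e1 : J (B (1, j)) = -B (0, j) := by rw [hB0, hB1, hJJ]
      rw [e1, map_neg, hκ, hκ, map_smul, e1]
      simp [d]
  have h1 : (f * κ) * J = J * (f * κ) := by
    rw [mul_assoc, hκJ, mul_neg, ← mul_assoc, hf, neg_mul, neg_neg, mul_assoc]
  have h2 := det_nonneg_of_commute J (f * κ) hJ h1
  rwa [map_mul, hdet, mul_one] at h2

/-- The real linear map of an element of `W`. -/
noncomputable def lin : W →* Module.End ℝ (Fin 8 → ℝ) where
  toFun w := Matrix.toLin' (((w : (Matrix (Fin 8) (Fin 8) ℤ)ˣ) : Matrix (Fin 8) (Fin 8) ℤ).map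
    (Int.castRingHom ℝ))
  map_one' := by
    simp
    rfl
  map_mul' a b := by
    rw [Subgroup.coe_mul, Units.val_mul, Matrix.map_mul, Matrix.toLin'_mul]
    rfl

theorem lin_neg : lin neg = -1 := by
  have : ((neg : (Matrix (Fin 8) (Fin 8) ℤ)ˣ) : Matrix (Fin 8) (Fin 8) ℤ) = -1 := rfl
  change Matrix.toLin' (((neg : (Matrix (Fin 8) (Fin 8) ℤ)ˣ) : Matrix (Fin 8) (Fin 8) ℤ).map
    (Int.castRingHom ℝ)) = -1
  rw [this]
  have h1 : (-1 : Matrix (Fin 8) (Fin 8) ℤ).map (Int.castRingHom ℝ) = -1 := by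
    rw [← RingHom.mapMatrix_apply, map_neg, map_one]
  rw [h1, map_neg, Matrix.toLin'_one]
  rfl

theorem det_lin (w : W) : LinearMap.det (lin w) = ((det w : ℤ) : ℝ) := by
  change LinearMap.det (Matrix.toLin' (((w : (Matrix (Fin 8) (Fin 8) ℤ)ˣ) :
    Matrix (Fin 8) (Fin 8) ℤ).map (Int.castRingHom ℝ))) = ((det w : ℤ) : ℝ)
  rw [LinearMap.det_toLin', Fields.coe_det]
  rw [← RingHom.mapMatrix_apply, ← RingHom.map_det]
  rfl

end CxOut

open CxOut

/-- (W4) -/
theorem cx_out (v w : W) (hv : v * v = neg) (hw : det w = -1) :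
    w * v ≠ v * w ∧ w * v ≠ neg * (v * w) := by
  have hJ : lin v * lin v = -1 := by rw [← map_mul, hv, lin_neg]
  have hneg : ¬ (0 : ℝ) ≤ LinearMap.det (lin w) := by
    rw [det_lin, hw]
    norm_num
  constructor
  · intro h
    exact hneg (det_nonneg_of_commute (lin v) (lin w) hJ (by rw [← map_mul, h, map_mul]))
  · intro h
    refine hneg (det_nonneg_of_anti (by simp) (lin v) (lin w) hJ ?_)
    rw [← map_mul, h, map_mul, map_mul, lin_neg]
    ext x i
    simp

end Cfsg.Agent.OddHalf.D9.EEight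

end

-- merged: Cfsg.Agent.OddHalf.D9.EEight.FrFt
section

/-!
# Frames and `D₈` groups (helper912)

`exists_frame`: a homomorphism with `IsFr det neg IsRefl d` is `dh ha` for a labelled frame `a`.
`fr_ft`: the elements of type `2`, `6`, block of a frame group lie in a `D₈` group.
-/

set_option autoImplicit false
set_option Elab.async false

namespace Cfsg.Agent.OddHalf.D9.EEight.FrFt

open Matrix Cfsg.Agent.OddHalf.D9.EEight Cfsg.Agent.OddHalf.D9.EEight.FrameBase
  Cfsg.Agent.OddHalf.D9.EEight.FrameHom Cfsg.Agent.OddHalf.D9.EEight.FtHom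
  Cfsg.Agent.OddHalf.D9.EEight.CountD Cfsg.Agent.OddHalf.D9.EEight.Counts
  Cfsg.Agent.OddHalf.D9.EEight.FrameCode

variable {a : Fin 8 → Lat}

/-- Commuting reflections have orthogonal or proportional roots. -/
theorem orth_of_comm {r s : Lat} (hr : IsRoot r) (hs : IsRoot s)
    (h : refl hr * refl hs = refl hs * refl hr) : form r s = 0 ∨ refl hr = refl hs := by
  have h1 := congrArg (fun w => ap w s) h
  simp only [ap_mul, ap_refl] at h1
  have hs2 : form s s = 2 := hs
  have hr2 : form r r = 2 := hr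
  rw [hs2] at h1
  have h3 : s - (2 : ℤ) • s = -s := by
    rw [two_smul ℤ]; abel
  rw [h3, form_neg_left, form_sub_left, form_smul_left, hs2, form_comm s r] at h1
  -- `(r, s) r = ... `
  have h4 : (2 : ℤ) • (form r s • r) = (form r s * form r s) • s := by
    have h5 : (-s - -form r s • r) - (s - form r s • r - (2 - form r s * form r s) • s) = 0 := by
      rw [h1, sub_self]
    have h6 : (-s - -form r s • r) - (s - form r s • r - (2 - form r s * form r s) • s) =
        (2 : ℤ) • (form r s • r) - (form r s * form r s) • s := by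
      module
    rw [h6] at h5
    exact sub_eq_zero.1 h5
  by_cases h0 : form r s = 0
  · exact Or.inl h0
  right
  have h5 : (2 : ℤ) • r = form r s • s := by
    have h6 : form r s • ((2 : ℤ) • r) = form r s • (form r s • s) := by
      rw [smul_comm, h4, smul_smul]
    exact smul_right_injective _ h0 h6
  have h6 := congrArg (fun y => form y r) h5
  simp only [form_smul_left] at h6
  rw [hr2, form_comm s r] at h6
  have h7 : (form r s - 2) * (form r s + 2) = 0 := by linear_combination -h6
  rcases mul_eq_zero.1 h7 with h8 | h8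
  · have h9 : r = s := two_smul_inj (by rw [h5, show form r s = 2 by omega])
    apply ext_ap
    intro x
    rw [ap_refl, ap_refl, h9]
  · have h9 : r = -s := two_smul_inj (by
      rw [h5, show form r s = -2 by omega, smul_neg, neg_smul])
    apply ext_ap
    intro x
    rw [ap_refl, ap_refl, h9, form_neg_right, neg_smul_neg]

/-- Agreement on the single sign changes. -/
theorem ext_sg {A : Type*} [Group A] {f g : Sg →* A} (h : ∀ i, f (sg i) = g (sg i)) : f = g := by
  have h1 : f.eqLocus g = ⊤ := by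
    rw [eq_top_iff]
    intro ε _
    rw [← Finset.univ_prod_mulSingle ε]
    refine Subgroup.prod_mem _ fun i _ => ?_
    rcases Int.units_eq_one_or (ε i) with h2 | h2
    · rw [h2, Pi.mulSingle_one]; exact one_mem _
    · rw [h2, ← sg_eq]
      exact h i
  ext ε
  have h2 : ε ∈ f.eqLocus g := h1 ▸ Subgroup.mem_top ε
  exact h2

/-- The translate of a transvection that fixes exactly the plane through `i, j, k`. -/
theorem exists_fix {i j k : Fin 8} (hij : i ≠ j) (hik : i ≠ k) (hjk : j ≠ k) :
    ∃ g, Aff g ∧ ∀ x, g x = x ↔ (x = i ∨ x = j ∨ x = k ∨ x = i ^^^ j ^^^ k) := by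
  have hdec : ∀ i j k : Fin 8, i ≠ j → i ≠ k → j ≠ k → (i ^^^ j ≠ 0 ∧ i ^^^ k ≠ 0 ∧
      i ^^^ j ≠ i ^^^ k) ∧ ∀ x, tvf (i ^^^ j) (i ^^^ k) (x ^^^ i) ^^^ i = x ↔
        (x = i ∨ x = j ∨ x = k ∨ x = i ^^^ j ^^^ k) := by decide +kernel
  obtain ⟨⟨h1, h2, h3⟩, h4⟩ := hdec i j k hij hik hjk
  exact ⟨tr i * tv (i ^^^ j) (i ^^^ k) * tr i,
    aff_mul (aff_mul (aff_tr i) (aff_tv _ _ h1 h2 h3)) (aff_tr i), h4⟩

/-- Permutations that preserve the code are affine. -/
theorem aff_of_autCode {σ : Equiv.Perm (Fin 8)} (h : AutCode σ) : Aff σ := by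
  intro i j k
  have h1 := h _ (sg_code (σ i) (σ j) (σ k))
  rw [map_mul, map_mul, map_mul] at h1
  have h2 : ∀ m, pm σ (sg m) = sg (σ⁻¹ m) := fun m => by
    have := pm_sg σ⁻¹ m
    rwa [inv_inv] at this
  have h3 : ∀ m, σ⁻¹ (σ m) = m := σ.symm_apply_apply
  rw [h2, h2, h2, h2, h3, h3, h3] at h1
  have h4 := sg_code_iff h1
  rw [← h4]
  exact σ.apply_symm_apply _

theorem autCode_iff {σ : Equiv.Perm (Fin 8)} : AutCode σ ↔ Aff σ :=
  ⟨aff_of_autCode, autCode_of_aff⟩

/-- A frame with the property `IsFr` is labelled. -/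
theorem lab_of_isFr (ha : Frame a) (hd : IsFr det neg IsRefl (dh ha)) : Lab a := by
  obtain ⟨π, hl⟩ := exists_lab ha
  have hb : Frame (fun i => a (π i)) := ha.comp π
  -- conjugates by `π` of affine maps are affine
  have key : ∀ g, Aff g → Aff (π * g * π⁻¹) := by
    intro g hg
    obtain ⟨w, hw⟩ := exists_perm hb hl (autCode_of_aff hg)
    have h1 : ∀ i, ap w⁻¹ (a i) = (((1 : Sg) i : ℤˣ) : ℤ) • a ((π * g * π⁻¹) i) := by
      intro i
      have h2 : a i = a (π (π⁻¹ i)) := by rw [show π (π⁻¹ i) = i from π.apply_symm_apply i]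
      have h3 : ap w (a (π (g (π⁻¹ i)))) = a (π (π⁻¹ i)) := hw (π⁻¹ i)
      rw [← h2] at h3
      rw [← h3, ap_inv_ap, Pi.one_apply, Units.val_one, one_smul]
      rfl
    have h2 := conj_eq ha h1
    obtain ⟨σ, hσ, h3⟩ := hd.nrm w (fun ε hε => ⟨pm (π * g * π⁻¹) ε, by
      rw [mem_Ev, prd_pm]; exact hε, h2 ε⟩)
    have h4 : σ = π * g * π⁻¹ := by
      ext1 i
      have h5 : ∀ ε : Sg, ε (σ i) = ε ((π * g * π⁻¹) i) := by
        intro ε
        have h6 := inj ha ((h3 ε).symm.trans (h2 ε))
        exact congrFun h6 i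
      by_contra hne
      have h6 := h5 (sg (σ i))
      simp only [sg, if_pos] at h6
      rw [if_neg (Ne.symm hne)] at h6
      exact absurd h6 (by decide)
    rw [← h4]
    exact aff_of_autCode hσ
  have hπ : Aff π := by
    intro i j k
    have htriv : ∀ x y : Fin 8, x ^^^ x ^^^ y = y ∧ x ^^^ y ^^^ x = y ∧ y ^^^ x ^^^ x = y := by
      decide +kernel
    by_cases hij : i = j
    · rw [hij, (htriv _ _).1, (htriv _ _).1]
    by_cases hik : i = k
    · rw [hik, (htriv _ _).2.1, (htriv _ _).2.1]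
    by_cases hjk : j = k
    · rw [hjk, (htriv _ _).2.2, (htriv _ _).2.2]
    obtain ⟨g, hg, hfix⟩ := exists_fix hij hik hjk
    have h1 := key g hg
    have hπi : ∀ x, (π * g * π⁻¹) x = x ↔ g (π⁻¹ x) = π⁻¹ x := by
      intro x
      rw [Equiv.Perm.mul_apply, Equiv.Perm.mul_apply]
      constructor
      · intro h
        have h' : π⁻¹ (π (g (π⁻¹ x))) = π⁻¹ x := congrArg (fun y => π⁻¹ y) h
        rwa [show π⁻¹ (π (g (π⁻¹ x))) = g (π⁻¹ x) from π.symm_apply_apply _] at h'
      · intro h
        rw [h]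
        exact π.apply_symm_apply x
    have hs : ∀ m, π⁻¹ (π m) = m := π.symm_apply_apply
    have fi : (π * g * π⁻¹) (π i) = π i := (hπi _).2 (by rw [hs]; exact (hfix i).2 (Or.inl rfl))
    have fj : (π * g * π⁻¹) (π j) = π j :=
      (hπi _).2 (by rw [hs]; exact (hfix j).2 (Or.inr (Or.inl rfl)))
    have fk : (π * g * π⁻¹) (π k) = π k :=
      (hπi _).2 (by rw [hs]; exact (hfix k).2 (Or.inr (Or.inr (Or.inl rfl))))
    have h2 := h1 (π i) (π j) (π k)
    rw [fi, fj, fk] at h2
    have h3 := (hfix _).1 ((hπi _).1 h2)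
    have hne : ∀ x y z : Fin 8, x ≠ y → x ≠ z → y ≠ z → x ^^^ y ^^^ z ≠ x ∧ x ^^^ y ^^^ z ≠ y ∧
        x ^^^ y ^^^ z ≠ z := by decide +kernel
    have h4 := hne (π i) (π j) (π k) (fun h => hij (π.injective h)) (fun h => hik (π.injective h))
      (fun h => hjk (π.injective h))
    have h5 : ∀ m, π⁻¹ (π i ^^^ π j ^^^ π k) = m → π i ^^^ π j ^^^ π k = π m := by
      intro m hm
      rw [← hm]
      exact (π.apply_symm_apply _).symm
    rcases h3 with h | h | h | h
    · exact absurd (h5 _ h) h4.1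
    · exact absurd (h5 _ h) h4.2.1
    · exact absurd (h5 _ h) h4.2.2
    · exact (h5 _ h).symm
  intro ε
  have h1 : ∀ x, sgn (fun i => a (π i)) x = pm π (sgn a x) := fun x => rfl
  constructor
  · intro hε
    obtain ⟨x, hx⟩ := (hl _).1 (autCode_of_aff hπ ε hε)
    refine ⟨x, ?_⟩
    rw [h1] at hx
    exact (pm π).injective hx
  · rintro ⟨x, rfl⟩
    have h2 : IsCode (pm π (sgn a x)) := (hl _).2 ⟨x, h1 x⟩
    have h3 := autCode_of_aff (aff_inv hπ) _ h2
    rwa [pm_inv_pm] at h3

/-- **A homomorphism with the property `IsFr` comes from a labelled frame.** -/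
theorem exists_frame {d : Sg →* W} (hd : IsFr det neg IsRefl d) :
    ∃ (a : Fin 8 → Lat) (ha : Frame a), Lab a ∧ d = dh ha := by
  choose a har had using hd.refl
  have hne : ∀ i j, i ≠ j → sg i ≠ sg j := by decide +kernel
  have ha : Frame a := by
    refine ⟨har, fun i j hij => ?_⟩
    rcases orth_of_comm (har i) (har j) (by
      rw [← had i, ← had j, ← map_mul, ← map_mul, mul_comm]) with h | h
    · exact h
    · exfalso
      rw [← had i, ← had j] at h
      exact hne i j hij (hd.inj h)
  have h1 : d = dh ha := ext_sg fun i => by rw [had i, dh_sg]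
  refine ⟨a, ha, ?_, h1⟩
  subst h1
  exact lab_of_isFr ha hd

/-! ### The `D₈` group of a parallel class of pairs -/

/-- Coordinates of the norm `4` vectors. -/
def cf (t m i : Fin 8) : ℤ :=
  if m < m ^^^ t then (if i = m ∨ i = m ^^^ t then 1 else 0)
  else (if i = m ^^^ t then 1 else if i = m then -1 else 0)

theorem cf_gram : ∀ t : Fin 8, t ≠ 0 → ∀ m m' : Fin 8,
    ∑ i, cf t m i * cf t m' i = if m = m' then 2 else 0 := by decide +kernel

/-- Parity of the coordinates. -/
def par (c : ℤ) : ℤˣ := if c % 2 = 0 then 1 else -1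

theorem cf_code : ∀ t : Fin 8, t ≠ 0 → ∀ m m' : Fin 8,
    IsCode (fun i => par (cf t m i - cf t m' i)) := by decide +kernel

theorem cf_supp : ∀ t m i : Fin 8, cf t m i ≠ 0 → i = m ∨ i = m ^^^ t := by decide +kernel

theorem form_lin (ha : Frame a) (c e : Fin 8 → ℤ) :
    form (∑ i, c i • a i) (∑ i, e i • a i) = 2 * ∑ i, c i * e i := by
  rw [form_sum_right, Finset.mul_sum]
  refine Finset.sum_congr rfl fun j _ => ?_
  rw [form_smul_right, ha.form_sum]; ring

theorem exists_two (ha : Frame a) (hl : Lab a) (e : Fin 8 → ℤ) (he : IsCode (fun i => par (e i))) :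
    ∃ y, ∑ i, e i • a i = (2 : ℤ) • y := by
  obtain ⟨x, hx⟩ := (hl _).1 he
  have h1 : ∀ i, ∃ k, e i - form x (a i) = 2 * k := by
    intro i
    have h2 := congrFun hx i
    rw [sgn_apply] at h2
    unfold par at h2
    split_ifs at h2 with h3
    · rw [Int.negOnePow_eq_one_iff] at h2
      obtain ⟨k, hk⟩ := h2
      exact ⟨e i / 2 - k, by omega⟩
    · rw [Int.negOnePow_eq_neg_one_iff] at h2
      obtain ⟨k, hk⟩ := h2
      exact ⟨e i / 2 - k, by omega⟩
  choose k hk using h1
  refine ⟨x + ∑ i, k i • a i, ?_⟩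
  rw [smul_add, ha.two_smul x, Finset.smul_sum, ← Finset.sum_add_distrib]
  refine Finset.sum_congr rfl fun i _ => ?_
  rw [smul_smul, ← add_smul]
  congr 1
  linarith [hk i]

theorem fr4 (ha : Frame a) (hl : Lab a) {t : Fin 8} (ht : t ≠ 0) :
    Fr4 (fun m => ∑ i, cf t m i • a i) where
  gram m m' := by
    rw [form_lin ha, cf_gram t ht]
    split_ifs <;> norm_num
  cong m m' := by
    obtain ⟨y, hy⟩ := exists_two ha hl (fun i => cf t m i - cf t m' i) (cf_code t ht m m')
    refine ⟨y, ?_⟩
    rw [← hy, ← Finset.sum_sub_distrib]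
    exact Finset.sum_congr rfl fun i _ => by rw [sub_smul]

theorem ap_sum (w : W) (f : Fin 8 → Lat) : ap w (∑ i, f i) = ∑ i, ap w (f i) := by
  rw [Fin.sum_univ_eight, Fin.sum_univ_eight]
  simp only [ap_add]

theorem dh_eq_fh (ha : Frame a) (hl : Lab a) {t : Fin 8} (ht : t ≠ 0) {ε : Sg} (hε : ε ∈ Ev)
    (h : ∀ k, ε (k ^^^ t) = ε k) : dh ha ε = fh (fr4 ha hl ht) ⟨ε, hε⟩ := by
  apply eq_fh
  intro j
  rw [ap_sum, Finset.smul_sum]
  refine Finset.sum_congr rfl fun i _ => ?_
  rw [ap_smul, ap_dh]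
  by_cases hc : cf t j i = 0
  · rw [hc, zero_smul, zero_smul, smul_zero]
  · have h1 : ε i = ε j := by
      rcases cf_supp t j i hc with h2 | h2
      · rw [h2]
      · rw [h2, h]
    rw [h1, smul_comm]

theorem exists_t : ∀ ε : Sg, ε ∈ Ev → (wt ε = 2 ∨ wt ε = 6 ∨ IsCode ε) →
    ∃ t : Fin 8, t ≠ 0 ∧ ∀ k, ε (k ^^^ t) = ε k := by decide +kernel

/-- The elements of type `2`, `6`, block of a frame lie in a `D₈` group. -/
theorem fr_ft (d : Sg →* W) (hd : IsFr det neg IsRefl d) (ε : Sg) (hε : ε ∈ Ev)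
    (h : wt ε = 2 ∨ wt ε = 6 ∨ IsCode ε) :
    ∃ f : Ev →* W, IsFt det neg f ∧ d ε ∈ f.range := by
  obtain ⟨a, ha, hl, rfl⟩ := exists_frame hd
  obtain ⟨t, ht, h1⟩ := exists_t ε hε h
  exact ⟨fh (fr4 ha hl ht), isFt _, ⟨ε, hε⟩, (dh_eq_fh ha hl ht hε h1).symm⟩

end Cfsg.Agent.OddHalf.D9.EEight.FrFt

end

-- merged: Cfsg.Agent.OddHalf.D9.EEight.EFInst
section

/-!
# `EF det neg IsRefl` (helpers 109, 528, 912)
-/

set_option autoImplicit false

namespace Cfsg.Agent.OddHalf.D9.EEight.EFInst

open Fields EigCard OutRefl TwoTypesEnd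

theorem negRoot : NegRoot := fun _ h1 h2 => InvRoot.exists_neg_root h1 h2

theorem exFt : ExFt := fun n h1 h2 => FtHom.exists_ft n h1 h2

/-- **The facts on `W(E₈)`.** -/
theorem ef : EF det neg IsRefl where
  c_ne := c_ne
  c_sq := c_sq
  c_comm := c_comm
  c_det := c_det
  cenK := cenK
  rf_det := rf_det
  rf_neg := rf_neg
  rf_conj := rf_conj
  rf_trans := rf_trans
  rf_five := RfFive.rf_five
  inv_frame := Extend.inv_frame
  card_le := card_le
  two_types := two_types negRoot exFt
  cx_card := cx_card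
  cx_out := fun v w hv hw => cx_out v w hv hw
  out_refl := fun M hE hM _ hK => out_refl negRoot M hE hM hK
  fr_ft := FrFt.fr_ft

end Cfsg.Agent.OddHalf.D9.EEight.EFInst

end

-- merged: Cfsg.Agent.OddHalf.D9.EEight.RowOf
section

/-!
# D9: the row `2.Ω₈⁺(2)` over the identification and the automorphisms (helper912)

* `row_of_equiv`: `K ≃* K₀ = det.ker`, every automorphism of `K₀` induced by `W`: contradiction;
* `row`: the field `o82` of `Cut.Rows` from the identification `Id` and `AutConj`.
-/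

set_option autoImplicit false

namespace Cfsg.Agent.OddHalf.D9.EEight.RowOf

open Subgroup Cfsg Cfsg.Agent.OddHalf.Iface Cfsg.Agent.OddHalf.Front.FE Cfsg.Agent.OddHalf.D9.EEight
open Cfsg.Agent.OddHalf.D4.EvenEFacts (AutConj)

universe u

/-- **The row for a given isomorphism.** -/
theorem row_of_equiv {G : Type u} [Group G] (C : Ctx G) {K : Subgroup G} (S : Std0 G K) (hc : Cyc K)
    (h2 : Nat.card ↥(center ↥K) = 2) (hA : AutConj) (θ : ↥K ≃* ↥det.ker) : False := by
  haveI := C.fin
  haveI := C.simple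
  obtain ⟨z, q, H, hz, hz1, hr⟩ := Amb.exists_start C S hc h2
  have E := EFInst.ef
  let c₀ : ↥det.ker := ⟨neg, E.c_det⟩
  have hθz : θ z = c₀ := by
    have h1 : ∀ k : W, det k = 1 → (θ z : W) * k = k * (θ z : W) := by
      intro k hk
      obtain ⟨x, hx⟩ := θ.surjective ⟨k, hk⟩
      have h3 := mem_center_iff.1 hz x
      have h4 := congrArg (fun y => ((θ y : ↥det.ker) : W)) h3
      simp only [map_mul, hx] at h4
      exact h4.symm
    rcases E.cenK (θ z : W) h1 with h3 | h3
    · exact absurd ((map_eq_one_iff θ θ.injective).1 (Subtype.ext h3)) hz1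
    · exact Subtype.ext h3
  let φ : ↥det.ker →* G := K.subtype.comp θ.symm.toMonoidHom
  have hφ : ∀ x, φ x = ((θ.symm x : ↥K) : G) := fun _ => rfl
  have hinj : Function.Injective φ := by
    intro a b h
    exact θ.symm.injective (Subtype.ext h)
  have hφz : φ c₀ = (z : G) := by rw [hφ, ← hθz, θ.symm_apply_apply]
  have hrange : (φ.range : Set G) = (K : Set G) := by
    ext x
    constructor
    · rintro ⟨y, rfl⟩
      exact (θ.symm y).2
    · intro hx
      exact ⟨θ ⟨x, hx⟩, by rw [hφ, θ.symm_apply_apply]⟩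
  have hcz : centralizer (K : Set G) = zpowers q := by
    apply le_antisymm
    · intro r hr'
      refine hr r fun k hk => ?_
      exact (mem_centralizer_iff.1 hr' k hk).symm
    · rw [zpowers_le, mem_centralizer_iff]
      intro k hk
      exact H.qK k hk
  refine false_of_hom E φ hinj (z := (z : G)) hφz ?_ ?_ ?_
  · rw [hrange, hcz]
    infer_instance
  · rw [hrange, hcz]
    exact H.pQ
  · intro h hh
    have hn := H.nK h hh
    have hmap : ∀ k : ↥K, h * (k : G) * h⁻¹ ∈ K := fun k => (mem_normalizer_iff.1 hn _).1 k.2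
    have hmap' : ∀ k : ↥K, h⁻¹ * (k : G) * h ∈ K := fun k => by
      rw [mem_normalizer_iff.1 hn]
      have : h * (h⁻¹ * (k : G) * h) * h⁻¹ = k := by group
      rw [this]
      exact k.2
    let β : MulAut ↥K :=
      { toFun := fun k => ⟨h * k * h⁻¹, hmap k⟩
        invFun := fun k => ⟨h⁻¹ * k * h, hmap' k⟩
        left_inv := fun k => Subtype.ext (by
          show h⁻¹ * (h * k * h⁻¹) * h = k
          group)
        right_inv := fun k => Subtype.ext (by
          show h * (h⁻¹ * k * h) * h⁻¹ = k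
          group)
        map_mul' := fun a b => Subtype.ext (by
          show h * ((a : G) * b) * h⁻¹ = (h * a * h⁻¹) * (h * b * h⁻¹)
          group) }
    have hβ : ∀ k : ↥K, ((β k : ↥K) : G) = h * k * h⁻¹ := fun _ => rfl
    obtain ⟨w, hw⟩ := hA ((θ.symm.trans β).trans θ)
    refine ⟨w, fun k => ?_⟩
    have h3 := hw k
    have h4 : θ (β (θ.symm k)) = ⟨w * k * w⁻¹, det_conj k.2⟩ := Subtype.ext h3
    rw [hφ, hφ, ← h4, θ.symm_apply_apply, hβ]

/-- The identification of the double cover of `Ω₈⁺(2)`. -/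
def Ident : Prop := ∀ (K : Type u) [Group K], Finite K → commutator K = ⊤ → Nat.card ↥(center K) = 2 →
  Cut.XO82 (K ⧸ center K) → Nonempty (K ≃* ↥det.ker)

/-- **The row `2.Ω₈⁺(2)` of D9**, the field `o82` of `Cut.Rows`. -/
theorem row (hI : Ident.{u}) (hA : AutConj) : Cut.Row.{u} (fun K _ => Cut.Two (fun X _ => Cut.XO82 X) K) := by
  intro G _ C K S hc h
  haveI := C.fin
  obtain ⟨θ⟩ := hI ↥K inferInstance (Amb.commutator_eq_top S) h.1 h.2
  exact row_of_equiv C S hc h.1 hA θ

end Cfsg.Agent.OddHalf.D9.EEight.RowOf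

end

-- merged: Cfsg.Agent.OddHalf.D9.EEight.IdPi
section

/-!
# The map onto `P Q` for a group with `K/Z(K) ≃ Ω₈⁺(2)` (helper912)
-/

set_option autoImplicit false

namespace Cfsg.Agent.OddHalf.D9.EEight.RowOf

open Subgroup Cfsg Cfsg.Agent.OddHalf.D9.EEight.Id

universe u

/-- the two forms agree -/
theorem form_eq : StdO8.Model.q = ModTwo.Q := by
  apply QuadraticMap.ext
  intro v
  rw [ModTwo.Q, LieClassical.OrthForms.coe_plusForm, StdO8.Model.q_apply]
  rfl

theorem exists_om {X : Type u} [Group X] (h : Cut.XO82 X) :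
    Nonempty (X ≃* ClassicalGeometry.OrthAut1.P ModTwo.Q) := by
  obtain ⟨F, _, _, hF, ⟨e⟩⟩ := h
  obtain ⟨e1⟩ := StdO8.Model.exists_equiv hF
  have e2 : ↥(LieClassical.OrthCore.E ModTwo.Q) ≃* ClassicalGeometry.OrthAut1.P ModTwo.Q :=
    ((QuotientGroup.quotientMulEquivOfEq Onto.center_E).trans QuotientGroup.quotientBot).symm
  have e3 : ↥StdO8.Model.Om ≃* ↥(LieClassical.OrthCore.E ModTwo.Q) :=
    MulEquiv.subgroupCongr (by rw [StdO8.Model.Om, form_eq])
  exact ⟨(e.trans e1).trans (e3.trans e2)⟩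

/-- the covering map -/
theorem exists_pi {K : Type u} [Group K] (h : Cut.XO82 (K ⧸ center K)) :
    ∃ π : K →* ClassicalGeometry.OrthAut1.P ModTwo.Q, Function.Surjective π ∧ π.ker = center K := by
  obtain ⟨e⟩ := exists_om h
  refine ⟨e.toMonoidHom.comp (QuotientGroup.mk' (center K)), e.surjective.comp (QuotientGroup.mk'_surjective _), ?_⟩
  ext x
  rw [MonoidHom.mem_ker, ← QuotientGroup.eq_one_iff (N := center K) x]
  exact map_eq_one_iff e e.injective

end Cfsg.Agent.OddHalf.D9.EEight.RowOf

end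

-- merged: Cfsg.Agent.OddHalf.D9.EEight.AutD
section

/-!
# Automorphisms of `K₀ = det.ker`: frames and pairs of orthogonal roots
-/

set_option autoImplicit false

namespace Cfsg.Agent.OddHalf.D9.EEight.AutD

open Equiv Subgroup Cfsg.Agent.OddHalf.D9.EEight.Counts Cfsg.Agent.OddHalf.D9.EEight.FrameBase
  Cfsg.Agent.OddHalf.D9.EEight.FrameHom Cfsg.Agent.OddHalf.D9.EEight.FrameCode
  Cfsg.Agent.OddHalf.D9.EEight.Move

/-- the roots of a frame are roots -/
theorem fr {a : Fin 8 → Lat} (ha : Frame a) (i : Fin 8) : IsRoot (a i) := ha.root i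

theorem conj_dh {a b : Fin 8 → Lat} (ha : Frame a) (hb : Frame b) {w : W}
    (h : ∀ i, ap w (a i) = b i) (ε : Sg) : w * dh ha ε * w⁻¹ = dh hb ε := by
  apply eq_dh
  intro j
  rw [ap_mul, ap_mul, ← h j, ap_inv_ap, ap_dh, ap_smul]

/-- labelled frames are conjugate -/
theorem exists_frame_conj {a b : Fin 8 → Lat} (ha : Frame a) (hla : Lab a) (hb : Frame b)
    (hlb : Lab b) : ∃ w : W, ∀ i, ap w (a i) = b i := by
  apply exists_map ha hb
  intro x
  obtain ⟨y, hy⟩ := (hlb _).1 ((hla _).2 ⟨x, rfl⟩)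
  refine ⟨y, fun i => ?_⟩
  rw [even_sub_iff]
  exact (congrFun hy i).symm

theorem det_ev {a : Fin 8 → Lat} (ha : Frame a) {ε : Sg} (hε : ε ∈ Ev) : dh ha ε ∈ det.ker := by
  rw [MonoidHom.mem_ker, det_dh]
  exact hε

theorem det_two {r s : Lat} (hr : IsRoot r) (hs : IsRoot s) : refl hr * refl hs ∈ det.ker := by
  rw [MonoidHom.mem_ker, map_mul, det_refl, det_refl]
  decide

/-- **Step D** -/
theorem exists_conj (E : EF det neg IsRefl) (α : MulAut det.ker) {a : Fin 8 → Lat} (ha : Frame a)
    (hl : Lab a) : ∃ w : W, ∀ ε (hε : ε ∈ Ev), (α ⟨dh ha ε, det_ev ha hε⟩ : W) = w * dh ha ε * w⁻¹ := by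
  obtain ⟨d', hd', k, hk, h⟩ := frame_map E α (isFr ha hl)
  obtain ⟨b, hb, hlb, rfl⟩ := FrFt.exists_frame hd'
  obtain ⟨w, hw⟩ := exists_frame_conj ha hl hb hlb
  refine ⟨k * w, fun ε hε => ?_⟩
  have h1 := h ⟨ε, hε⟩
  refine h1.trans ?_
  have h2 := conj_dh ha hb hw ε
  show k * dh hb ε * k⁻¹ = _
  rw [← h2]
  group

/-- the image of a product of two orthogonal reflections -/
theorem pair_map (E : EF det neg IsRefl) (α : MulAut det.ker) {r s : Lat} (hr : IsRoot r)
    (hs : IsRoot s) (hrs : form r s = 0) :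
    ∃ (r' s' : Lat) (hr' : IsRoot r') (hs' : IsRoot s'), form r' s' = 0 ∧
      (α ⟨refl hr * refl hs, det_two hr hs⟩ : W) = refl hr' * refl hs' := by
  obtain ⟨a, ha, hl, rfl, rfl⟩ := InvRoot.exists_frame_pair hr hs hrs
  obtain ⟨w, hw⟩ := exists_conj E α ha hl
  have hε : (sg 0 * sg 1 : Sg) ∈ Ev := by decide
  have h1 := hw _ hε
  have e1 : dh ha (sg 0 * sg 1) = refl hr * refl hs := by
    rw [map_mul, dh_sg, dh_sg]
  have e2 : (⟨dh ha (sg 0 * sg 1), det_ev ha hε⟩ : det.ker) = ⟨refl hr * refl hs, det_two hr hs⟩ :=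
    Subtype.ext e1
  rw [e2, e1] at h1
  refine ⟨ap w (a 0), ap w (a 1), isRoot_ap hr w, isRoot_ap hs w, ?_, ?_⟩
  · rw [form_ap, hrs]
  · rw [h1, ← RfFive.conj_refl hr w, ← RfFive.conj_refl hs w]
    group

/-- the roots inverted by a product of two orthogonal reflections -/
theorem neg_pair {r s v : Lat} (hr : IsRoot r) (hs : IsRoot s) (hrs : form r s = 0) (hv : IsRoot v)
    (h : ap (refl hr * refl hs) v = -v) : (v = r ∨ v = -r) ∨ (v = s ∨ v = -s) := by
  have hr2 : form r r = 2 := hr
  have hs2 : form s s = 2 := hs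
  have hv2 : form v v = 2 := hv
  rw [ap_mul, ap_refl, ap_refl, form_sub_left, form_smul_left, form_comm s r, hrs, mul_zero,
    sub_zero] at h
  have h1 := congrArg (fun x => form x v) h
  simp only [form_sub_left, form_smul_left, form_neg_left, form_comm s v, form_comm r v, hv2] at h1
  obtain ⟨b1, b2⟩ := root_bound hv hr
  obtain ⟨b3, b4⟩ := root_bound hv hs
  have h2 : form v r * form v r + form v s * form v s = 4 := by linarith
  have h3 : form v r = 2 ∨ form v r = -2 ∨ form v s = 2 ∨ form v s = -2 := by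
    generalize form v r = x at *
    generalize form v s = y at *
    clear h h1
    interval_cases x <;> interval_cases y <;> simp_all
  rcases h3 with h3 | h3 | h3 | h3
  · left; left; exact eq_of_form hv hr h3
  · left; right
    rw [eq_neg_of_form hv hr h3, neg_neg]
  · right; left; exact eq_of_form hv hs h3
  · right; right
    rw [eq_neg_of_form hv hs h3, neg_neg]

/-! ### Roots outside a frame -/

/-- A root that is not in the frame. -/
structure NF (a : Fin 8 → Lat) (b : Lat) : Prop where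
  root : IsRoot b
  ne : ∀ i, form b (a i) ≠ 2 ∧ form b (a i) ≠ -2

variable {a : Fin 8 → Lat}

theorem root_cases (ha : Frame a) {b : Lat} (hb : IsRoot b) : NF a b ∨ ∃ i, b = a i ∨ b = -a i := by
  by_cases h : ∀ i, form b (a i) ≠ 2 ∧ form b (a i) ≠ -2
  · exact Or.inl ⟨hb, h⟩
  · right
    push Not at h
    obtain ⟨i, hi⟩ := h
    refine ⟨i, ?_⟩
    by_cases h2 : form b (a i) = 2
    · left; exact eq_of_form hb (ha.root i) h2
    · right
      rw [eq_neg_of_form hb (ha.root i) (hi h2), neg_neg]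

theorem NF.val (ha : Frame a) {b : Lat} (hb : NF a b) (i : Fin 8) :
    form b (a i) = 0 ∨ form b (a i) = 1 ∨ form b (a i) = -1 := by
  obtain ⟨h1, h2⟩ := root_bound hb.root (ha.root i)
  obtain ⟨h3, h4⟩ := hb.ne i
  omega

theorem NF.card (ha : Frame a) {b : Lat} (hb : NF a b) :
    (Finset.univ.filter (fun i => form b (a i) ≠ 0)).card = 4 := by
  have h1 := ha.sum_form b b
  have h2 : form b b = 2 := hb.root
  rw [h2] at h1
  have h3 : (((Finset.univ.filter (fun i => form b (a i) ≠ 0)).card : ℕ) : ℤ) =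
      ∑ i, form b (a i) * form b (a i) := by
    rw [Finset.card_filter, Nat.cast_sum]
    apply Finset.sum_congr rfl
    intro i _
    rcases hb.val ha i with h | h | h <;> rw [h] <;> simp
  rw [h1] at h3
  exact_mod_cast h3

theorem NF.card' (ha : Frame a) {b : Lat} (hb : NF a b) :
    (Finset.univ.filter (fun i => form b (a i) = 0)).card = 4 := by
  have h1 := hb.card ha
  have h2 := Finset.card_filter_add_card_filter_not (s := (Finset.univ : Finset (Fin 8)))
    (fun i => form b (a i) = 0)
  simp only [Finset.card_univ, Fintype.card_fin] at h2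
  have h3 : (Finset.univ.filter (fun i => ¬ form b (a i) = 0)).card = 4 := h1
  omega

/-- three other indices -/
theorem exists_others {S : Finset (Fin 8)} (hS : S.card = 4) {j : Fin 8} (hj : j ∈ S) :
    ∃ k l, k ∈ S ∧ l ∈ S ∧ k ≠ j ∧ l ≠ j ∧ k ≠ l := by
  have h1 : (S.erase j).card = 3 := by rw [Finset.card_erase_of_mem hj, hS]
  obtain ⟨k, l, m, hkl, -, -, h⟩ := Finset.card_eq_three.1 h1
  have hk : k ∈ S.erase j := by rw [h]; simp
  have hl : l ∈ S.erase j := by rw [h]; simp
  rw [Finset.mem_erase] at hk hl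
  exact ⟨k, l, hk.2, hl.2, hk.1, hl.1, hkl⟩

theorem mem_zero {b : Lat} {j : Fin 8} :
    j ∈ Finset.univ.filter (fun i => form b (a i) = 0) ↔ form b (a j) = 0 := by
  rw [Finset.mem_filter]
  exact ⟨fun h => h.2, fun h => ⟨Finset.mem_univ _, h⟩⟩

theorem dh_pr (ha : Frame a) (j k : Fin 8) :
    dh ha (pr j k) = refl (fr ha j) * refl (fr ha k) := by
  unfold pr
  rw [map_mul, dh_sg, dh_sg]

theorem pr_val {j k : Fin 8} (hjk : j ≠ k) : pr j k j = -1 ∧ pr j k k = -1 ∧
    ∀ i, i ≠ j → i ≠ k → pr j k i = 1 := by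
  revert j k
  decide

/-- a vector is fixed by the sign changes outside its support -/
theorem dh_fix (ha : Frame a) {ε : Sg} {b : Lat} (h : ∀ i, form b (a i) ≠ 0 → ε i = 1) :
    ap (dh ha ε) b = b := by
  apply ha.ext
  intro i
  rw [form_dh]
  by_cases h1 : form b (a i) = 0
  · rw [h1, mul_zero]
  · rw [h i h1, Units.val_one, one_mul]

theorem refl_conj_eq {r : Lat} (hr : IsRoot r) {w : W} (h : ap w r = r ∨ ap w r = -r) :
    w * refl hr * w⁻¹ = refl hr := by
  rw [RfFive.conj_refl hr w]
  exact RfFive.refl_congr hr _ h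

theorem comm_of_conj {x w : W} (h : w * x * w⁻¹ = x) : x * w = w * x := by
  rw [mul_inv_eq_iff_eq_mul] at h
  exact h.symm

/-- two inverted frame roots -/
theorem eq_dh_of_two (ha : Frame a) {r s : Lat} (hr : IsRoot r) (hs : IsRoot s) (hrs : form r s = 0)
    {j k : Fin 8} (hjk : j ≠ k) (hj : ap (refl hr * refl hs) (a j) = -a j)
    (hk : ap (refl hr * refl hs) (a k) = -a k) : refl hr * refl hs = dh ha (pr j k) := by
  rw [dh_pr]
  have ho := ha.orth j k hjk
  have hj2 : form (a j) (a j) = 2 := ha.root j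
  have comm : refl (fr ha j) * refl (fr ha k) =
      refl (fr ha k) * refl (fr ha j) := by
    rw [← dh_pr ha j k, ← dh_pr ha k j]
    unfold pr
    rw [mul_comm]
  -- `a j`, `a k` cannot be the same up to sign
  have hno : ∀ x : Lat, (a j = x ∨ a j = -x) → (a k = x ∨ a k = -x) → False := by
    intro x h1 h2
    have h3 : form (a j) (a k) = 2 ∨ form (a j) (a k) = -2 := by
      have hx : form x x = 2 := by
        rcases h1 with h1 | h1
        · rw [← h1]; exact hj2
        · have : x = -a j := by rw [h1, neg_neg]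
          rw [this, form_neg_left, form_neg_right, neg_neg]; exact hj2
      rcases h1 with h1 | h1 <;> rcases h2 with h2 | h2 <;> rw [h1, h2] <;>
        simp only [form_neg_left, form_neg_right, hx, neg_neg] <;> tauto
    rw [ho] at h3
    omega
  rcases neg_pair hr hs hrs (ha.root j) hj with h1 | h1
  · rcases neg_pair hr hs hrs (ha.root k) hk with h2 | h2
    · exact absurd h2 (fun h2 => hno r h1 h2)
    · rw [RfFive.refl_congr hr (fr ha j) h1, RfFive.refl_congr hs (fr ha k) h2]
  · rcases neg_pair hr hs hrs (ha.root k) hk with h2 | h2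
    · rw [comm, RfFive.refl_congr hs (fr ha j) h1, RfFive.refl_congr hr (fr ha k) h2]
    · exact absurd h2 (fun h2 => hno s h1 h2)

end Cfsg.Agent.OddHalf.D9.EEight.AutD

end

-- merged: Cfsg.Agent.OddHalf.D9.EEight.AutE
section

/-!
# Automorphisms of `K₀` that fix the even sign changes of a frame
-/

set_option autoImplicit false

namespace Cfsg.Agent.OddHalf.D9.EEight.AutD

open Equiv Subgroup Cfsg.Agent.OddHalf.D9.EEight.Counts Cfsg.Agent.OddHalf.D9.EEight.FrameBase
  Cfsg.Agent.OddHalf.D9.EEight.FrameHom Cfsg.Agent.OddHalf.D9.EEight.FrameCode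
  Cfsg.Agent.OddHalf.D9.EEight.Move

variable {a : Fin 8 → Lat}

/-- `refl b * refl (a m)` as an element of the kernel -/
noncomputable def rr (ha : Frame a) {b : Lat} (hb : IsRoot b) (m : Fin 8) : det.ker :=
  ⟨refl hb * refl (fr ha m), det_two _ _⟩

/-- sign changes as elements of the kernel -/
noncomputable def dk (ha : Frame a) (ε : Ev) : det.ker := ⟨dh ha ε, det_ev ha ε.2⟩

theorem refl_sq {r : Lat} (hr : IsRoot r) : refl hr * refl hr = 1 := by
  apply ext_ap
  intro x
  have h : form r r = 2 := hr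
  rw [ap_mul, ap_one, ap_refl, ap_refl, form_sub_left, form_smul_left, h]
  rw [show form x r - form x r * 2 = - form x r by ring, neg_smul]
  abel

theorem rr_mul (ha : Frame a) {b : Lat} (hb : IsRoot b) (m n : Fin 8) :
    rr ha hb m * dk ha ⟨pr m n, pr_mem m n⟩ = rr ha hb n := by
  apply Subtype.ext
  show refl hb * refl (fr ha m) * dh ha (pr m n) = _
  rw [dh_pr]
  have : ∀ x y z : W, y * y = 1 → x * y * (y * z) = x * z := by
    intro x y z h
    rw [mul_assoc, ← mul_assoc y, h, one_mul]
  rw [this _ _ _ (refl_sq _)]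
  rfl

variable (α : MulAut det.ker)

/-- `α` fixes the even sign changes of the frame -/
def Fixes (ha : Frame a) : Prop := ∀ ε : Ev, α (dk ha ε) = dk ha ε

variable {α}

/-- **Step E1** -/
theorem exists_image (E : EF det neg IsRefl) (ha : Frame a) (hα : Fixes α ha) {b : Lat}
    (hb : NF a b) {m : Fin 8} (hm : form b (a m) = 0) :
    ∃ (b' : Lat) (hb' : NF a b'), (∀ j, form b (a j) = 0 → form b' (a j) = 0) ∧
      α (rr ha hb.root m) = rr ha hb'.root m := by
  have hab : form (a m) b = 0 := by rw [form_comm]; exact hm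
  -- the images
  have himg : ∀ i, form b (a i) = 0 → ∃ (r s : Lat) (hr : IsRoot r) (hs : IsRoot s), form r s = 0 ∧
      (α (rr ha hb.root i) : W) = refl hr * refl hs :=
    fun i hi => pair_map E α hb.root (fr ha i) hi
  -- `b` is not fixed
  have hbb : b ≠ 0 := by
    intro h
    have h2 : form b b = 2 := hb.root
    rw [h] at h2
    simp [form] at h2
  -- the relation between the images
  have hrel : ∀ i, α (rr ha hb.root i) = α (rr ha hb.root m) * dk ha ⟨pr m i, pr_mem m i⟩ := by
    intro i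
    rw [← rr_mul ha hb.root m i, map_mul, hα]
  -- (L2)
  have L2 : ∀ i, form b (a i) = 0 → ∀ j k, j ≠ k → form b (a j) = 0 → form b (a k) = 0 →
      ap (α (rr ha hb.root i) : W) (a j) = -a j → ap (α (rr ha hb.root i) : W) (a k) = -a k →
      False := by
    intro i hi j k hjk hj hk h1 h2
    obtain ⟨r, s, hr, hs, hrs, he⟩ := himg i hi
    rw [he] at h1 h2
    have h3 := eq_dh_of_two ha hr hs hrs hjk h1 h2
    rw [← he] at h3
    have h4 : α (rr ha hb.root i) = α (dk ha ⟨pr j k, pr_mem j k⟩) := by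
      rw [hα]
      exact Subtype.ext h3
    have h5 := congrArg Subtype.val (α.injective h4)
    have h6 : ap (refl hb.root * refl (fr ha i)) b = ap (dh ha (pr j k)) b := by
      have : refl hb.root * refl (fr ha i) = dh ha (pr j k) := h5
      rw [this]
    rw [ap_mul, ap_refl_orth _ hi, ap_refl_self, dh_fix ha] at h6
    · apply hbb
      have h7 : (2 : ℤ) • b = 0 := by
        rw [two_smul]
        nth_rewrite 1 [← h6]
        exact neg_add_cancel b
      exact two_smul_inj (by rw [h7, smul_zero])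
    · intro l hl
      apply (pr_val hjk).2.2
      · rintro rfl; exact hl hj
      · rintro rfl; exact hl hk
  -- (S) frame roots outside the support are mapped to `±`
  have S : ∀ j, form b (a j) = 0 → ap (α (rr ha hb.root m) : W) (a j) = a j ∨
      ap (α (rr ha hb.root m) : W) (a j) = -a j := by
    intro j hj
    obtain ⟨k, l, hk, hl, hkj, hlj, hkl⟩ := exists_others (hb.card' ha) (mem_zero.2 hj)
    rw [mem_zero] at hk hl
    -- commuting with the pairs
    have hcomm : ∀ k, form b (a k) = 0 → k ≠ j →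
        (α (rr ha hb.root m) : W) * dh ha (pr j k) = dh ha (pr j k) * (α (rr ha hb.root m) : W) := by
      intro k hk hkj
      have h1 : rr ha hb.root m * dk ha ⟨pr j k, pr_mem j k⟩ =
          dk ha ⟨pr j k, pr_mem j k⟩ * rr ha hb.root m := by
        apply Subtype.ext
        show refl hb.root * refl (fr ha m) * dh ha (pr j k) =
          dh ha (pr j k) * (refl hb.root * refl (fr ha m))
        have c1 : refl hb.root * dh ha (pr j k) = dh ha (pr j k) * refl hb.root := by
          apply comm_of_conj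
          apply refl_conj_eq
          left
          apply dh_fix ha
          intro i hi
          apply (pr_val hkj.symm).2.2
          · rintro rfl; exact hi hj
          · rintro rfl; exact hi hk
        have c2 : refl (fr ha m) * dh ha (pr j k) =
            dh ha (pr j k) * refl (fr ha m) := by
          rw [← dh_sg, ← map_mul, ← map_mul, mul_comm]
        rw [mul_assoc, c2, ← mul_assoc, c1, mul_assoc]
      have h2 := congrArg α h1
      rw [map_mul, map_mul, hα] at h2
      exact congrArg Subtype.val h2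
    have hv : ∀ k, form b (a k) = 0 → k ≠ j → ∀ i, i ≠ j → i ≠ k →
        form (ap (α (rr ha hb.root m) : W) (a j)) (a i) = 0 := by
      intro k hk hkj i hij hik
      have h1 := congrArg (fun w => form (ap w (a j)) (a i)) (hcomm k hk hkj)
      simp only [ap_mul] at h1
      rw [form_dh, ap_dh, (pr_val hkj.symm).1, (pr_val hkj.symm).2.2 i hij hik] at h1
      rw [ap_smul, form_smul_left] at h1
      simp only [Units.val_neg, Units.val_one] at h1
      omega
    have h0 : ∀ i, i ≠ j → form (ap (α (rr ha hb.root m) : W) (a j)) (a i) = 0 := by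
      intro i hij
      by_cases hik : i = k
      · subst hik
        exact hv l hl hlj i hij hkl
      · exact hv k hk hkj i hij hik
    have hvr : IsRoot (ap (α (rr ha hb.root m) : W) (a j)) := isRoot_ap (ha.root j) _
    rcases root_cases ha hvr with h1 | ⟨i, h1⟩
    · exfalso
      have h2 := h1.card ha
      have h3 : (Finset.univ.filter (fun i =>
          form (ap (α (rr ha hb.root m) : W) (a j)) (a i) ≠ 0)) ⊆ {j} := by
        intro i hi
        rw [Finset.mem_filter] at hi
        rw [Finset.mem_singleton]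
        by_contra hij
        exact hi.2 (h0 i hij)
      have := Finset.card_le_card h3
      rw [h2, Finset.card_singleton] at this
      omega
    · have hij : i = j := by
        by_contra hij
        have h2 := h0 i hij
        have h3 : form (a i) (a i) = 2 := ha.root i
        rcases h1 with h1 | h1
        · rw [h1, h3] at h2; omega
        · rw [h1, form_neg_left, h3] at h2; omega
      subst hij
      exact h1
  -- signs of the images
  have hy : ∀ i j, form b (a j) = 0 → i ≠ m → ((j = m ∨ j = i) →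
      ap (α (rr ha hb.root i) : W) (a j) = -ap (α (rr ha hb.root m) : W) (a j)) := by
    intro i j hj him hj'
    rw [hrel i]
    show ap ((α (rr ha hb.root m) : W) * dh ha (pr m i)) (a j) = _
    rw [ap_mul, ap_dh]
    have : pr m i j = -1 := by
      rcases hj' with rfl | rfl
      · exact (pr_val him.symm).1
      · exact (pr_val him.symm).2.1
    rw [this, Units.val_neg, Units.val_one, neg_smul, one_smul, ap_neg]
  -- `y (a m) = - a m`
  have hmm : ap (α (rr ha hb.root m) : W) (a m) = -a m := by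
    rcases S m hm with h1 | h1
    · exfalso
      obtain ⟨k, l, hk, hl, hkm, hlm, hkl⟩ := exists_others (hb.card' ha) (mem_zero.2 hm)
      rw [mem_zero] at hk hl
      have key : ∀ k, form b (a k) = 0 → k ≠ m → ap (α (rr ha hb.root m) : W) (a k) = -a k := by
        intro k hk hkm
        rcases S k hk with h2 | h2
        · exfalso
          apply L2 k hk m k hkm.symm hm hk
          · rw [hy k m hm hkm (Or.inl rfl), h1]
          · rw [hy k k hk hkm (Or.inr rfl), h2]
        · exact h2
      exact L2 m hm k l hkl hk hl (key k hk hkm) (key l hl hlm)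
    · exact h1
  have hmk : ∀ k, form b (a k) = 0 → k ≠ m → ap (α (rr ha hb.root m) : W) (a k) = a k := by
    intro k hk hkm
    rcases S k hk with h2 | h2
    · exact h2
    · exact (L2 m hm m k hkm.symm hm hk hmm h2).elim
  -- the second root
  obtain ⟨r, s, hr, hs, hrs, he⟩ := himg m hm
  have hcommrs : refl hr * refl hs = refl hs * refl hr := by
    have h1 : refl hs * refl hr * (refl hs)⁻¹ = refl hr :=
      refl_conj_eq hr (Or.inl (ap_refl_orth hs hrs))
    exact comm_of_conj h1
  obtain ⟨b', hb', hb'm, he'⟩ : ∃ (b' : Lat) (hb' : IsRoot b'), form b' (a m) = 0 ∧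
      (α (rr ha hb.root m) : W) = refl hb' * refl (fr ha m) := by
    rw [he] at hmm
    rcases neg_pair hr hs hrs (ha.root m) hmm with h1 | h1
    · refine ⟨s, hs, ?_, ?_⟩
      · rw [form_comm]
        rcases h1 with h1 | h1 <;> rw [h1]
        · exact hrs
        · rw [form_neg_left, hrs, neg_zero]
      · rw [he, hcommrs, RfFive.refl_congr hr (fr ha m) h1]
    · refine ⟨r, hr, ?_, ?_⟩
      · rcases h1 with h1 | h1 <;> rw [h1]
        · exact hrs
        · rw [form_neg_right, hrs, neg_zero]
      · rw [he, RfFive.refl_congr hs (fr ha m) h1]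
  have hb'k : ∀ k, form b (a k) = 0 → form b' (a k) = 0 := by
    intro k hk
    by_cases hkm : k = m
    · rw [hkm]; exact hb'm
    · have h1 := hmk k hk hkm
      rw [he', ap_mul, ap_refl_orth _ (ha.orth k m hkm), ap_refl] at h1
      have h2 : form (a k) b' • b' = 0 := by
        rw [sub_eq_self] at h1
        exact h1
      have h3 := congrArg (fun x => form x b') h2
      have h4 : form b' b' = 2 := hb'
      simp only [form_smul_left, h4] at h3
      have h5 : form (0 : Lat) b' = 0 := by simp [form]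
      rw [h5] at h3
      rw [form_comm]
      omega
  have hnf : NF a b' := by
    rcases root_cases ha hb' with h1 | ⟨i, h1⟩
    · exact h1
    · exfalso
      have hi2 : form (a i) (a i) = 2 := ha.root i
      have him : i ≠ m := by
        rintro rfl
        rcases h1 with h1 | h1
        · rw [h1, hi2] at hb'm; omega
        · rw [h1, form_neg_left, hi2] at hb'm; omega
      have h2 : α (rr ha hb.root m) = α (dk ha ⟨pr i m, pr_mem i m⟩) := by
        rw [hα]
        apply Subtype.ext
        rw [he']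
        show _ = dh ha (pr i m)
        rw [dh_pr, RfFive.refl_congr (fr ha i) hb' h1]
      have h3 := congrArg Subtype.val (α.injective h2)
      have h4 : refl hb.root * refl (fr ha m) = dh ha (pr i m) := h3
      rw [dh_pr, mul_left_inj] at h4
      have h5 := congrArg (fun w => form (ap w b) b) h4
      have hb2 : form b b = 2 := hb.root
      simp only [ap_refl, form_sub_left, form_smul_left, hb2, form_comm (a i) b] at h5
      rcases hb.val ha i with h6 | h6 | h6 <;> rw [h6] at h5 <;> omega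
  exact ⟨b', hnf, hb'k, Subtype.ext he'⟩

end Cfsg.Agent.OddHalf.D9.EEight.AutD

end

-- merged: Cfsg.Agent.OddHalf.D9.EEight.AutF
section

/-!
# The images of the roots outside the frame
-/

set_option autoImplicit false

namespace Cfsg.Agent.OddHalf.D9.EEight.AutD

open Equiv Subgroup Cfsg.Agent.OddHalf.D9.EEight.Counts Cfsg.Agent.OddHalf.D9.EEight.FrameBase
  Cfsg.Agent.OddHalf.D9.EEight.FrameHom Cfsg.Agent.OddHalf.D9.EEight.FrameCode
  Cfsg.Agent.OddHalf.D9.EEight.Move

variable {a : Fin 8 → Lat} {α : MulAut det.ker}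

/-- `b'` is the image of `b` -/
structure Im (α : MulAut det.ker) (ha : Frame a) (b b' : Lat) : Prop where
  nf : NF a b
  nf' : NF a b'
  zero : ∀ j, form b (a j) = 0 → form b' (a j) = 0
  im : ∀ m, form b (a m) = 0 → α (rr ha nf.root m) = rr ha nf'.root m

theorem exists_im (E : EF det neg IsRefl) (ha : Frame a) (hα : Fixes α ha) {b : Lat}
    (hb : NF a b) : ∃ b', Im α ha b b' := by
  have h1 : (Finset.univ.filter (fun i => form b (a i) = 0)).Nonempty := by
    rw [← Finset.card_pos, hb.card' ha]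
    norm_num
  obtain ⟨m, hm⟩ := h1
  rw [mem_zero] at hm
  obtain ⟨b', hb', h0, h⟩ := exists_image E ha hα hb hm
  refine ⟨b', hb, hb', h0, fun n hn => ?_⟩
  rw [← rr_mul ha hb.root m n, map_mul, hα, h, rr_mul]

theorem Im.zero_iff (ha : Frame a) {b b' : Lat} (h : Im α ha b b') (j : Fin 8) :
    form b' (a j) = 0 ↔ form b (a j) = 0 := by
  refine ⟨fun h1 => ?_, h.zero j⟩
  have hsub : Finset.univ.filter (fun i => form b (a i) = 0) ⊆
      Finset.univ.filter (fun i => form b' (a i) = 0) := by
    intro i hi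
    rw [mem_zero] at hi ⊢
    exact h.zero i hi
  have heq := Finset.eq_of_subset_of_card_le hsub (by rw [h.nf.card' ha, h.nf'.card' ha])
  rw [← mem_zero, heq, mem_zero]
  exact h1

theorem refl_inj {r s : Lat} (hr : IsRoot r) (hs : IsRoot s) (h : refl hr = refl hs) :
    s = r ∨ s = -r := by
  rcases RfFive.comm_refl hr hs (by rw [h]) with h1 | h1
  · exfalso
    have h2 := congrArg (fun w => form (ap w s) s) h
    have hs2 : form s s = 2 := hs
    simp only [ap_refl, form_sub_left, form_smul_left, form_comm s r, h1, hs2] at h2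
    omega
  · exact h1

theorem mul_conj {w x y : W} : w * (x * y) * w⁻¹ = (w * x * w⁻¹) * (w * y * w⁻¹) := by group

/-- even sign changes -/
theorem Im.dh (ha : Frame a) (hα : Fixes α ha) {b b' : Lat} (h : Im α ha b b') (ε : Ev) :
    Im α ha (ap (dh ha ε) b) (ap (dh ha ε) b') := by
  have hform : ∀ x : Lat, ∀ j, form (ap (FrameHom.dh ha ε) x) (a j) = ((ε : Sg) j : ℤ) * form x (a j) :=
    fun x j => form_dh ha _ x j
  have hu : ∀ j, (((ε : Sg) j : ℤ) = 1 ∨ ((ε : Sg) j : ℤ) = -1) := by
    intro j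
    rcases Int.units_eq_one_or ((ε : Sg) j) with h | h <;> rw [h] <;> simp
  have hnf : ∀ x : Lat, NF a x → NF a (ap (FrameHom.dh ha ε) x) := by
    intro x hx
    refine ⟨isRoot_ap hx.root _, fun i => ?_⟩
    rw [hform]
    obtain ⟨h1, h2⟩ := hx.ne i
    rcases hu i with h | h <;> rw [h] <;> constructor <;> omega
  have hz : ∀ x : Lat, ∀ j, form (ap (FrameHom.dh ha ε) x) (a j) = 0 ↔ form x (a j) = 0 := by
    intro x j
    rw [hform]
    rcases hu j with h | h <;> rw [h] <;> omega
  have hconj : ∀ (x : Lat) (hx : NF a x) (m : Fin 8),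
      rr ha (hnf x hx).root m = dk ha ε * rr ha hx.root m * (dk ha ε)⁻¹ := by
    intro x hx m
    apply Subtype.ext
    show refl _ * refl (fr ha m) = FrameHom.dh ha ε * (refl hx.root * refl (fr ha m)) * (FrameHom.dh ha ε)⁻¹
    rw [mul_conj, RfFive.conj_refl hx.root, refl_conj_eq (fr ha m)]
    rw [ap_dh]
    rcases hu m with h | h <;> rw [h] <;> simp
  refine ⟨hnf b h.nf, hnf b' h.nf', fun j hj => ?_, fun m hm => ?_⟩
  · rw [hz] at hj ⊢
    exact h.zero j hj
  · rw [hz] at hm
    rw [hconj b h.nf, hconj b' h.nf', map_mul, map_mul, map_inv, hα, h.im m hm]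

theorem Im.uniq {b b' b'' : Lat} (ha : Frame a) (h : Im α ha b b') (h2 : Im α ha b b'') :
    b'' = b' ∨ b'' = -b' := by
  have h1 : (Finset.univ.filter (fun i => form b (a i) = 0)).Nonempty := by
    rw [← Finset.card_pos, h.nf.card' ha]
    norm_num
  obtain ⟨m, hm⟩ := h1
  rw [mem_zero] at hm
  have h3 := h.im m hm
  rw [h2.im m hm] at h3
  have h4 : refl h2.nf'.root * refl (fr ha m) = refl h.nf'.root * refl (fr ha m) :=
    congrArg Subtype.val h3
  rw [mul_left_inj] at h4
  exact refl_inj h.nf'.root h2.nf'.root h4.symm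

/-- orthogonal roots with different supports have orthogonal images -/
theorem Im.orth (ha : Frame a) {b b' c c' : Lat} (h : Im α ha b b') (k : Im α ha c c')
    (hbc : form b c = 0) {m n : Fin 8} (hm : form b (a m) = 0) (hm' : form c (a m) = 0)
    (hn : form b (a n) ≠ 0) (hn' : form c (a n) = 0) : form b' c' = 0 := by
  have hcomm : refl h.nf.root * refl k.nf.root = refl k.nf.root * refl h.nf.root := by
    have h1 : refl k.nf.root * refl h.nf.root * (refl k.nf.root)⁻¹ = refl h.nf.root :=
      refl_conj_eq h.nf.root (Or.inl (ap_refl_orth k.nf.root hbc))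
    exact comm_of_conj h1
  have hm_b : refl (fr ha m) * refl h.nf.root = refl h.nf.root * refl (fr ha m) := by
    have h1 : refl h.nf.root * refl (fr ha m) * (refl h.nf.root)⁻¹ = refl (fr ha m) :=
      refl_conj_eq (fr ha m) (Or.inl (ap_refl_orth h.nf.root (by rw [form_comm]; exact hm)))
    exact comm_of_conj h1
  have hm_c : refl (fr ha m) * refl k.nf.root = refl k.nf.root * refl (fr ha m) := by
    have h1 : refl k.nf.root * refl (fr ha m) * (refl k.nf.root)⁻¹ = refl (fr ha m) :=
      refl_conj_eq (fr ha m) (Or.inl (ap_refl_orth k.nf.root (by rw [form_comm]; exact hm')))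
    exact comm_of_conj h1
  have hm_b' : refl (fr ha m) * refl h.nf'.root = refl h.nf'.root * refl (fr ha m) := by
    have h1 : refl h.nf'.root * refl (fr ha m) * (refl h.nf'.root)⁻¹ = refl (fr ha m) :=
      refl_conj_eq (fr ha m) (Or.inl (ap_refl_orth h.nf'.root
        (by rw [form_comm]; exact h.zero m hm)))
    exact comm_of_conj h1
  have hm_c' : refl (fr ha m) * refl k.nf'.root = refl k.nf'.root * refl (fr ha m) := by
    have h1 : refl k.nf'.root * refl (fr ha m) * (refl k.nf'.root)⁻¹ = refl (fr ha m) :=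
      refl_conj_eq (fr ha m) (Or.inl (ap_refl_orth k.nf'.root
        (by rw [form_comm]; exact k.zero m hm')))
    exact comm_of_conj h1
  have e1 : rr ha h.nf.root m * rr ha k.nf.root m = rr ha k.nf.root m * rr ha h.nf.root m := by
    apply Subtype.ext
    show refl h.nf.root * refl (fr ha m) * (refl k.nf.root * refl (fr ha m)) =
      refl k.nf.root * refl (fr ha m) * (refl h.nf.root * refl (fr ha m))
    rw [mul_assoc, ← mul_assoc (refl (fr ha m)), hm_c, mul_assoc (refl k.nf.root),
      ← mul_assoc (refl h.nf.root), hcomm, mul_assoc (refl k.nf.root) (refl (fr ha m)),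
      ← mul_assoc (refl (fr ha m)) (refl h.nf.root), hm_b]
    simp only [mul_assoc]
  have e2 := congrArg α e1
  rw [map_mul, map_mul, h.im m hm, k.im m hm'] at e2
  have e3 : refl h.nf'.root * refl (fr ha m) * (refl k.nf'.root * refl (fr ha m)) =
      refl k.nf'.root * refl (fr ha m) * (refl h.nf'.root * refl (fr ha m)) :=
    congrArg Subtype.val e2
  have e4 : refl k.nf'.root * refl h.nf'.root = refl h.nf'.root * refl k.nf'.root := by
    rw [mul_assoc, ← mul_assoc (refl (fr ha m)), hm_c', mul_assoc (refl k.nf'.root),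
      refl_sq, mul_one, mul_assoc (refl k.nf'.root) (refl (fr ha m)),
      ← mul_assoc (refl (fr ha m)) (refl h.nf'.root), hm_b', mul_assoc (refl h.nf'.root), refl_sq,
      mul_one] at e3
    exact e3.symm
  rcases RfFive.comm_refl h.nf'.root k.nf'.root e4 with h5 | h5
  · exact h5
  · exfalso
    apply hn
    rw [← h.zero_iff ha]
    have h6 := k.zero n hn'
    rcases h5 with h5 | h5
    · rw [h5] at h6; exact h6
    · rw [h5, form_neg_left, neg_eq_zero] at h6; exact h6

end Cfsg.Agent.OddHalf.D9.EEight.AutD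

end

-- merged: Cfsg.Agent.OddHalf.D9.EEight.AutG
section

/-!
# The signs of the images of the roots outside the frame
-/

set_option autoImplicit false

namespace Cfsg.Agent.OddHalf.D9.EEight.AutD

open Equiv Subgroup Cfsg.Agent.OddHalf.D9.EEight.Counts Cfsg.Agent.OddHalf.D9.EEight.FrameBase
  Cfsg.Agent.OddHalf.D9.EEight.FrameHom Cfsg.Agent.OddHalf.D9.EEight.FrameCode
  Cfsg.Agent.OddHalf.D9.EEight.Move

variable {a : Fin 8 → Lat} {α : MulAut det.ker}

theorem code_wt : ∀ ε : Sg, IsCode ε → wt ε = 0 ∨ wt ε = 4 ∨ wt ε = 8 := by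
  decide +kernel

theorem code_inter (ε : Sg) (hε : IsCode ε) (hε4 : wt ε = 4) (η : Sg) (hη : IsCode η)
    (hη4 : wt η = 4) (i j : Fin 8) (hij : i ≠ j) (h1 : ε i = -1) (h2 : ε j = -1) (h3 : η i = -1)
    (h4 : η j = -1) : ε = η ∨ ((∀ k, k ≠ i → k ≠ j → ε k = 1 ∨ η k = 1) ∧ (∃ m, ε m = 1 ∧ η m = 1) ∧
        ∃ n, ε n = -1 ∧ η n = 1) := by
  have c1 : (sp ε).card = 4 := hε4
  have c2 : (sp η).card = 4 := hη4
  have e1 : (symmDiff (sp ε) (sp η)).card = (sp ε \ sp η).card + (sp η \ sp ε).card := by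
    rw [symmDiff_def, Finset.sup_eq_union, Finset.card_union_of_disjoint disjoint_sdiff_sdiff]
  have e2 := Finset.card_sdiff_add_card_inter (sp ε) (sp η)
  have e3 := Finset.card_sdiff_add_card_inter (sp η) (sp ε)
  rw [Finset.inter_comm (sp η) (sp ε)] at e3
  have e4 : wt (ε * η) = (symmDiff (sp ε) (sp η)).card := by rw [← card_sp, sp_mul]
  have hsub : ({i, j} : Finset (Fin 8)) ⊆ sp ε ∩ sp η := by
    intro x hx
    rw [Finset.mem_insert, Finset.mem_singleton] at hx
    rw [Finset.mem_inter, mem_sp, mem_sp]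
    rcases hx with rfl | rfl
    · exact ⟨h1, h3⟩
    · exact ⟨h2, h4⟩
  have e5 := Finset.card_le_card hsub
  rw [Finset.card_pair hij] at e5
  have e6 := code_wt _ (isCode_mul hε hη)
  rcases e6 with e6 | e6 | e6
  · left
    have h := wt_zero e6
    rw [← mul_left_inj η, h, EEight.sq_one]
  · right
    have e7 : (sp ε ∩ sp η).card = 2 := by omega
    have e8 : ({i, j} : Finset (Fin 8)) = sp ε ∩ sp η :=
      Finset.eq_of_subset_of_card_le hsub (by rw [e7, Finset.card_pair hij])
    refine ⟨fun k hki hkj => ?_, ?_, ?_⟩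
    · rcases Int.units_eq_one_or (ε k) with h8 | h8
      · exact Or.inl h8
      · right
        apply not_neg_one
        intro h9
        have : k ∈ ({i, j} : Finset (Fin 8)) := by
          rw [e8, Finset.mem_inter, mem_sp, mem_sp]
          exact ⟨h8, h9⟩
        rw [Finset.mem_insert, Finset.mem_singleton] at this
        rcases this with h | h
        · exact hki h
        · exact hkj h
    · have e9 := Finset.card_union_add_card_inter (sp ε) (sp η)
      have e10 : (sp ε ∪ sp η).card < (Finset.univ : Finset (Fin 8)).card := by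
        rw [Finset.card_univ, Fintype.card_fin]
        omega
      obtain ⟨m, -, hm⟩ := Finset.exists_mem_notMem_of_card_lt_card e10
      rw [Finset.mem_union, not_or, mem_sp, mem_sp] at hm
      exact ⟨m, not_neg_one hm.1, not_neg_one hm.2⟩
    · have e11 : 0 < (sp ε \ sp η).card := by omega
      obtain ⟨n, hn⟩ := Finset.card_pos.1 e11
      rw [Finset.mem_sdiff, mem_sp, mem_sp] at hn
      exact ⟨n, hn.1, not_neg_one hn.2⟩
  · omega

theorem exists_three : ∀ i j k : Fin 8, i ≠ j → i ≠ k → j ≠ k →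
    ∃ l : Fin 8, IsCode (sg i * sg j * sg k * sg l) ∧ wt (sg i * sg j * sg k * sg l) = 4 ∧
      (sg i * sg j * sg k * sg l) i = -1 ∧ (sg i * sg j * sg k * sg l) j = -1 ∧
      (sg i * sg j * sg k * sg l) k = -1 := by
  decide +kernel

theorem third (i j : Fin 8) : ∃ k : Fin 8, i ≠ k ∧ j ≠ k := by
  revert i j
  decide

/-- a root outside the frame with three given coordinates -/
theorem exists_nf (ha : Frame a) (hl : Lab a) {i j k : Fin 8} (hij : i ≠ j) (hik : i ≠ k)
    (hjk : j ≠ k) : ∃ b, NF a b ∧ form b (a i) ≠ 0 ∧ form b (a j) ≠ 0 ∧ form b (a k) ≠ 0 := by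
  obtain ⟨l, hc, hw, h1, h2, h3⟩ := exists_three i j k hij hik hjk
  obtain ⟨y, hy⟩ := InvRoot.exists_code ha hl hc
  have hne : ∀ m, (sg i * sg j * sg k * sg l) m = -1 → form y (a m) ≠ 0 := by
    intro m hm
    rw [hy, if_pos hm]
    norm_num
  refine ⟨y, ⟨?_, fun m => ?_⟩, hne i h1, hne j h2, hne k h3⟩
  · have h4 := ha.sum_form y y
    have h5 : ∑ m, form y (a m) * form y (a m) = 4 := by
      have : ∀ m, form y (a m) * form y (a m) =
          if (sg i * sg j * sg k * sg l) m = -1 then 1 else 0 := by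
        intro m
        rw [hy]
        split_ifs <;> norm_num
      simp only [this]
      rw [← Finset.sum_filter, Finset.sum_const]
      have h6 : (Finset.univ.filter (fun m => (sg i * sg j * sg k * sg l) m = -1)).card = 4 := hw
      rw [h6]
      rfl
    show form y y = 2
    omega
  · rw [hy]
    split_ifs <;> norm_num

theorem sgn_neg_iff (ha : Frame a) {b : Lat} (hb : NF a b) (i : Fin 8) :
    sgn a b i = -1 ↔ form b (a i) ≠ 0 := by
  rw [sgn_apply]
  rcases hb.val ha i with h | h | h <;> rw [h] <;> simp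

theorem sgn_wt (ha : Frame a) {b : Lat} (hb : NF a b) : wt (sgn a b) = 4 := by
  rw [← hb.card ha]
  unfold wt
  congr 1
  ext i
  rw [Finset.mem_filter, Finset.mem_filter, sgn_neg_iff ha hb]

theorem sgn_one_iff (ha : Frame a) {b : Lat} (hb : NF a b) (i : Fin 8) :
    sgn a b i = 1 ↔ form b (a i) = 0 := by
  have h := sgn_neg_iff ha hb i
  constructor
  · intro h1
    by_contra h2
    rw [h.2 h2] at h1
    exact absurd h1 (by decide)
  · intro h1
    apply not_neg_one
    intro h2
    exact (h.1 h2) h1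

/-- the dichotomy for the supports -/
theorem supports (ha : Frame a) (hl : Lab a) {b c : Lat} (hb : NF a b) (hc : NF a c) {i j : Fin 8}
    (hij : i ≠ j) (h1 : form b (a i) ≠ 0) (h2 : form b (a j) ≠ 0) (h3 : form c (a i) ≠ 0)
    (h4 : form c (a j) ≠ 0) : (∀ k, form b (a k) = 0 ↔ form c (a k) = 0) ∨
      ((∀ k, k ≠ i → k ≠ j → form b (a k) = 0 ∨ form c (a k) = 0) ∧
        (∃ m, form b (a m) = 0 ∧ form c (a m) = 0) ∧ ∃ n, form b (a n) ≠ 0 ∧ form c (a n) = 0) := by
  rcases code_inter (sgn a b) ((hl _).2 ⟨b, rfl⟩) (sgn_wt ha hb) (sgn a c) ((hl _).2 ⟨c, rfl⟩)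
    (sgn_wt ha hc) i j hij ((sgn_neg_iff ha hb i).2 h1) ((sgn_neg_iff ha hb j).2 h2)
    ((sgn_neg_iff ha hc i).2 h3) ((sgn_neg_iff ha hc j).2 h4) with h | ⟨h5, ⟨m, hm, hm'⟩, n, hn, hn'⟩
  · left
    intro k
    rw [← sgn_one_iff ha hb, ← sgn_one_iff ha hc, h]
  · right
    refine ⟨fun k hki hkj => ?_, ⟨m, (sgn_one_iff ha hb m).1 hm, (sgn_one_iff ha hc m).1 hm'⟩,
      n, (sgn_neg_iff ha hb n).1 hn, (sgn_one_iff ha hc n).1 hn'⟩
    rcases h5 k hki hkj with h6 | h6
    · exact Or.inl ((sgn_one_iff ha hb k).1 h6)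
    · exact Or.inr ((sgn_one_iff ha hc k).1 h6)

/-- the product of coordinates -/
def tt (a : Fin 8 → Lat) (b b' : Lat) (i : Fin 8) : ℤ := form b (a i) * form b' (a i)

theorem Im.tt_val (ha : Frame a) {b b' : Lat} (h : Im α ha b b') {i : Fin 8}
    (hi : form b (a i) ≠ 0) : tt a b b' i = 1 ∨ tt a b b' i = -1 := by
  have hi' : form b' (a i) ≠ 0 := fun h1 => hi ((h.zero_iff ha i).1 h1)
  unfold tt
  rcases h.nf.val ha i with h1 | h1 | h1 <;> rcases h.nf'.val ha i with h2 | h2 | h2 <;>
    rw [h1, h2] <;> first | (exact absurd h1 hi) | (exact absurd h2 hi') | norm_num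

theorem tt_uniq {b b' b'' : Lat} (h : b'' = b' ∨ b'' = -b') (i j : Fin 8) :
    tt a b b'' i * tt a b b'' j = tt a b b' i * tt a b b' j := by
  unfold tt
  rcases h with h | h
  · rw [h]
  · rw [h, form_neg_left, form_neg_left]; ring

theorem tt_dh (ha : Frame a) (ε : Sg) (b b' : Lat) (i : Fin 8) :
    tt a (ap (dh ha ε) b) (ap (dh ha ε) b') i = tt a b b' i := by
  unfold tt
  rw [form_dh, form_dh]
  rcases Int.units_eq_one_or (ε i) with h | h <;> rw [h] <;> simp

/-- two common coordinates -/
theorem sum_two (ha : Frame a) {b c : Lat} {i j : Fin 8} (hij : i ≠ j)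
    (h : ∀ k, k ≠ i → k ≠ j → form b (a k) = 0 ∨ form c (a k) = 0) :
    form b (a i) * form c (a i) + form b (a j) * form c (a j) = 2 * form b c := by
  rw [← ha.sum_form, ← Finset.sum_pair hij (f := fun k => form b (a k) * form c (a k))]
  apply Finset.sum_subset (Finset.subset_univ _)
  intro k _ hk
  rw [Finset.mem_insert, Finset.mem_singleton, not_or] at hk
  rcases h k hk.1 hk.2 with h1 | h1 <;> rw [h1] <;> simp

/-- the orthogonal case -/
theorem tt_orth (ha : Frame a) {b b' c c' : Lat} (h : Im α ha b b') (k : Im α ha c c')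
    {i j : Fin 8} (hij : i ≠ j) (h1 : form b (a i) ≠ 0) (h2 : form b (a j) ≠ 0)
    (h3 : form c (a i) ≠ 0) (h4 : form c (a j) ≠ 0)
    (h5 : ∀ k, k ≠ i → k ≠ j → form b (a k) = 0 ∨ form c (a k) = 0)
    {m n : Fin 8} (hm : form b (a m) = 0) (hm' : form c (a m) = 0)
    (hn : form b (a n) ≠ 0) (hn' : form c (a n) = 0) (hbc : form b c = 0) :
    tt a b b' i * tt a b b' j = tt a c c' i * tt a c c' j := by
  have ho := h.orth ha k hbc hm hm' hn hn'
  have s1 := sum_two ha hij h5
  have s2 := sum_two (b := b') (c := c') ha hij (fun l hl hl' => by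
    rcases h5 l hl hl' with h6 | h6
    · exact Or.inl (h.zero l h6)
    · exact Or.inr (k.zero l h6))
  rw [hbc, mul_zero] at s1
  rw [ho, mul_zero] at s2
  have v1 : form b' (a i) ≠ 0 := fun h6 => h1 ((h.zero_iff ha i).1 h6)
  have v2 : form b' (a j) ≠ 0 := fun h6 => h2 ((h.zero_iff ha j).1 h6)
  have v3 : form c' (a i) ≠ 0 := fun h6 => h3 ((k.zero_iff ha i).1 h6)
  have v4 : form c' (a j) ≠ 0 := fun h6 => h4 ((k.zero_iff ha j).1 h6)
  have w1 := (h.nf.val ha i).resolve_left h1
  have w2 := (h.nf.val ha j).resolve_left h2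
  have w3 := (k.nf.val ha i).resolve_left h3
  have w4 := (k.nf.val ha j).resolve_left h4
  have w5 := (h.nf'.val ha i).resolve_left v1
  have w6 := (h.nf'.val ha j).resolve_left v2
  have w7 := (k.nf'.val ha i).resolve_left v3
  have w8 := (k.nf'.val ha j).resolve_left v4
  unfold tt
  clear v1 v2 v3 v4 h1 h2 h3 h4 h5 hn hm hm' hn' hbc ho
  generalize form b (a i) = x1 at *
  generalize form b (a j) = x2 at *
  generalize form c (a i) = x3 at *
  generalize form c (a j) = x4 at *
  generalize form b' (a i) = x5 at *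
  generalize form b' (a j) = x6 at *
  generalize form c' (a i) = x7 at *
  generalize form c' (a j) = x8 at *
  have e1 : x1 * x3 = -(x2 * x4) := by linarith
  have e2 : x5 * x7 = -(x6 * x8) := by linarith
  have q2 : x2 * x2 = 1 := by rcases w2 with rfl | rfl <;> norm_num
  have q3 : x3 * x3 = 1 := by rcases w3 with rfl | rfl <;> norm_num
  have q6 : x6 * x6 = 1 := by rcases w6 with rfl | rfl <;> norm_num
  have q7 : x7 * x7 = 1 := by rcases w7 with rfl | rfl <;> norm_num
  have r1 : x1 = -(x2 * x4) * x3 := by rw [← e1, mul_assoc, q3, mul_one]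
  have r5 : x5 = -(x6 * x8) * x7 := by rw [← e2, mul_assoc, q7, mul_one]
  rw [r1, r5]
  linear_combination (x4 * x3 * x8 * x7) * (x6 * x6 * q2 + q6)

/-- **consistency** -/
theorem tt_eq (ha : Frame a) (hl : Lab a) (hα : Fixes α ha) {b b' c c' : Lat} (h : Im α ha b b')
    (k : Im α ha c c') {i j : Fin 8} (hij : i ≠ j) (h1 : form b (a i) ≠ 0) (h2 : form b (a j) ≠ 0)
    (h3 : form c (a i) ≠ 0) (h4 : form c (a j) ≠ 0) :
    tt a b b' i * tt a b b' j = tt a c c' i * tt a c c' j := by
  rcases supports ha hl h.nf k.nf hij h1 h2 h3 h4 with h5 | ⟨h5, ⟨m, hm, hm'⟩, n, hn, hn'⟩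
  · -- the same support
    obtain ⟨m, hm⟩ : ∃ m, form b (a m) = 0 := by
      have h6 : (Finset.univ.filter (fun i => form b (a i) = 0)).Nonempty := by
        rw [← Finset.card_pos, h.nf.card' ha]
        norm_num
      obtain ⟨m, hm⟩ := h6
      exact ⟨m, mem_zero.1 hm⟩
    let u : Sg := fun l => if form b (a l) = form c (a l) then 1 else -1
    have hu : ∀ l, form c (a l) = (u l : ℤ) * form b (a l) := by
      intro l
      by_cases h6 : form b (a l) = form c (a l)
      · have : u l = 1 := if_pos h6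
        rw [this, Units.val_one, one_mul, h6]
      · have : u l = -1 := if_neg h6
        rw [this, Units.val_neg, Units.val_one]
        rcases h.nf.val ha l with h7 | h7 | h7
        · rw [h7, (h5 l).1 h7] at h6
          exact absurd rfl h6
        · have h8 := (k.nf.val ha l).resolve_left (fun h8 => by
            rw [(h5 l).2 h8] at h7; omega)
          rw [h7] at h6 ⊢
          omega
        · have h8 := (k.nf.val ha l).resolve_left (fun h8 => by
            rw [(h5 l).2 h8] at h7; omega)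
          rw [h7] at h6 ⊢
          omega
    obtain ⟨ε, hε, hεu⟩ : ∃ ε : Sg, ε ∈ Ev ∧ ∀ l, l ≠ m → ε l = u l := by
      rcases Int.units_eq_one_or (prd u) with h6 | h6
      · exact ⟨u, h6, fun _ _ => rfl⟩
      · refine ⟨u * sg m, ?_, fun l hl => ?_⟩
        · rw [mem_Ev, map_mul, h6, prd_sg]
          decide
        · rw [Pi.mul_apply]
          have : sg m l = 1 := if_neg hl
          rw [this, mul_one]
    have hc : ap (dh ha ε) b = c := by
      apply ha.ext
      intro l
      rw [form_dh, hu l]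
      by_cases hlm : l = m
      · rw [hlm, hm, mul_zero, mul_zero]
      · rw [hεu l hlm]
    have h6 := h.dh ha hα ⟨ε, hε⟩
    have h7 : Im α ha c (ap (dh ha ε) b') := by
      rw [← hc]
      exact h6
    have h8 := h7.uniq ha k
    rw [tt_uniq h8, ← hc, tt_dh, tt_dh]
  · -- different supports
    by_cases hbc : form b c = 0
    · exact tt_orth ha h k hij h1 h2 h3 h4 h5 hm hm' hn hn' hbc
    · have hin : i ≠ n := by
        rintro rfl
        exact h3 hn'
      have hpr := pr_val hin
      have k' := k.dh ha hα ⟨pr i n, pr_mem i n⟩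
      have hcf : ∀ l, form (ap (dh ha (pr i n)) c) (a l) = (pr i n l : ℤ) * form c (a l) :=
        fun l => form_dh ha _ _ _
      have z : ∀ l, form (ap (dh ha (pr i n)) c) (a l) = 0 ↔ form c (a l) = 0 := by
        intro l
        rw [hcf]
        rcases Int.units_eq_one_or (pr i n l) with h6 | h6 <;> rw [h6] <;> simp
      have hjn : j ≠ n := by
        rintro rfl
        exact h4 hn'
      have s1 := sum_two ha hij h5
      have h5' : ∀ l, l ≠ i → l ≠ j → form b (a l) = 0 ∨ form (ap (dh ha (pr i n)) c) (a l) = 0 := by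
        intro l hl hl'
        rw [z]
        exact h5 l hl hl'
      have s2 := sum_two ha hij h5'
      rw [hcf, hcf, hpr.1, hpr.2.2 j hij.symm hjn] at s2
      simp only [Units.val_neg, Units.val_one] at s2
      have w1 := (h.nf.val ha i).resolve_left h1
      have w2 := (h.nf.val ha j).resolve_left h2
      have w3 := (k.nf.val ha i).resolve_left h3
      have w4 := (k.nf.val ha j).resolve_left h4
      have hbc' : form b (ap (dh ha (pr i n)) c) = 0 := by
        rcases w1 with w1 | w1 <;> rcases w2 with w2 | w2 <;> rcases w3 with w3 | w3 <;>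
          rcases w4 with w4 | w4 <;> rw [w1, w2, w3, w4] at s1 s2 <;> omega
      have h9 := tt_orth ha h k' hij h1 h2 (fun h6 => h3 ((z i).1 h6)) (fun h6 => h4 ((z j).1 h6))
        h5' hm ((z m).2 hm') hn ((z n).2 hn') hbc'
      rw [h9, tt_dh, tt_dh]

end Cfsg.Agent.OddHalf.D9.EEight.AutD

end

-- merged: Cfsg.Agent.OddHalf.D9.EEight.Aut
section

/-!
# The automorphisms of `K₀ = det.ker` are induced by `W`
-/

set_option autoImplicit false

namespace Cfsg.Agent.OddHalf.D9.EEight.AutD

open Equiv Subgroup Cfsg.Agent.OddHalf.D9.EEight.Counts Cfsg.Agent.OddHalf.D9.EEight.FrameBase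
  Cfsg.Agent.OddHalf.D9.EEight.FrameHom Cfsg.Agent.OddHalf.D9.EEight.FrameCode
  Cfsg.Agent.OddHalf.D9.EEight.Move
open scoped commutatorElement

variable {a : Fin 8 → Lat} {α : MulAut det.ker}

/-- a unit from `±1` -/
def un (x : ℤ) : ℤˣ := if x = -1 then -1 else 1

theorem un_val {x : ℤ} (h : x = 1 ∨ x = -1) : ((un x : ℤˣ) : ℤ) = x := by
  rcases h with rfl | rfl <;> rfl

/-- **the signs** -/
theorem exists_signs (E : EF det neg IsRefl) (ha : Frame a) (hl : Lab a) (hα : Fixes α ha) :
    ∃ s : Sg, ∀ b b', Im α ha b b' → b' = ap (dh ha s) b ∨ b' = -ap (dh ha s) b := by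
  -- roots through `0, i`
  have hex : ∀ i : Fin 8, ∃ b b', i ≠ 0 → Im α ha b b' ∧ form b (a 0) ≠ 0 ∧ form b (a i) ≠ 0 := by
    intro i
    by_cases hi : i = 0
    · exact ⟨0, 0, fun h => absurd hi h⟩
    · obtain ⟨k, hk1, hk2⟩ := third 0 i
      obtain ⟨b, hb, h0, h1, -⟩ := exists_nf ha hl (fun h => hi h.symm) hk1 hk2
      obtain ⟨b', hb'⟩ := exists_im E ha hα hb
      exact ⟨b, b', fun _ => ⟨hb', h0, h1⟩⟩
  choose β β' hβ using hex
  let s : Sg := fun i => if i = 0 then 1 else un (tt a (β i) (β' i) 0 * tt a (β i) (β' i) i)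
  have hs0 : s 0 = 1 := if_pos rfl
  have pm_mul : ∀ x y : ℤ, (x = 1 ∨ x = -1) → (y = 1 ∨ y = -1) → (x * y = 1 ∨ x * y = -1) := by
    rintro x y (rfl | rfl) (rfl | rfl) <;> norm_num
  have hs : ∀ i, i ≠ 0 → (s i : ℤ) = tt a (β i) (β' i) 0 * tt a (β i) (β' i) i := by
    intro i hi
    have : s i = un (tt a (β i) (β' i) 0 * tt a (β i) (β' i) i) := if_neg hi
    rw [this]
    obtain ⟨h1, h2, h3⟩ := hβ i hi
    exact un_val (pm_mul _ _ (h1.tt_val ha h2) (h1.tt_val ha h3))
  have sq1 : ∀ x : ℤ, (x = 1 ∨ x = -1) → x * x = 1 := by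
    rintro x (rfl | rfl) <;> norm_num
  -- roots with `0` in the support
  have h0 : ∀ b b', Im α ha b b' → form b (a 0) ≠ 0 → ∀ i, form b (a i) ≠ 0 →
      tt a b b' 0 * tt a b b' i = s i := by
    intro b b' h hb0 i hi
    by_cases hi0 : i = 0
    · rw [hi0, hs0, Units.val_one]
      exact sq1 _ (h.tt_val ha hb0)
    · obtain ⟨h1, h2, h3⟩ := hβ i hi0
      rw [hs i hi0]
      exact tt_eq ha hl hα h h1 (fun h => hi0 h.symm) hb0 hi h2 h3
  -- all roots
  have hall : ∀ b b', Im α ha b b' → ∀ i j, form b (a i) ≠ 0 → form b (a j) ≠ 0 →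
      tt a b b' i * tt a b b' j = s i * s j := by
    intro b b' h i j hi hj
    by_cases hb0 : form b (a 0) = 0
    · by_cases hij : i = j
      · subst hij
        rw [sq1 _ (h.tt_val ha hi)]
        rcases Int.units_eq_one_or (s i) with h1 | h1 <;> rw [h1] <;> simp
      · have hi0 : (0 : Fin 8) ≠ i := by rintro rfl; exact hi hb0
        have hj0 : (0 : Fin 8) ≠ j := by rintro rfl; exact hj hb0
        obtain ⟨c, hc, c0, ci, cj⟩ := exists_nf ha hl hi0 hj0 hij
        obtain ⟨c', hc'⟩ := exists_im E ha hα hc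
        rw [tt_eq ha hl hα h hc' hij hi hj ci cj, ← h0 c c' hc' c0 i ci, ← h0 c c' hc' c0 j cj]
        have := sq1 _ (hc'.tt_val ha c0)
        linear_combination (-(tt a c c' i * tt a c c' j)) * this
    · rw [← h0 b b' h hb0 i hi, ← h0 b b' h hb0 j hj]
      have := sq1 _ (h.tt_val ha hb0)
      linear_combination (-(tt a b b' i * tt a b b' j)) * this
  refine ⟨s, fun b b' h => ?_⟩
  obtain ⟨k, hk⟩ : ∃ k, form b (a k) ≠ 0 := by
    have h6 : (Finset.univ.filter (fun i => form b (a i) ≠ 0)).Nonempty := by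
      rw [← Finset.card_pos, h.nf.card ha]
      norm_num
    obtain ⟨m, hm⟩ := h6
    exact ⟨m, (Finset.mem_filter.1 hm).2⟩
  have key : ∀ l, form b' (a l) = (tt a b b' k * (s k : ℤ)) * ((s l : ℤ) * form b (a l)) := by
    intro l
    by_cases hl0 : form b (a l) = 0
    · rw [hl0, h.zero l hl0]; ring
    · have h1 := hall b b' h k l hk hl0
      have h2 := sq1 _ (h.tt_val ha hk)
      have h3 : form b (a l) * form b (a l) = 1 := sq1 _ ((h.nf.val ha l).resolve_left hl0)
      have h4 : form b' (a l) = tt a b b' l * form b (a l) := by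
        unfold tt
        linear_combination (-(form b' (a l))) * h3
      rw [h4]
      linear_combination (-(tt a b b' l * form b (a l))) * h2 +
        (tt a b b' k * form b (a l)) * h1
  have hu : (tt a b b' k * (s k : ℤ)) = 1 ∨ (tt a b b' k * (s k : ℤ)) = -1 := by
    apply pm_mul _ _ (h.tt_val ha hk)
    rcases Int.units_eq_one_or (s k) with h1 | h1 <;> rw [h1] <;> simp
  rcases hu with hu | hu
  · left
    apply ha.ext
    intro l
    rw [form_dh, key, hu, one_mul]
  · right
    apply ha.ext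
    intro l
    rw [form_neg_left, form_dh, key, hu]
    ring

/-- the automorphism of `det.ker` induced by `w` -/
noncomputable def cj (w : W) : MulAut det.ker := MulAut.conjNormal w

theorem cj_apply (w : W) (k : det.ker) : (cj w k : W) = w * k * w⁻¹ :=
  MulAut.conjNormal_apply w k

/-- the final normal form: everything is fixed -/
theorem fixes_all (E : EF det neg IsRefl) (hp : commutator det.ker = ⊤) (ha : Frame a) (hl : Lab a)
    (hα : Fixes α ha) (h : ∀ b (hb : NF a b) m, form b (a m) = 0 → α (rr ha hb.root m) = rr ha hb.root m) :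
    α = 1 := by
  -- every root
  have h1 : ∀ r (hr : IsRoot r), ∃ m, α (rr ha hr m) = rr ha hr m := by
    intro r hr
    rcases root_cases ha hr with hb | ⟨i, hi⟩
    · obtain ⟨m, hm⟩ : ∃ m, form r (a m) = 0 := by
        have h6 : (Finset.univ.filter (fun i => form r (a i) = 0)).Nonempty := by
          rw [← Finset.card_pos, hb.card' ha]
          norm_num
        obtain ⟨m, hm⟩ := h6
        exact ⟨m, mem_zero.1 hm⟩
      exact ⟨m, h r hb m hm⟩
    · obtain ⟨m, hm, -⟩ := third i i
      refine ⟨m, ?_⟩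
      have e : rr ha hr m = dk ha ⟨pr i m, pr_mem i m⟩ := by
        apply Subtype.ext
        show refl hr * refl (fr ha m) = dh ha (pr i m)
        rw [dh_pr]
        have h2 : refl hr = refl (fr ha i) := RfFive.refl_congr (fr ha i) hr hi
        rw [h2]
      rw [e, hα]
  -- all products of two reflections
  have h2 : ∀ r (hr : IsRoot r) s (hs : IsRoot s),
      α ⟨refl hr * refl hs, det_two hr hs⟩ = ⟨refl hr * refl hs, det_two hr hs⟩ := by
    intro r hr s hs
    obtain ⟨m, hm⟩ := h1 r hr
    obtain ⟨n, hn⟩ := h1 s hs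
    have e : (⟨refl hr * refl hs, det_two hr hs⟩ : det.ker) =
        rr ha hr m * dk ha ⟨pr m n, pr_mem m n⟩ * (rr ha hs n)⁻¹ := by
      rw [rr_mul]
      apply Subtype.ext
      show refl hr * refl hs = refl hr * refl (fr ha n) * (refl hs * refl (fr ha n))⁻¹
      have h3 : (refl hs)⁻¹ = refl hs := inv_eq_of_mul_eq_one_right (refl_sq hs)
      rw [mul_inv_rev, h3]
      group
    rw [e, map_mul, map_mul, map_inv, hm, hn, hα]
  -- the difference is central
  have h3 : ∀ k : det.ker, (k⁻¹ * α k : det.ker) = 1 ∨ ((k⁻¹ * α k : det.ker) : W) = neg := by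
    intro k
    have hc : ∀ r (hr : IsRoot r) s (hs : IsRoot s),
        ((k⁻¹ * α k : det.ker) : W) * (refl hr * refl hs) =
          (refl hr * refl hs) * ((k⁻¹ * α k : det.ker) : W) := by
      intro r hr s hs
      have e1 : k * ⟨refl hr * refl hs, det_two hr hs⟩ * k⁻¹ =
          ⟨refl (isRoot_ap hr (k : W)) * refl (isRoot_ap hs (k : W)), det_two _ _⟩ := by
        apply Subtype.ext
        show (k : W) * (refl hr * refl hs) * (k : W)⁻¹ = _
        rw [mul_conj, RfFive.conj_refl hr, RfFive.conj_refl hs]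
      have e2 := congrArg α e1
      rw [map_mul, map_mul, map_inv, h2, h2, ← e1] at e2
      have e3 : (k⁻¹ * α k) * ⟨refl hr * refl hs, det_two hr hs⟩ =
          ⟨refl hr * refl hs, det_two hr hs⟩ * (k⁻¹ * α k) := by
        have e4 : α k * ⟨refl hr * refl hs, det_two hr hs⟩ =
            k * ⟨refl hr * refl hs, det_two hr hs⟩ * k⁻¹ * α k := by
          rw [← e2]
          group
        rw [mul_assoc, e4]
        group
      exact congrArg Subtype.val e3
    -- it lies in the frame group
    obtain ⟨ε, hε⟩ := (isFr ha hl).cen ((k⁻¹ * α k : det.ker) : W) (by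
      have hgen : ∀ j : Fin 8, j ≠ 0 → ((k⁻¹ * α k : det.ker) : W) * dh ha (pr 0 j) =
          dh ha (pr 0 j) * ((k⁻¹ * α k : det.ker) : W) := by
        intro j _
        rw [dh_pr]
        exact hc _ _ _ _
      let T : Subgroup Sg :=
        { carrier := {x | ((k⁻¹ * α k : det.ker) : W) * dh ha x = dh ha x * ((k⁻¹ * α k : det.ker) : W)}
          one_mem' := by
            show _ * dh ha 1 = dh ha 1 * _
            rw [map_one, one_mul, mul_one]
          mul_mem' := by
            intro x y hx hy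
            show _ * dh ha (x * y) = dh ha (x * y) * _
            have hx' : ((k⁻¹ * α k : det.ker) : W) * dh ha x = dh ha x * ((k⁻¹ * α k : det.ker) : W) := hx
            have hy' : ((k⁻¹ * α k : det.ker) : W) * dh ha y = dh ha y * ((k⁻¹ * α k : det.ker) : W) := hy
            rw [map_mul, ← mul_assoc, hx', mul_assoc, hy', mul_assoc]
          inv_mem' := by
            intro x hx
            show _ * dh ha x⁻¹ = dh ha x⁻¹ * _
            have : x⁻¹ = x := inv_eq_of_mul_eq_one_right (EEight.sq_one x)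
            rw [this]
            exact hx }
      intro x hx
      exact ev_gen (T := T) hgen hx)
    -- constant signs
    have hconst : ∀ i j : Fin 8, ε i = ε j := by
      intro i j
      by_cases hij : i = j
      · rw [hij]
      obtain ⟨l, hl1, hl2⟩ := third i j
      obtain ⟨b, hb, hi, hj, -⟩ := exists_nf ha hl hij hl1 hl2
      obtain ⟨m, hm⟩ : ∃ m, form b (a m) = 0 := by
        have h6 : (Finset.univ.filter (fun i => form b (a i) = 0)).Nonempty := by
          rw [← Finset.card_pos, hb.card' ha]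
          norm_num
        obtain ⟨m, hm⟩ := h6
        exact ⟨m, mem_zero.1 hm⟩
      have e1 := hc b hb.root (a m) (fr ha m)
      rw [← hε] at e1
      have e2 : dh ha ε * (refl hb.root * refl (fr ha m)) * (dh ha ε)⁻¹ =
          refl hb.root * refl (fr ha m) := by
        rw [e1, mul_inv_cancel_right]
      rw [mul_conj, RfFive.conj_refl hb.root, refl_conj_eq (fr ha m), mul_left_inj] at e2
      · have e3 := refl_inj _ hb.root e2
        have f1 : form (ap (dh ha ε) b) (a i) = ε i * form b (a i) := form_dh ha _ _ _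
        have f2 : form (ap (dh ha ε) b) (a j) = ε j * form b (a j) := form_dh ha _ _ _
        rcases e3 with e3 | e3
        · rw [← e3] at f1 f2
          have g1 : (ε i : ℤ) = 1 := by
            rcases Int.units_eq_one_or (ε i) with h | h
            · rw [h]; rfl
            · rw [h] at f1; simp only [Units.val_neg, Units.val_one] at f1; omega
          have g2 : (ε j : ℤ) = 1 := by
            rcases Int.units_eq_one_or (ε j) with h | h
            · rw [h]; rfl
            · rw [h] at f2; simp only [Units.val_neg, Units.val_one] at f2; omega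
          exact Units.ext (g1.trans g2.symm)
        · have e4 : ap (dh ha ε) b = -b := by
            have e5 := congrArg Neg.neg e3
            rw [neg_neg] at e5
            exact e5.symm
          rw [e4, form_neg_left] at f1 f2
          have g1 : (ε i : ℤ) = -1 := by
            rcases Int.units_eq_one_or (ε i) with h | h
            · rw [h] at f1; simp only [Units.val_one] at f1; omega
            · rw [h]; rfl
          have g2 : (ε j : ℤ) = -1 := by
            rcases Int.units_eq_one_or (ε j) with h | h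
            · rw [h] at f2; simp only [Units.val_one] at f2; omega
            · rw [h]; rfl
          exact Units.ext (g1.trans g2.symm)
      · rw [ap_dh]
        rcases Int.units_eq_one_or (ε m) with h | h <;> rw [h] <;> simp
    rcases Int.units_eq_one_or (ε 0) with h0 | h0
    · left
      have : ε = 1 := by
        funext i
        rw [hconst i 0, h0]
        rfl
      rw [this, map_one] at hε
      exact Subtype.ext hε.symm
    · right
      have : ε = -1 := by
        funext i
        rw [hconst i 0, h0]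
        rfl
      rw [← hε, this, dh_neg]
  -- the difference is central, so commutators are fixed
  have h4 : ∀ k : det.ker, ∀ x : det.ker, (k⁻¹ * α k) * x = x * (k⁻¹ * α k) := by
    intro k x
    rcases h3 k with h5 | h5
    · rw [h5, one_mul, mul_one]
    · apply Subtype.ext
      show ((k⁻¹ * α k : det.ker) : W) * (x : W) = (x : W) * ((k⁻¹ * α k : det.ker) : W)
      rw [h5, E.c_comm]
  let T : Subgroup det.ker :=
    { carrier := {k | α k = k}
      one_mem' := map_one α
      mul_mem' := by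
        intro x y hx hy
        show α (x * y) = x * y
        rw [map_mul]
        exact congrArg₂ _ hx hy
      inv_mem' := by
        intro x hx
        show α x⁻¹ = x⁻¹
        rw [map_inv]
        exact congrArg _ hx }
  have h5 : commutator det.ker ≤ T := by
    rw [commutator_eq_closure, closure_le]
    rintro _ ⟨x, y, rfl⟩
    show α ⁅x, y⁆ = ⁅x, y⁆
    rw [map_commutatorElement]
    have ex : α x = x * (x⁻¹ * α x) := by group
    have ey : α y = y * (y⁻¹ * α y) := by group
    have cx := h4 x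
    have cy := h4 y
    generalize x⁻¹ * α x = u at ex cx
    generalize y⁻¹ * α y = v at ey cy
    rw [ex, ey, commutatorElement_def, commutatorElement_def]
    have e1 : x * u * (y * v) = (x * y) * (u * v) := by
      rw [mul_assoc, ← mul_assoc u, cx]
      simp only [mul_assoc]
    have e2 : x * u * (y * v) * (x * u)⁻¹ * (y * v)⁻¹ = (x * u * (y * v)) * ((y * v) * (x * u))⁻¹ := by
      group
    have e3 : (y * v) * (x * u) = (y * x) * (u * v) := by
      rw [mul_assoc, ← mul_assoc v, cy, cx v]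
      simp only [mul_assoc]
    rw [e2, e1, e3]
    group
  rw [hp] at h5
  apply MulEquiv.ext
  intro k
  exact h5 (show k ∈ (⊤ : Subgroup det.ker) from trivial)

/-- **The automorphisms of `K₀` are induced by `W`.** -/
theorem exists_w (E : EF det neg IsRefl) (hp : commutator det.ker = ⊤) (α : MulAut det.ker) :
    ∃ w : W, ∀ k : det.ker, (α k : W) = w * k * w⁻¹ := by
  obtain ⟨a, ha, hl⟩ := InvRoot.exists_frame
  obtain ⟨w, hw⟩ := exists_conj E α ha hl
  have h1 : Fixes ((cj w)⁻¹ * α) ha := by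
    intro ε
    rw [MulAut.mul_apply, MulAut.inv_apply, MulEquiv.symm_apply_eq]
    apply Subtype.ext
    rw [cj_apply]
    exact hw ε ε.2
  obtain ⟨s, hs⟩ := exists_signs E ha hl h1
  have h2 : (cj (dh ha s))⁻¹ * ((cj w)⁻¹ * α) = 1 := by
    apply fixes_all E hp ha hl
    · intro ε
      rw [MulAut.mul_apply, h1, MulAut.inv_apply, MulEquiv.symm_apply_eq]
      apply Subtype.ext
      rw [cj_apply]
      show dh ha ε = dh ha s * dh ha ε * (dh ha s)⁻¹
      rw [← map_mul, mul_comm s, map_mul, mul_inv_cancel_right]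
    · intro b hb m hm
      obtain ⟨b', hb'⟩ := exists_im E ha h1 hb
      rw [MulAut.mul_apply, hb'.im m hm, MulAut.inv_apply, MulEquiv.symm_apply_eq]
      apply Subtype.ext
      rw [cj_apply]
      show refl hb'.nf'.root * refl (fr ha m) = dh ha s * (refl hb.root * refl (fr ha m)) * (dh ha s)⁻¹
      rw [mul_conj, RfFive.conj_refl hb.root, refl_conj_eq (fr ha m)]
      · rw [RfFive.refl_congr (isRoot_ap hb.root (dh ha s)) hb'.nf'.root (hs b b' hb')]
      · rw [ap_dh]
        rcases Int.units_eq_one_or (s m) with h | h <;> rw [h] <;> simp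
  refine ⟨w * dh ha s, fun k => ?_⟩
  have h3 : α = cj w * cj (dh ha s) := by
    rw [inv_mul_eq_one] at h2
    rw [h2]
    group
  rw [h3, MulAut.mul_apply, cj_apply, cj_apply]
  group

end Cfsg.Agent.OddHalf.D9.EEight.AutD

end

-- merged: Cfsg.Agent.OddHalf.D9.EEight.RowFinal
section

/-!
# D9: the row `2.Ω₈⁺(2)`, without hypotheses (helpers 109, 192, 528, 815, 912)

* `ident` : a perfect group `K` with `|Z(K)| = 2` and `K/Z(K) ≃ Ω₈⁺(2)` is isomorphic to `K₀ = W(E₈)'`;
* `autConj` : every automorphism of `K₀` is induced by `W(E₈)`;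
* `row` : the field `o82` of `Cut.Rows`.
-/

set_option autoImplicit false

namespace Cfsg.Agent.OddHalf.D9.EEight.RowFinal

open Subgroup Cfsg Cfsg.Agent.OddHalf.Iface Cfsg.Agent.OddHalf.D9.EEight
open Cfsg.Agent.OddHalf.D4.EvenEFacts (AutConj)

universe u

/-- Identification of the double cover of `Ω₈⁺(2)`. -/
theorem ident : RowOf.Ident.{u} := by
  intro K _ _ hp h2 hX
  obtain ⟨π, hs, hk⟩ := RowOf.exists_pi hX
  have hcard : Nat.card ↥π.ker = 2 := by rw [hk, h2]
  refine Id.Main.exists_iso (π := π) ⟨hs, hk.le, ?_, hp⟩ ?_ ?_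
  · exact IsPGroup.iff_card.2 ⟨1, by rw [hcard, pow_one]⟩
  · intro h
    rw [h, card_bot] at hcard
    omega
  · haveI : Fact (Nat.Prime 2) := ⟨Nat.prime_two⟩
    exact isCyclic_of_prime_card hcard

/-- The automorphisms of `K₀` are induced by `W(E₈)`. -/
theorem autConj : AutConj := fun α => AutD.exists_w EFInst.ef Id.Main.commutator_K α

/-- **The row `2.Ω₈⁺(2)` of D9**, the field `o82` of `Cut.Rows`. -/
theorem row : Cut.Row.{u} (fun K _ => Cut.Two (fun X _ => Cut.XO82 X) K) := RowOf.row ident autConj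

end Cfsg.Agent.OddHalf.D9.EEight.RowFinal

end
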