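import Cfsg.Agent.OddHalf.D9.EEight.Facts
import Cfsg.Agent.OddHalf.D9.EEight.CountsF

-- merged: Cfsg.Agent.OddHalf.D9.EEight.Comb
section

/-!
# Sign vectors: even permutations, stabilizers of a sign vector
-/

set_option autoImplicit false

namespace Cfsg.Agent.OddHalf.D9.EEight

open Equiv

theorem not_neg_one {a : ℤˣ} (h : a ≠ -1) : a = 1 := (Int.units_eq_one_or a).resolve_right h

/-- Sign vectors of the same weight are related by an even permutation. -/
theorem exists_even_perm {ε η : Sg} (h : wt ε = wt η) :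
    ∃ σ : Perm (Fin 8), Perm.sign σ = 1 ∧ pm σ ε = η := by
  have hc : Fintype.card {i // η i = -1} = Fintype.card {i // ε i = -1} := by
    rw [Fintype.card_subtype, Fintype.card_subtype]
    exact h.symm
  let e : {i // η i = -1} ≃ {i // ε i = -1} := Fintype.equivOfCardEq hc
  have h1 : pm e.extendSubtype ε = η := by
    funext i
    rw [pm_apply]
    by_cases hi : η i = -1
    · rw [hi]
      exact e.extendSubtype_mem i hi
    · rw [not_neg_one hi]
      exact not_neg_one (e.extendSubtype_not_mem i hi)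
  rcases Int.units_eq_one_or (Perm.sign e.extendSubtype) with h2 | h2
  · exact ⟨_, h2, h1⟩
  · -- two equal coordinates
    have h3 : ∃ i j : Fin 8, i ≠ j ∧ η i = η j := by
      rcases Int.units_eq_one_or (η 0) with a | a <;> rcases Int.units_eq_one_or (η 1) with b | b <;>
        rcases Int.units_eq_one_or (η 2) with c | c
      · exact ⟨0, 1, by decide, by rw [a, b]⟩
      · exact ⟨0, 1, by decide, by rw [a, b]⟩
      · exact ⟨0, 2, by decide, by rw [a, c]⟩
      · exact ⟨1, 2, by decide, by rw [b, c]⟩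
      · exact ⟨1, 2, by decide, by rw [b, c]⟩
      · exact ⟨0, 2, by decide, by rw [a, c]⟩
      · exact ⟨0, 1, by decide, by rw [a, b]⟩
      · exact ⟨0, 1, by decide, by rw [a, b]⟩
    obtain ⟨i, j, hij, he⟩ := h3
    refine ⟨e.extendSubtype * swap i j, ?_, ?_⟩
    · rw [map_mul, h2, Perm.sign_swap hij]
      decide
    · funext k
      rw [pm_apply, Perm.mul_apply]
      have h4 := congrFun h1 (swap i j k)
      rw [pm_apply] at h4
      rw [h4]
      by_cases hk : k = i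
      · rw [hk, swap_apply_left, he]
      · by_cases hk' : k = j
        · rw [hk', swap_apply_right, he]
        · rw [swap_apply_of_ne_of_ne hk hk']

theorem prd_eq_pow (ε : Sg) : prd ε = (-1) ^ wt ε := by
  rw [prd_apply]
  unfold wt
  rw [← Finset.prod_const, Finset.prod_filter]
  apply Finset.prod_congr rfl
  intro i _
  split_ifs with h
  · exact h
  · exact not_neg_one h

theorem wt_even {ε : Sg} (h : ε ∈ Ev) : Even (wt ε) := by
  rw [mem_Ev, prd_eq_pow] at h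
  by_contra hne
  rw [Nat.not_even_iff_odd] at hne
  rw [hne.neg_one_pow] at h
  exact absurd h (by decide)

theorem wt_le (ε : Sg) : wt ε ≤ 8 := by
  unfold wt
  exact (Finset.card_le_univ _).trans (by simp)

theorem wt_zero {ε : Sg} (h : wt ε = 0) : ε = 1 := by
  unfold wt at h
  rw [Finset.card_eq_zero] at h
  funext i
  apply not_neg_one
  intro hi
  have : i ∈ Finset.univ.filter (fun i => ε i = -1) := Finset.mem_filter.2 ⟨Finset.mem_univ _, hi⟩
  rw [h] at this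
  exact absurd this (Finset.notMem_empty _)

theorem wt_eight {ε : Sg} (h : wt ε = 8) : ε = -1 := by
  unfold wt at h
  have h1 : Finset.univ.filter (fun i => ε i = -1) = Finset.univ := by
    apply Finset.eq_univ_of_card
    rw [h]
    simp
  funext i
  have : i ∈ Finset.univ.filter (fun i => ε i = -1) := by rw [h1]; exact Finset.mem_univ _
  exact (Finset.mem_filter.1 this).2

/-- `{6, 7}` -/
def u2 : Sg := fun i => if 6 ≤ i then -1 else 1

/-- `{0, …, 5}` -/
def u6 : Sg := fun i => if 6 ≤ i then 1 else -1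

/-- `{0, 1, 2, 3}` -/
def u4 : Sg := fun i => if 4 ≤ i then 1 else -1

theorem wt_u2 : wt u2 = 2 := by decide
theorem wt_u6 : wt u6 = 6 := by decide
theorem wt_u4 : wt u4 = 4 := by decide

/-- Normal form of the noncentral even sign vectors. -/
theorem normal_form {u : Sg} (hu : u ∈ Ev) (h1 : u ≠ 1) (h2 : u ≠ -1) :
    ∃ σ : Perm (Fin 8), Perm.sign σ = 1 ∧ (pm σ u = u2 ∨ pm σ u = u6 ∨ pm σ u = u4) := by
  obtain ⟨k, hk⟩ := wt_even hu
  have h8 := wt_le u
  have : k = 0 ∨ k = 1 ∨ k = 2 ∨ k = 3 ∨ k = 4 := by omega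
  rcases this with rfl | rfl | rfl | rfl | rfl
  · exact absurd (wt_zero hk) h1
  · obtain ⟨σ, hσ, h⟩ := exists_even_perm (ε := u) (η := u2) (by rw [hk, wt_u2])
    exact ⟨σ, hσ, Or.inl h⟩
  · obtain ⟨σ, hσ, h⟩ := exists_even_perm (ε := u) (η := u4) (by rw [hk, wt_u4])
    exact ⟨σ, hσ, Or.inr (Or.inr h)⟩
  · obtain ⟨σ, hσ, h⟩ := exists_even_perm (ε := u) (η := u6) (by rw [hk, wt_u6])
    exact ⟨σ, hσ, Or.inr (Or.inl h)⟩
  · exact absurd (wt_eight hk) h2

theorem sq_one (x : Sg) : x * x = 1 := by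
  funext j
  exact Int.units_mul_self _

/-- The vector `a` exactly at `i`, `j`. -/
def pq (i j : Fin 8) (a : ℤˣ) : Sg := fun k => if k = i ∨ k = j then a else 1

theorem pq_mem {T : Subgroup Sg} {i j : Fin 8} (h : pq i j (-1) ∈ T) (a : ℤˣ) : pq i j a ∈ T := by
  rcases Int.units_eq_one_or a with rfl | rfl
  · have : pq i j 1 = 1 := by
      funext k
      unfold pq
      rw [ite_self]
      rfl
    rw [this]
    exact T.one_mem
  · exact h

/-- `T` contains the commutators with the stabilizer of `u`. -/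
def HasComm (T : Subgroup Sg) (u : Sg) : Prop :=
  u ∈ T ∧ ∀ x ∈ Ev, ∀ σ : Perm (Fin 8), Perm.sign σ = 1 → pm σ u = u → x * pm σ x ∈ T

theorem HasComm.pair {T : Subgroup Sg} {u : Sg} (h : HasComm T u) (x : Sg) (hx : x ∈ Ev)
    (σ : Perm (Fin 8)) (h1 : Perm.sign σ = 1) (h2 : pm σ u = u) {y : Sg} (h3 : x * pm σ x = y) :
    y ∈ T := by
  rw [← h3]
  exact h.2 x hx σ h1 h2

theorem sign_two {a b c d : Fin 8} (h1 : a ≠ b) (h2 : c ≠ d) :
    Perm.sign (swap a b * swap c d) = 1 := by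
  rw [map_mul, Perm.sign_swap h1, Perm.sign_swap h2]
  decide

theorem prd_eq {x : Sg} (hx : x ∈ Ev) :
    x 0 * x 1 * x 2 * x 3 * x 4 * x 5 * x 6 * x 7 = 1 := by
  rw [mem_Ev, prd_apply, Fin.prod_univ_eight] at hx
  exact hx

theorem claimA {T : Subgroup Sg} {u : Sg} (hu : u = u2 ∨ u = u6) (h : HasComm T u) {x : Sg}
    (hx : x ∈ Ev) (h67 : x 6 = x 7) : x ∈ T := by
  have hs1 : (sg 0 * sg 6 : Sg) ∈ Ev := by decide
  have p1 : pq 0 1 (-1) ∈ T := by
    refine h.pair (sg 0 * sg 6) hs1 (swap 0 1 * swap 2 3) (sign_two (by decide) (by decide)) ?_ ?_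
    · rcases hu with rfl | rfl <;> decide
    · decide
  have p2 : pq 0 2 (-1) ∈ T := by
    refine h.pair (sg 0 * sg 6) hs1 (swap 0 2 * swap 1 3) (sign_two (by decide) (by decide)) ?_ ?_
    · rcases hu with rfl | rfl <;> decide
    · decide
  have p3 : pq 0 3 (-1) ∈ T := by
    refine h.pair (sg 0 * sg 6) hs1 (swap 0 3 * swap 1 2) (sign_two (by decide) (by decide)) ?_ ?_
    · rcases hu with rfl | rfl <;> decide
    · decide
  have p4 : pq 0 4 (-1) ∈ T := by
    refine h.pair (sg 0 * sg 6) hs1 (swap 0 4 * swap 1 2) (sign_two (by decide) (by decide)) ?_ ?_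
    · rcases hu with rfl | rfl <;> decide
    · decide
  have p5 : pq 0 5 (-1) ∈ T := by
    refine h.pair (sg 0 * sg 6) hs1 (swap 0 5 * swap 1 2) (sign_two (by decide) (by decide)) ?_ ?_
    · rcases hu with rfl | rfl <;> decide
    · decide
  have p6 : pq 6 7 (-1) ∈ T := by
    rcases hu with rfl | rfl
    · have : pq 6 7 (-1) = u2 := by decide
      rw [this]
      exact h.1
    · have h1 : pq 0 1 (-1) * pq 6 7 (-1) ∈ T := by
        refine h.pair (sg 0 * sg 6) hs1 (swap 0 1 * swap 6 7) (sign_two (by decide) (by decide)) ?_ ?_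
        · decide
        · decide
      exact (T.mul_mem_cancel_left p1).1 h1
  have hx' : x = pq 0 1 (x 1) * pq 0 2 (x 2) * pq 0 3 (x 3) * pq 0 4 (x 4) * pq 0 5 (x 5) *
      pq 6 7 (x 6) := by
    have h0 : x 0 = x 1 * x 2 * x 3 * x 4 * x 5 := by
      have h1 := prd_eq hx
      rw [← h67] at h1
      have h2 : x 0 * (x 1 * x 2 * x 3 * x 4 * x 5) * (x 6 * x 6) = 1 := by
        rw [← h1]; ac_rfl
      rw [Int.units_mul_self, mul_one] at h2
      rw [← mul_left_inj (x 1 * x 2 * x 3 * x 4 * x 5), h2, Int.units_mul_self]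
    funext i
    fin_cases i
    · show x 0 = x 1 * x 2 * x 3 * x 4 * x 5 * 1
      rw [mul_one]
      exact h0
    · show x 1 = x 1 * 1 * 1 * 1 * 1 * 1
      simp only [mul_one]
    · show x 2 = 1 * x 2 * 1 * 1 * 1 * 1
      simp only [mul_one, one_mul]
    · show x 3 = 1 * 1 * x 3 * 1 * 1 * 1
      simp only [mul_one, one_mul]
    · show x 4 = 1 * 1 * 1 * x 4 * 1 * 1
      simp only [mul_one, one_mul]
    · show x 5 = 1 * 1 * 1 * 1 * x 5 * 1
      simp only [mul_one, one_mul]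
    · show x 6 = 1 * 1 * 1 * 1 * 1 * x 6
      simp only [mul_one, one_mul]
    · show x 7 = 1 * 1 * 1 * 1 * 1 * x 6
      simp only [mul_one, one_mul]
      exact h67.symm
  rw [hx']
  exact T.mul_mem (T.mul_mem (T.mul_mem (T.mul_mem (T.mul_mem (pq_mem p1 _) (pq_mem p2 _))
    (pq_mem p3 _)) (pq_mem p4 _)) (pq_mem p5 _)) (pq_mem p6 _)

/-- `(0 1 2 3 4)` -/
def cy1 : Perm (Fin 8) := swap 0 1 * swap 1 2 * swap 2 3 * swap 3 4

/-- `(1 2 3 4 5)` -/
def cy2 : Perm (Fin 8) := swap 1 2 * swap 2 3 * swap 3 4 * swap 4 5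

theorem sign_four {a b c d e f g h : Fin 8} (h1 : a ≠ b) (h2 : c ≠ d) (h3 : e ≠ f) (h4 : g ≠ h) :
    Perm.sign (swap a b * swap c d * swap e f * swap g h) = 1 := by
  rw [map_mul, map_mul, map_mul, Perm.sign_swap h1, Perm.sign_swap h2, Perm.sign_swap h3,
    Perm.sign_swap h4]
  decide

theorem cy1_sign : Perm.sign cy1 = 1 := sign_four (by decide) (by decide) (by decide) (by decide)
theorem cy2_sign : Perm.sign cy2 = 1 := sign_four (by decide) (by decide) (by decide) (by decide)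

theorem cy1_pow : cy1 ^ 5 = 1 := by decide
theorem cy2_pow : cy2 ^ 5 = 1 := by decide

theorem self_ne_neg (a : ℤˣ) : a ≠ -1 * a := by
  rcases Int.units_eq_one_or a with rfl | rfl <;> decide

/-- A `5`-cycle in the stabilizer. -/
theorem five {u : Sg} (hu : u = u2 ∨ u = u6) {x : Sg} (hx : x ∈ Ev) (h67 : x 6 ≠ x 7) :
    ∃ σ : Perm (Fin 8), Perm.sign σ = 1 ∧ pm σ u = u ∧ σ ^ 5 = 1 ∧ pm σ x ≠ x ∧
      pm σ x ≠ u * x := by
  by_cases h1 : pm cy1 x = x
  · by_cases h2 : pm cy2 x = x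
    · exfalso
      apply h67
      have a0 : x 1 = x 0 := congrFun h1 0
      have a1 : x 2 = x 1 := congrFun h1 1
      have a2 : x 3 = x 2 := congrFun h1 2
      have a3 : x 4 = x 3 := congrFun h1 3
      have a4 : x 5 = x 4 := congrFun h2 4
      have h3 := prd_eq hx
      rw [a4, a3, a2, a1, a0] at h3
      have h4 : (x 0 * x 0) * (x 0 * x 0) * (x 0 * x 0) * (x 6 * x 7) = 1 := by
        rw [← h3]; ac_rfl
      simp only [Int.units_mul_self, one_mul] at h4
      rw [← mul_left_inj (x 7), h4, Int.units_mul_self]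
    · refine ⟨cy2, cy2_sign, ?_, cy2_pow, h2, ?_⟩
      · rcases hu with rfl | rfl <;> decide
      · intro h3
        rcases hu with rfl | rfl
        · exact self_ne_neg (x 6) (congrFun h3 6)
        · exact self_ne_neg (x 0) (congrFun h3 0)
  · refine ⟨cy1, cy1_sign, ?_, cy1_pow, h1, ?_⟩
    · rcases hu with rfl | rfl <;> decide
    · intro h3
      rcases hu with rfl | rfl
      · exact self_ne_neg (x 6) (congrFun h3 6)
      · exact self_ne_neg (x 5) (congrFun h3 5)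

theorem claimB {T : Subgroup Sg} (h : HasComm T u4) {x : Sg}
    (hx : x ∈ Ev) (h4 : x 0 * x 1 * x 2 * x 3 = 1) : x ∈ T := by
  have hs1 : (sg 0 * sg 4 : Sg) ∈ Ev := by decide
  have p1 : pq 0 1 (-1) ∈ T := by
    refine h.pair (sg 0 * sg 4) hs1 (swap 0 1 * swap 5 6) (sign_two (by decide) (by decide)) ?_ ?_ <;>
      decide
  have p2 : pq 0 2 (-1) ∈ T := by
    refine h.pair (sg 0 * sg 4) hs1 (swap 0 2 * swap 5 6) (sign_two (by decide) (by decide)) ?_ ?_ <;>
      decide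
  have p3 : pq 0 3 (-1) ∈ T := by
    refine h.pair (sg 0 * sg 4) hs1 (swap 0 3 * swap 5 6) (sign_two (by decide) (by decide)) ?_ ?_ <;>
      decide
  have p5 : pq 4 5 (-1) ∈ T := by
    refine h.pair (sg 0 * sg 4) hs1 (swap 4 5 * swap 1 2) (sign_two (by decide) (by decide)) ?_ ?_ <;>
      decide
  have p6 : pq 4 6 (-1) ∈ T := by
    refine h.pair (sg 0 * sg 4) hs1 (swap 4 6 * swap 1 2) (sign_two (by decide) (by decide)) ?_ ?_ <;>
      decide
  have p7 : pq 4 7 (-1) ∈ T := by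
    refine h.pair (sg 0 * sg 4) hs1 (swap 4 7 * swap 1 2) (sign_two (by decide) (by decide)) ?_ ?_ <;>
      decide
  have hx' : x = pq 0 1 (x 1) * pq 0 2 (x 2) * pq 0 3 (x 3) * pq 4 5 (x 5) * pq 4 6 (x 6) *
      pq 4 7 (x 7) := by
    have h0 : x 0 = x 1 * x 2 * x 3 := by
      rw [← mul_left_inj (x 1 * x 2 * x 3), Int.units_mul_self, ← h4]
      ac_rfl
    have h5 : x 4 = x 5 * x 6 * x 7 := by
      have h1 := prd_eq hx
      rw [h4, one_mul] at h1
      rw [← mul_left_inj (x 5 * x 6 * x 7), Int.units_mul_self, ← h1]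
      ac_rfl
    funext i
    fin_cases i
    · show x 0 = x 1 * x 2 * x 3 * 1 * 1 * 1
      simp only [mul_one]
      exact h0
    · show x 1 = x 1 * 1 * 1 * 1 * 1 * 1
      simp only [mul_one]
    · show x 2 = 1 * x 2 * 1 * 1 * 1 * 1
      simp only [mul_one, one_mul]
    · show x 3 = 1 * 1 * x 3 * 1 * 1 * 1
      simp only [mul_one, one_mul]
    · show x 4 = 1 * 1 * 1 * x 5 * x 6 * x 7
      simp only [mul_one, one_mul]
      exact h5
    · show x 5 = 1 * 1 * 1 * x 5 * 1 * 1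
      simp only [mul_one, one_mul]
    · show x 6 = 1 * 1 * 1 * 1 * x 6 * 1
      simp only [mul_one, one_mul]
    · show x 7 = 1 * 1 * 1 * 1 * 1 * x 7
      simp only [mul_one, one_mul]
  rw [hx']
  exact T.mul_mem (T.mul_mem (T.mul_mem (T.mul_mem (T.mul_mem (pq_mem p1 _) (pq_mem p2 _))
    (pq_mem p3 _)) (pq_mem p5 _)) (pq_mem p6 _)) (pq_mem p7 _)

/-- Translations of both halves. -/
def vv (p : Fin 4 × Fin 4) : Perm (Fin 8) :=
  { toFun := fun i => ⟨Nat.xor i (if (i : ℕ) < 4 then p.1 else p.2) % 8, Nat.mod_lt _ (by norm_num)⟩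
    invFun := fun i => ⟨Nat.xor i (if (i : ℕ) < 4 then p.1 else p.2) % 8, Nat.mod_lt _ (by norm_num)⟩
    left_inv := by revert p; decide
    right_inv := by revert p; decide }

theorem vv_sign (p : Fin 4 × Fin 4) : Perm.sign (vv p) = 1 := by
  revert p; decide

theorem vv_u4 (p : Fin 4 × Fin 4) : pm (vv p) u4 = u4 := by
  revert p; decide

theorem special (e0 e1 e2 e3 s : ℤˣ) (h : e0 * e1 * e2 * e3 = -1) (a b : Fin 4)
    (hab : ∀ i : Fin 4, ![e0, e1, e2, e3] ⟨Nat.xor i a % 4, Nat.mod_lt _ (by norm_num)⟩ =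
      s * ![e0, e1, e2, e3] ⟨Nat.xor i b % 4, Nat.mod_lt _ (by norm_num)⟩) : a = b := by
  revert e0 e1 e2 e3 s h a b
  decide

theorem vv_low' (p : Fin 4 × Fin 4) (i : Fin 4) :
    vv p (Fin.castLE (by norm_num) i) =
      Fin.castLE (by norm_num) (⟨Nat.xor i p.1 % 4, Nat.mod_lt _ (by norm_num)⟩ : Fin 4) := by
  revert p i
  decide

theorem vv_high' (p : Fin 4 × Fin 4) (i : Fin 4) :
    vv p (Fin.natAdd 4 i) =
      Fin.natAdd 4 (⟨Nat.xor i p.2 % 4, Nat.mod_lt _ (by norm_num)⟩ : Fin 4) := by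
  revert p i
  decide

theorem low_eq (x : Sg) (j : Fin 4) : ![x 0, x 1, x 2, x 3] j = x (Fin.castLE (by norm_num) j) := by
  fin_cases j <;> rfl

theorem high_eq (x : Sg) (j : Fin 4) : ![x 4, x 5, x 6, x 7] j = x (Fin.natAdd 4 j) := by
  fin_cases j <;> rfl

theorem u4_low (i : Fin 4) : u4 (Fin.castLE (by norm_num) i) = -1 := by
  revert i; decide

theorem u4_high (i : Fin 4) : u4 (Fin.natAdd 4 i) = 1 := by
  revert i; decide

theorem spec_vv {x : Sg} (hx : x ∈ Ev) (h4 : x 0 * x 1 * x 2 * x 3 = -1) {p q : Fin 4 × Fin 4}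
    (h : pm (vv p) x = pm (vv q) x ∨ pm (vv p) x = u4 * pm (vv q) x) : p = q := by
  have h5 : x 4 * x 5 * x 6 * x 7 = -1 := by
    have h1 := prd_eq hx
    rw [h4] at h1
    rw [← mul_right_inj (-1 : ℤˣ)]
    refine Eq.trans ?_ (h1.trans (by decide))
    ac_rfl
  have k1 : ∃ s : ℤˣ, ∀ i : Fin 4, x (vv p (Fin.castLE (by norm_num) i)) =
      s * x (vv q (Fin.castLE (by norm_num) i)) := by
    rcases h with h | h
    · exact ⟨1, fun i => by rw [one_mul]; exact congrFun h _⟩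
    · refine ⟨-1, fun i => ?_⟩
      have h6 := congrFun h (Fin.castLE (by norm_num) i)
      rw [Pi.mul_apply] at h6
      rw [u4_low] at h6
      exact h6
  have k2 : ∃ s : ℤˣ, ∀ i : Fin 4, x (vv p (Fin.natAdd 4 i)) = s * x (vv q (Fin.natAdd 4 i)) := by
    refine ⟨1, fun i => ?_⟩
    rw [one_mul]
    rcases h with h | h
    · exact congrFun h _
    · have h6 := congrFun h (Fin.natAdd 4 i)
      rw [Pi.mul_apply] at h6
      rw [u4_high, one_mul] at h6
      exact h6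
  obtain ⟨s, k1⟩ := k1
  obtain ⟨t, k2⟩ := k2
  apply Prod.ext
  · apply special (x 0) (x 1) (x 2) (x 3) s h4
    intro i
    rw [low_eq, low_eq, ← vv_low', ← vv_low']
    exact k1 i
  · apply special (x 4) (x 5) (x 6) (x 7) t h5
    intro i
    rw [high_eq, high_eq, ← vv_high', ← vv_high']
    exact k2 i

end Cfsg.Agent.OddHalf.D9.EEight

end

-- merged: Cfsg.Agent.OddHalf.D9.EEight.AutA
section

/-!
# Automorphisms of `Ev`
-/

set_option autoImplicit false

namespace Cfsg.Agent.OddHalf.D9.EEight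

open Equiv

/-- the pair `{i, j}` -/
def pr (i j : Fin 8) : Sg := sg i * sg j

theorem prd_sg (i : Fin 8) : prd (sg i) = -1 := by
  revert i; decide

theorem pr_mem (i j : Fin 8) : pr i j ∈ Ev := by
  rw [mem_Ev, pr, map_mul, prd_sg, prd_sg]
  decide

theorem pq_eq (j : Fin 8) (hj : j ≠ 0) : pq 0 j (-1) = pr 0 j := by
  revert j; decide

/-- The pairs `{0, j}` generate. -/
theorem ev_gen {T : Subgroup Sg} (h : ∀ j : Fin 8, j ≠ 0 → pr 0 j ∈ T) {x : Sg} (hx : x ∈ Ev) :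
    x ∈ T := by
  have hx' : x = pq 0 1 (x 1) * pq 0 2 (x 2) * pq 0 3 (x 3) * pq 0 4 (x 4) * pq 0 5 (x 5) *
      pq 0 6 (x 6) * pq 0 7 (x 7) := by
    have h0 : x 0 = x 1 * x 2 * x 3 * x 4 * x 5 * x 6 * x 7 := by
      have h1 := prd_eq hx
      have h2 : x 0 * (x 1 * x 2 * x 3 * x 4 * x 5 * x 6 * x 7) = 1 := by
        rw [← h1]; ac_rfl
      rw [← mul_left_inj (x 1 * x 2 * x 3 * x 4 * x 5 * x 6 * x 7), h2, Int.units_mul_self]
    funext i
    fin_cases i
    · exact h0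
    · show x 1 = x 1 * 1 * 1 * 1 * 1 * 1 * 1
      simp only [mul_one]
    · show x 2 = 1 * x 2 * 1 * 1 * 1 * 1 * 1
      simp only [mul_one, one_mul]
    · show x 3 = 1 * 1 * x 3 * 1 * 1 * 1 * 1
      simp only [mul_one, one_mul]
    · show x 4 = 1 * 1 * 1 * x 4 * 1 * 1 * 1
      simp only [mul_one, one_mul]
    · show x 5 = 1 * 1 * 1 * 1 * x 5 * 1 * 1
      simp only [mul_one, one_mul]
    · show x 6 = 1 * 1 * 1 * 1 * 1 * x 6 * 1
      simp only [mul_one, one_mul]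
    · show x 7 = 1 * 1 * 1 * 1 * 1 * 1 * x 7
      simp only [one_mul]
  have hq : ∀ j : Fin 8, j ≠ 0 → ∀ a, pq 0 j a ∈ T := fun j hj a =>
    pq_mem (by rw [pq_eq j hj]; exact h j hj) a
  rw [hx']
  exact T.mul_mem (T.mul_mem (T.mul_mem (T.mul_mem (T.mul_mem (T.mul_mem (hq 1 (by decide) _)
    (hq 2 (by decide) _)) (hq 3 (by decide) _)) (hq 4 (by decide) _)) (hq 5 (by decide) _))
    (hq 6 (by decide) _)) (hq 7 (by decide) _)

/-- the support -/
def sp (ε : Sg) : Finset (Fin 8) := Finset.univ.filter (fun i => ε i = -1)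

theorem mem_sp {ε : Sg} {i : Fin 8} : i ∈ sp ε ↔ ε i = -1 := by
  unfold sp
  rw [Finset.mem_filter]
  exact ⟨fun h => h.2, fun h => ⟨Finset.mem_univ _, h⟩⟩

theorem card_sp (ε : Sg) : (sp ε).card = wt ε := rfl

theorem sp_inj {ε η : Sg} (h : sp ε = sp η) : ε = η := by
  funext i
  rcases Int.units_eq_one_or (ε i) with h1 | h1
  · rcases Int.units_eq_one_or (η i) with h2 | h2
    · rw [h1, h2]
    · have : i ∈ sp ε := by rw [h]; exact mem_sp.2 h2
      rw [mem_sp.1 this] at h1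
      exact absurd h1 (by decide)
  · have : i ∈ sp η := by rw [← h]; exact mem_sp.2 h1
    rw [h1, mem_sp.1 this]

theorem sp_mul (ε η : Sg) : sp (ε * η) = symmDiff (sp ε) (sp η) := by
  ext i
  rw [Finset.mem_symmDiff, mem_sp, mem_sp, mem_sp, Pi.mul_apply]
  rcases Int.units_eq_one_or (ε i) with h1 | h1 <;> rcases Int.units_eq_one_or (η i) with h2 | h2 <;>
    rw [h1, h2] <;> decide

theorem card_inter_of {S T : Finset (Fin 8)} (h1 : S.card = 2) (h2 : T.card = 2)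
    (h3 : (symmDiff S T).card = 2) : (S ∩ T).card = 1 := by
  have e1 : (symmDiff S T).card = (S \ T).card + (T \ S).card := by
    rw [symmDiff_def, Finset.sup_eq_union, Finset.card_union_of_disjoint disjoint_sdiff_sdiff]
  have e2 := Finset.card_sdiff_add_card_inter S T
  have e3 := Finset.card_sdiff_add_card_inter T S
  rw [Finset.inter_comm T S] at e3
  omega

theorem pr_wt (i j : Fin 8) (h : i ≠ j) : wt (pr i j) = 2 := by
  revert i j; decide

theorem pr_mul (j k : Fin 8) : pr 0 j * pr 0 k = pr j k := by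
  unfold pr
  have : sg 0 * sg j * (sg 0 * sg k) = (sg 0 * sg 0) * (sg j * sg k) := by
    simp only [mul_assoc, mul_left_comm]
  rw [this, sq_one, one_mul]

theorem four_pts (j k : Fin 8) : ∃ l : Fin 8, l ≠ 0 ∧ l ≠ 1 ∧ l ≠ j ∧ l ≠ k := by
  revert j k
  decide

/-- Seven pairwise intersecting pairs have a common point. -/
theorem exists_common (S : Fin 8 → Finset (Fin 8)) (h2 : ∀ j, j ≠ 0 → (S j).card = 2)
    (h1 : ∀ j k, j ≠ 0 → k ≠ 0 → j ≠ k → (S j ∩ S k).card = 1) : ∃ p, ∀ j, j ≠ 0 → p ∈ S j := by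
  by_contra hcon
  push Not at hcon
  obtain ⟨p, q, hpq, hS1⟩ := Finset.card_eq_two.1 (h2 1 (by decide))
  obtain ⟨j, hj, hpj⟩ := hcon p
  obtain ⟨k, hk, hqk⟩ := hcon q
  have hj1 : j ≠ 1 := by
    rintro rfl
    apply hpj; rw [hS1]; simp
  have hk1 : k ≠ 1 := by
    rintro rfl
    apply hqk; rw [hS1]; simp
  have hqj : q ∈ S j := by
    have h := h1 1 j (by decide) hj hj1.symm
    obtain ⟨x, hx⟩ := Finset.card_eq_one.1 h
    have hx1 : x ∈ S 1 ∩ S j := by rw [hx]; exact Finset.mem_singleton_self _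
    rw [Finset.mem_inter, hS1, Finset.mem_insert, Finset.mem_singleton] at hx1
    rcases hx1.1 with h' | h'
    · rw [h'] at hx1; exact absurd hx1.2 hpj
    · rw [← h']; exact hx1.2
  have hpk : p ∈ S k := by
    have h := h1 1 k (by decide) hk hk1.symm
    obtain ⟨x, hx⟩ := Finset.card_eq_one.1 h
    have hx1 : x ∈ S 1 ∩ S k := by rw [hx]; exact Finset.mem_singleton_self _
    rw [Finset.mem_inter, hS1, Finset.mem_insert, Finset.mem_singleton] at hx1
    rcases hx1.1 with h' | h'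
    · rw [← h']; exact hx1.2
    · rw [h'] at hx1; exact absurd hx1.2 hqk
  have hjk : j ≠ k := by
    rintro rfl
    exact hpj hpk
  obtain ⟨r, hr⟩ := Finset.card_eq_one.1 (h1 j k hj hk hjk)
  have hr1 : r ∈ S j ∩ S k := by rw [hr]; exact Finset.mem_singleton_self _
  rw [Finset.mem_inter] at hr1
  have hrp : r ≠ p := by rintro rfl; exact hpj hr1.1
  have hrq : r ≠ q := by rintro rfl; exact hqk hr1.2
  have hSj : S j = {q, r} := by
    symm
    apply Finset.eq_of_subset_of_card_le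
    · intro x hx
      rw [Finset.mem_insert, Finset.mem_singleton] at hx
      rcases hx with rfl | rfl
      · exact hqj
      · exact hr1.1
    · rw [h2 j hj, Finset.card_pair hrq.symm]
  have hSk : S k = {p, r} := by
    symm
    apply Finset.eq_of_subset_of_card_le
    · intro x hx
      rw [Finset.mem_insert, Finset.mem_singleton] at hx
      rcases hx with rfl | rfl
      · exact hpk
      · exact hr1.2
    · rw [h2 k hk, Finset.card_pair hrp.symm]
  obtain ⟨l, hl0, hl1, hlj, hlk⟩ : ∃ l : Fin 8, l ≠ 0 ∧ l ≠ 1 ∧ l ≠ j ∧ l ≠ k := by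
    exact four_pts j k
  have two : ∀ a b : Fin 8, a ≠ b → a ∈ S l → b ∈ S l → ∀ m, m ≠ 0 → m ≠ l → S m = {a, b} → False := by
    intro a b hab ha hb m hm hml hSm
    have h := h1 l m hl0 hm hml.symm
    have : ({a, b} : Finset (Fin 8)) ⊆ S l ∩ S m := by
      intro x hx
      rw [Finset.mem_inter]
      refine ⟨?_, by rw [hSm]; exact hx⟩
      rw [Finset.mem_insert, Finset.mem_singleton] at hx
      rcases hx with rfl | rfl
      · exact ha
      · exact hb
    have := Finset.card_le_card this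
    rw [Finset.card_pair hab, h] at this
    omega
  have meet : ∀ a b : Fin 8, ∀ m, m ≠ 0 → m ≠ l → S m = {a, b} → a ∈ S l ∨ b ∈ S l := by
    intro a b m hm hml hSm
    obtain ⟨x, hx⟩ := Finset.card_eq_one.1 (h1 l m hl0 hm hml.symm)
    have hx1 : x ∈ S l ∩ S m := by rw [hx]; exact Finset.mem_singleton_self _
    rw [Finset.mem_inter, hSm, Finset.mem_insert, Finset.mem_singleton] at hx1
    rcases hx1.2 with h' | h'
    · left; rw [← h']; exact hx1.1
    · right; rw [← h']; exact hx1.1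
  have m1 := meet p q 1 (by decide) hl1.symm hS1
  have m2 := meet q r j hj hlj.symm hSj
  have m3 := meet p r k hk hlk.symm hSk
  have t1 := two p q hpq
  have t2 := two q r hrq.symm
  have t3 := two p r hrp.symm
  rcases m1 with m1 | m1
  · rcases m2 with m2 | m2
    · exact t1 m1 m2 1 (by decide) hl1.symm hS1
    · exact t3 m1 m2 k hk hlk.symm hSk
  · rcases m3 with m3 | m3
    · exact t1 m3 m1 1 (by decide) hl1.symm hS1
    · exact t2 m1 m3 j hj hlj.symm hSj

/-- An automorphism of `Ev` that preserves the pairs is a permutation. -/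
theorem exists_perm_of_pairs (β : MulAut Ev) (h : ∀ ε : Ev, wt ε = 2 → wt (β ε) = 2) :
    ∃ π : Perm (Fin 8), ∀ ε : Ev, (β ε : Sg) = pm π ε := by
  let P : Fin 8 → Ev := fun j => ⟨pr 0 j, pr_mem 0 j⟩
  let S : Fin 8 → Finset (Fin 8) := fun j => sp (β (P j))
  have h2 : ∀ j, j ≠ 0 → (S j).card = 2 := fun j hj => h (P j) (pr_wt 0 j hj.symm)
  have h1 : ∀ j k, j ≠ 0 → k ≠ 0 → j ≠ k → (S j ∩ S k).card = 1 := by
    intro j k hj hk hjk
    apply card_inter_of (h2 j hj) (h2 k hk)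
    have e : P j * P k = ⟨pr j k, pr_mem j k⟩ := Subtype.ext (pr_mul j k)
    have e2 : symmDiff (S j) (S k) = sp (β (P j * P k)) := by
      rw [map_mul]
      exact (sp_mul _ _).symm
    rw [e2, e]
    exact h _ (pr_wt j k hjk)
  obtain ⟨p, hp⟩ := exists_common S h2 h1
  have hτ : ∀ j : Fin 8, ∃ t : Fin 8, j ≠ 0 → t ≠ p ∧ S j = {p, t} := by
    intro j
    by_cases hj : j = 0
    · exact ⟨0, fun h => absurd hj h⟩
    · obtain ⟨a, b, hab, hS⟩ := Finset.card_eq_two.1 (h2 j hj)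
      have hpj := hp j hj
      rw [hS, Finset.mem_insert, Finset.mem_singleton] at hpj
      rcases hpj with h' | h'
      · subst h'
        exact ⟨b, fun _ => ⟨hab.symm, hS⟩⟩
      · subst h'
        exact ⟨a, fun _ => ⟨hab, by rw [hS, Finset.pair_comm]⟩⟩
  choose τ hτ using hτ
  let σ : Fin 8 → Fin 8 := fun j => if j = 0 then p else τ j
  have hσ0 : σ 0 = p := if_pos rfl
  have hσj : ∀ j, j ≠ 0 → σ j = τ j := fun j hj => if_neg hj
  have hinj : Function.Injective σ := by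
    intro i j hij
    by_cases hi : i = 0 <;> by_cases hj : j = 0
    · rw [hi, hj]
    · rw [hi, hσ0, hσj j hj] at hij
      exact absurd hij.symm (hτ j hj).1
    · rw [hj, hσ0, hσj i hi] at hij
      exact absurd hij (hτ i hi).1
    · rw [hσj i hi, hσj j hj] at hij
      by_contra hne
      have h3 := h1 i j hi hj hne
      rw [(hτ i hi).2, (hτ j hj).2, hij, Finset.inter_self, Finset.card_pair (hτ j hj).1.symm] at h3
      omega
  let σ' : Perm (Fin 8) := Equiv.ofBijective σ (Finite.injective_iff_bijective.1 hinj)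
  refine ⟨σ'⁻¹, fun ε => ?_⟩
  have hpm : ∀ i, pm σ'⁻¹ (sg i) = sg (σ i) := by
    intro i
    funext k
    rw [pm_apply]
    unfold sg
    have : (σ'⁻¹ k = i) ↔ (k = σ i) := by
      constructor
      · intro h
        rw [← h]
        exact (σ'.apply_symm_apply k).symm
      · intro h
        rw [h]
        exact σ'.symm_apply_apply i
    simp only [this]
  have hP : ∀ j, j ≠ 0 → (β (P j) : Sg) = pm σ'⁻¹ (pr 0 j) := by
    intro j hj
    apply sp_inj
    have e1 : sp (β (P j)) = {p, τ j} := (hτ j hj).2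
    rw [e1]
    unfold pr
    rw [map_mul, hpm, hpm, hσ0, hσj j hj]
    have : ∀ a b : Fin 8, a ≠ b → ({a, b} : Finset (Fin 8)) = sp (sg a * sg b) := by decide
    exact this _ _ (hτ j hj).1.symm
  -- the subgroup where both agree
  let T : Subgroup Sg :=
    { carrier := {x | ∃ hx : x ∈ Ev, (β ⟨x, hx⟩ : Sg) = pm σ'⁻¹ x}
      one_mem' := ⟨Ev.one_mem, by
        have : (⟨1, Ev.one_mem⟩ : Ev) = 1 := rfl
        rw [this, map_one, map_one]
        rfl⟩
      mul_mem' := by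
        rintro a b ⟨ha, ha'⟩ ⟨hb, hb'⟩
        refine ⟨Ev.mul_mem ha hb, ?_⟩
        have : (⟨a * b, Ev.mul_mem ha hb⟩ : Ev) = ⟨a, ha⟩ * ⟨b, hb⟩ := rfl
        rw [this, map_mul, map_mul, ← ha', ← hb']
        rfl
      inv_mem' := by
        rintro a ⟨ha, ha'⟩
        refine ⟨Ev.inv_mem ha, ?_⟩
        have : (⟨a⁻¹, Ev.inv_mem ha⟩ : Ev) = ⟨a, ha⟩⁻¹ := rfl
        rw [this, map_inv, map_inv, ← ha']
        rfl }
  have := ev_gen (T := T) (fun j hj => ⟨pr_mem 0 j, hP j hj⟩) ε.2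
  exact this.choose_spec

/-- sizes of the classes -/
theorem card_four : (Finset.univ.filter (fun ε : Sg => wt ε = 4)).card = 70 := by decide +kernel

theorem card_two : (Finset.univ.filter (fun ε : Sg => wt ε = 2)).card = 28 := by decide +kernel
theorem card_six : (Finset.univ.filter (fun ε : Sg => wt ε = 6)).card = 28 := by decide +kernel
theorem card_code : (Finset.univ.filter (fun ε : Sg => wt ε = 4 ∧ IsCode ε)).card = 14 := by
  decide +kernel
theorem card_noncode : (Finset.univ.filter (fun ε : Sg => wt ε = 4 ∧ ¬ IsCode ε)).card = 56 := by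
  decide +kernel

end Cfsg.Agent.OddHalf.D9.EEight

end

-- merged: Cfsg.Agent.OddHalf.D9.EEight.Cfg
section

/-!
# The configuration of the row `2.Ω₈⁺(2)`

`φ` embeds `K₀ = ker δ` into `G`, `z = φ c`, `R = C_G(φ K₀)` is a cyclic `2`-group and the elements of
`C_G(z)` act on `φ K₀` as elements of `W`. `Ac h w` says that `h` acts as `w`.
-/

set_option autoImplicit false

namespace Cfsg.Agent.OddHalf.D9.EEight

open Subgroup

variable {W : Type*} [Group W] {δ : W →* ℤˣ} {c : W} {Rf : W → Prop}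
variable {G : Type*} [Group G] {φ : W → G} {R : Subgroup G}

/-- The configuration. -/
structure Cfg (δ : W →* ℤˣ) (c : W) (φ : W → G) (R : Subgroup G) : Prop where
  mul : ∀ k l : W, δ k = 1 → δ l = 1 → φ (k * l) = φ k * φ l
  inj : ∀ k l : W, δ k = 1 → δ l = 1 → φ k = φ l → k = l
  mem_R : ∀ r : G, r ∈ R ↔ ∀ k : W, δ k = 1 → r * φ k = φ k * r
  cyc : IsCyclic R
  two : IsPGroup 2 R
  act : ∀ h : G, h * φ c = φ c * h → ∃ w : W, ∀ k : W, δ k = 1 → h * φ k * h⁻¹ = φ (w * k * w⁻¹)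

/-- `h` acts on `φ K₀` as `w`. -/
def Ac (δ : W →* ℤˣ) (φ : W → G) (h : G) (w : W) : Prop :=
  ∀ k : W, δ k = 1 → h * φ k * h⁻¹ = φ (w * k * w⁻¹)

theorem det_conj {w k : W} (h : δ k = 1) : δ (w * k * w⁻¹) = 1 := by
  rw [map_mul, map_mul, map_inv, h, mul_one, mul_inv_cancel]

theorem Ac.mul {h h' : G} {w w' : W} (a : Ac δ φ h w) (b : Ac δ φ h' w') :
    Ac δ φ (h * h') (w * w') := by
  intro k hk
  have e1 : h * h' * φ k * (h * h')⁻¹ = h * (h' * φ k * h'⁻¹) * h⁻¹ := by group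
  have e2 : w * w' * k * (w * w')⁻¹ = w * (w' * k * w'⁻¹) * w⁻¹ := by group
  rw [e1, e2, b k hk, a _ (det_conj hk)]

theorem Ac.one : Ac δ φ (1 : G) 1 := by
  intro k _
  simp

theorem Ac.inv {h : G} {w : W} (a : Ac δ φ h w) : Ac δ φ h⁻¹ w⁻¹ := by
  intro k hk
  have hk' : δ (w⁻¹ * k * w⁻¹⁻¹) = 1 := det_conj hk
  have := a _ hk'
  have e1 : w * (w⁻¹ * k * w⁻¹⁻¹) * w⁻¹ = k := by group
  rw [e1] at this
  rw [← this]
  group

theorem Ac.pow {h : G} {w : W} (a : Ac δ φ h w) (n : ℕ) : Ac δ φ (h ^ n) (w ^ n) := by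
  induction n with
  | zero => rw [pow_zero, pow_zero]; exact Ac.one
  | succ n ih => rw [pow_succ, pow_succ]; exact ih.mul a

namespace Cfg

variable (C : Cfg δ c φ R) (E : EF δ c Rf)

include C

theorem one' : φ 1 = 1 := by
  have h := C.mul 1 1 (map_one δ) (map_one δ)
  rw [mul_one] at h
  exact (mul_eq_left.1 h.symm)

theorem inv' {k : W} (hk : δ k = 1) : φ k⁻¹ = (φ k)⁻¹ := by
  have h := C.mul k k⁻¹ hk (by rw [map_inv, hk, inv_one])
  rw [mul_inv_cancel, C.one'] at h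
  exact (inv_eq_of_mul_eq_one_right h.symm).symm

theorem conj' {w k : W} (hw : δ w = 1) (hk : δ k = 1) : φ (w * k * w⁻¹) = φ w * φ k * (φ w)⁻¹ := by
  rw [C.mul _ _ (by rw [map_mul, hw, hk, one_mul]) (by rw [map_inv, hw, inv_one]), C.mul _ _ hw hk,
    C.inv' hw]

theorem ac_phi {w : W} (hw : δ w = 1) : Ac δ φ (φ w) w := by
  intro k hk
  rw [C.conj' hw hk]

theorem ac_one_iff {r : G} : Ac δ φ r 1 ↔ r ∈ R := by
  rw [C.mem_R]
  constructor
  · intro h k hk
    have := h k hk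
    rw [one_mul, inv_one, mul_one] at this
    exact mul_inv_eq_iff_eq_mul.1 this
  · intro h k hk
    rw [one_mul, inv_one, mul_one, h k hk, mul_inv_cancel_right]

include E

theorem ac_c_iff {r : G} : Ac δ φ r c ↔ r ∈ R := by
  rw [← C.ac_one_iff]
  unfold Ac
  have : ∀ k : W, c * k * c⁻¹ = 1 * k * 1⁻¹ := by
    intro k
    rw [E.c_comm, mul_inv_cancel_right, one_mul, inv_one, mul_one]
  simp only [this]

omit C in
/-- elements that act commute with `z` -/
theorem ac_comm {h : G} {w : W} (a : Ac δ φ h w) : h * φ c = φ c * h := by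
  have h1 := a c E.c_det
  rw [mul_inv_eq_iff_eq_mul.2 (E.c_comm w).symm] at h1
  exact mul_inv_eq_iff_eq_mul.1 h1

theorem ac_uniq {h : G} {v w : W} (a : Ac δ φ h v) (b : Ac δ φ h w) : w = v ∨ w = c * v := by
  have h1 : ∀ k : W, δ k = 1 → (v⁻¹ * w) * k = k * (v⁻¹ * w) := by
    intro k hk
    have e1 := a k hk
    rw [b k hk] at e1
    have e2 := C.inj _ _ (det_conj hk) (det_conj hk) e1
    have e3 : (v⁻¹ * w) * k = v⁻¹ * (w * k * w⁻¹) * w := by group
    rw [e3, e2]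
    group
  rcases E.cenK _ h1 with h2 | h2
  · left
    rw [inv_mul_eq_one] at h2
    exact h2.symm
  · right
    rw [inv_mul_eq_iff_eq_mul] at h2
    rw [h2, E.c_comm]

theorem ac_det {h : G} {v w : W} (a : Ac δ φ h v) (b : Ac δ φ h w) : δ v = δ w := by
  rcases C.ac_uniq E a b with h | h
  · rw [h]
  · rw [h, map_mul, E.c_det, one_mul]

omit E in
theorem exists_of_ac {h : G} {w : W} (a : Ac δ φ h w) (hw : δ w = 1) : ∃ r ∈ R, h = φ w * r := by
  refine ⟨(φ w)⁻¹ * h, ?_, by group⟩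
  rw [← C.ac_one_iff]
  have h1 := ((C.ac_phi hw).inv).mul a
  rwa [inv_mul_cancel] at h1

omit E in
theorem r_comm {r : G} (hr : r ∈ R) {k : W} (hk : δ k = 1) : r * φ k = φ k * r :=
  (C.mem_R r).1 hr k hk

theorem zz : φ c * φ c = 1 := by
  rw [← C.mul _ _ E.c_det E.c_det, E.c_sq, C.one']

theorem z_ne : φ c ≠ 1 := by
  intro h
  apply E.c_ne
  apply C.inj _ _ E.c_det (map_one δ)
  rw [h, C.one']

theorem z_mem : φ c ∈ R := by
  rw [C.mem_R]
  intro k hk
  rw [← C.mul _ _ E.c_det hk, ← C.mul _ _ hk E.c_det, E.c_comm]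

/-- `φ K₀ ∩ R = {1, z}` -/
theorem phi_mem_R {k : W} (hk : δ k = 1) (h : φ k ∈ R) : k = 1 ∨ k = c := by
  apply E.cenK
  intro l hl
  apply C.inj _ _ (by rw [map_mul, hk, hl, one_mul]) (by rw [map_mul, hk, hl, one_mul])
  rw [C.mul _ _ hk hl, C.mul _ _ hl hk]
  exact C.r_comm h hl

omit E in
theorem r_ab {r s : G} (hr : r ∈ R) (hs : s ∈ R) : r * s = s * r := by
  have := C.cyc
  have h : (⟨r, hr⟩ : R) * ⟨s, hs⟩ = ⟨s, hs⟩ * ⟨r, hr⟩ := by
    let _ : CommGroup R := IsCyclic.commGroup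
    exact mul_comm _ _
  exact congrArg Subtype.val h

/-- `z` is the only involution of `R` -/
theorem r_inv [Finite G] {r : G} (hr : r ∈ R) (h : r * r = 1) : r = 1 ∨ r = φ c := by
  classical
  have := C.cyc
  have : Fintype R := Fintype.ofFinite _
  by_contra hne
  push Not at hne
  have hcard : (Finset.univ.filter (fun a : R => a ^ 2 = 1)).card ≤ 2 := by
    convert IsCyclic.card_pow_eq_one_le (α := R) (n := 2) (by norm_num)
  have hsub : ({(1 : R), ⟨φ c, C.z_mem E⟩, ⟨r, hr⟩} : Finset R) ⊆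
      Finset.univ.filter (fun a : R => a ^ 2 = 1) := by
    intro a ha
    rw [Finset.mem_filter]
    refine ⟨Finset.mem_univ _, ?_⟩
    simp only [Finset.mem_insert, Finset.mem_singleton] at ha
    rcases ha with ha | ha | ha
    · rw [ha, one_pow]
    · rw [ha, pow_two]
      exact Subtype.ext (C.zz E)
    · rw [ha, pow_two]
      exact Subtype.ext h
  have h3 : ({(1 : R), ⟨φ c, C.z_mem E⟩, ⟨r, hr⟩} : Finset R).card = 3 := by
    rw [Finset.card_insert_of_notMem, Finset.card_insert_of_notMem, Finset.card_singleton]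
    · rw [Finset.mem_singleton]
      intro h4
      exact hne.2 (congrArg Subtype.val h4).symm
    · rw [Finset.mem_insert, Finset.mem_singleton]
      rintro (h4 | h4)
      · exact C.z_ne E (congrArg Subtype.val h4).symm
      · exact hne.1 (congrArg Subtype.val h4).symm
  have := Finset.card_le_card hsub
  omega

/-- The involutions of `K R`. -/
theorem kr_inv [Finite G] {h : G} {w : W} (a : Ac δ φ h w) (hw : δ w = 1) (h2 : h * h = 1) :
    (∃ k : W, δ k = 1 ∧ k * k = 1 ∧ h = φ k) ∨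
      ∃ v : W, ∃ r ∈ R, δ v = 1 ∧ v * v = c ∧ r * r = φ c ∧ h = φ v * r := by
  obtain ⟨r, hr, rfl⟩ := C.exists_of_ac a hw
  have e1 : φ w * r * (φ w * r) = φ (w * w) * (r * r) := by
    rw [C.mul _ _ hw hw, mul_assoc, ← mul_assoc r, C.r_comm hr hw]
    simp only [mul_assoc]
  rw [e1] at h2
  have hww : δ (w * w) = 1 := by rw [map_mul, hw, one_mul]
  have e2 : φ (w * w) = (r * r)⁻¹ := eq_inv_of_mul_eq_one_left h2
  have e3 : φ (w * w) ∈ R := by rw [e2]; exact R.inv_mem (R.mul_mem hr hr)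
  rcases C.phi_mem_R E hww e3 with h3 | h3
  · left
    rw [h3, C.one', one_mul] at h2
    rcases C.r_inv E hr h2 with h4 | h4
    · exact ⟨w, hw, h3, by rw [h4, mul_one]⟩
    · refine ⟨w * c, by rw [map_mul, hw, E.c_det, one_mul], ?_, by rw [h4, C.mul _ _ hw E.c_det]⟩
      have : w * c * (w * c) = w * w * (c * c) := by
        rw [mul_assoc, ← mul_assoc c, E.c_comm w]
        simp only [mul_assoc]
      rw [this, h3, E.c_sq, one_mul]
  · right
    refine ⟨w, r, hr, hw, h3, ?_, rfl⟩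
    rw [h3] at h2
    rw [← inv_inj, ← eq_inv_of_mul_eq_one_left h2]
    exact (inv_eq_of_mul_eq_one_right (C.zz E)).symm

end Cfg

/-- A subgroup of "index at most two". -/
theorem card_le_two_mul {A : Type*} [Group A] [Finite A] (M M₁ : Subgroup A)
    (h : ∀ a ∈ M, a ∉ M₁ → ∀ b ∈ M, b ∉ M₁ → a * b ∈ M₁) : Nat.card M ≤ 2 * Nat.card M₁ := by
  classical
  by_cases hM : M ≤ M₁
  · have := Subgroup.card_le_of_le hM
    omega
  · rw [SetLike.not_le_iff_exists] at hM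
    obtain ⟨a, ha, ha1⟩ := hM
    have hb : ∀ b ∈ M, b ∉ M₁ → a * b ∈ M₁ := fun b hb hb1 => h a ha ha1 b hb hb1
    have : Nat.card (M₁ × Bool) = 2 * Nat.card M₁ := by
      rw [Nat.card_prod]
      simp [mul_comm]
    rw [← this]
    let F : M → M₁ × Bool := fun b =>
      if hb1 : (b : A) ∈ M₁ then (⟨b, hb1⟩, true) else (⟨a * b, hb b b.2 hb1⟩, false)
    apply Nat.card_le_card_of_injective F
    intro x y hxy
    by_cases hx : (x : A) ∈ M₁ <;> by_cases hy : (y : A) ∈ M₁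
    · simp only [F, dif_pos hx, dif_pos hy, Prod.mk.injEq, Subtype.mk.injEq, and_true] at hxy
      exact Subtype.ext hxy
    · simp only [F, dif_pos hx, dif_neg hy, Prod.mk.injEq] at hxy
      exact absurd hxy.2 (by decide)
    · simp only [F, dif_neg hx, dif_pos hy, Prod.mk.injEq] at hxy
      exact absurd hxy.2 (by decide)
    · simp only [F, dif_neg hx, dif_neg hy, Prod.mk.injEq, Subtype.mk.injEq, and_true,
        mul_right_inj] at hxy
      exact Subtype.ext hxy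

namespace Cfg

variable (C : Cfg δ c φ R) (E : EF δ c Rf)

include C

/-- The preimage in `K₀` of a subgroup. -/
def pre (M : Subgroup G) : Subgroup W where
  carrier := {k | δ k = 1 ∧ φ k ∈ M}
  one_mem' := ⟨map_one δ, by rw [C.one']; exact M.one_mem⟩
  mul_mem' {a b} ha hb := ⟨by rw [map_mul, ha.1, hb.1, one_mul], by
    rw [C.mul _ _ ha.1 hb.1]; exact M.mul_mem ha.2 hb.2⟩
  inv_mem' {a} ha := ⟨by rw [map_inv, ha.1, inv_one], by rw [C.inv' ha.1]; exact M.inv_mem ha.2⟩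

theorem mem_pre {M : Subgroup G} {k : W} : k ∈ C.pre M ↔ δ k = 1 ∧ φ k ∈ M := Iff.rfl

theorem pre_le (M : Subgroup G) : C.pre M ≤ δ.ker := fun _ h => h.1

theorem pre_el {M : Subgroup G} (hM : IsEl M) : IsEl (C.pre M) := by
  constructor
  · intro x hx
    apply C.inj _ _ (by rw [map_mul, hx.1, one_mul]) (map_one δ)
    rw [C.mul _ _ hx.1 hx.1, hM.1 _ hx.2, C.one']
  · intro x hx y hy
    apply C.inj _ _ (by rw [map_mul, hx.1, hy.1, one_mul]) (by rw [map_mul, hx.1, hy.1, one_mul])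
    rw [C.mul _ _ hx.1 hy.1, C.mul _ _ hy.1 hx.1, hM.2 _ hx.2 _ hy.2]

/-- the elements of `M` in `φ K₀` -/
def kpart (M : Subgroup G) : Subgroup G where
  carrier := {h | h ∈ M ∧ ∃ k, δ k = 1 ∧ φ k = h}
  one_mem' := ⟨M.one_mem, 1, map_one δ, C.one'⟩
  mul_mem' {a b} ha hb := ⟨M.mul_mem ha.1 hb.1, by
    obtain ⟨k, hk, rfl⟩ := ha.2
    obtain ⟨l, hl, rfl⟩ := hb.2
    exact ⟨k * l, by rw [map_mul, hk, hl, one_mul], C.mul _ _ hk hl⟩⟩
  inv_mem' {a} ha := ⟨M.inv_mem ha.1, by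
    obtain ⟨k, hk, rfl⟩ := ha.2
    exact ⟨k⁻¹, by rw [map_inv, hk, inv_one], C.inv' hk⟩⟩

theorem mem_kpart {M : Subgroup G} {h : G} : h ∈ C.kpart M ↔ h ∈ M ∧ ∃ k, δ k = 1 ∧ φ k = h := Iff.rfl

theorem kpart_le (M : Subgroup G) : C.kpart M ≤ M := fun _ h => h.1

theorem card_pre (M : Subgroup G) : Nat.card (C.pre M) = Nat.card (C.kpart M) := by
  apply Nat.card_eq_of_bijective 
    (fun k : C.pre M => (⟨φ k, k.2.2, k, k.2.1, rfl⟩ : C.kpart M))
  constructor
  · intro x y hxy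
    exact Subtype.ext (C.inj _ _ x.2.1 y.2.1 (congrArg Subtype.val hxy))
  · rintro ⟨h, hM, k, hk, rfl⟩
    exact ⟨⟨k, hk, hM⟩, rfl⟩

include E

/-- **(W3)** An elementary abelian subgroup of `K R` of order at least `2⁶` lies in `K`. -/
theorem el_in_K [Finite G] {M : Subgroup G} (hM : IsEl M)
    (hMK : ∀ h ∈ M, ∃ w, Ac δ φ h w ∧ δ w = 1) (hcard : 2 ^ 5 < Nat.card M) :
    ∀ h ∈ M, ∃ k, δ k = 1 ∧ φ k = h := by
  by_contra hcon
  push Not at hcon
  obtain ⟨h, hhM, hh⟩ := hcon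
  have key : ∀ h ∈ M, (∀ k, δ k = 1 → φ k ≠ h) →
      ∃ v : W, ∃ r ∈ R, δ v = 1 ∧ v * v = c ∧ r * r = φ c ∧ h = φ v * r := by
    intro h hhM hh
    obtain ⟨w, a, hw⟩ := hMK h hhM
    rcases C.kr_inv E a hw (hM.1 h hhM) with ⟨k, hk, -, h3⟩ | h3
    · exact absurd h3.symm (hh k hk)
    · exact h3
  obtain ⟨v, r, hr, hv, hvv, hrr, h3⟩ := key h hhM hh
  -- the part in `K` has order at most 16
  have hc1 : Nat.card (C.pre M) ≤ 2 ^ 4 := by
    apply E.cx_card v hvv _ (C.pre_le M) (C.pre_el hM)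
    intro x hx
    have h4 := hM.2 h hhM _ hx.2
    rw [h3, mul_assoc, C.r_comm hr hx.1, ← mul_assoc, ← mul_assoc, mul_left_inj] at h4
    apply C.inj _ _ (by rw [map_mul, hx.1, hv, one_mul]) (by rw [map_mul, hx.1, hv, one_mul])
    rw [C.mul _ _ hv hx.1, C.mul _ _ hx.1 hv, h4]
  rw [C.card_pre] at hc1
  have hc2 := card_le_two_mul M (C.kpart M) (by
    intro a ha ha1 b hb hb1
    refine ⟨M.mul_mem ha hb, ?_⟩
    obtain ⟨v, r, hr, hv, hvv, hrr, h3⟩ := key a ha (fun k hk h => ha1 ⟨ha, k, hk, h⟩)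
    obtain ⟨v', r', hr', hv', hvv', hrr', h3'⟩ := key b hb (fun k hk h => hb1 ⟨hb, k, hk, h⟩)
    have e1 : a * b = φ (v * v') * (r * r') := by
      rw [h3, h3', C.mul _ _ hv hv', mul_assoc, ← mul_assoc r, C.r_comm hr hv']
      simp only [mul_assoc]
    have hvv1 : δ (v * v') = 1 := by rw [map_mul, hv, hv', one_mul]
    have e2 : (r * r') * (r * r') = 1 := by
      have : (r * r') * (r * r') = (r * r) * (r' * r') := by
        rw [mul_assoc, ← mul_assoc r', C.r_ab hr' hr]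
        simp only [mul_assoc]
      rw [this, hrr, hrr', C.zz E]
    rcases C.r_inv E (R.mul_mem hr hr') e2 with h4 | h4
    · exact ⟨v * v', hvv1, by rw [e1, h4, mul_one]⟩
    · exact ⟨v * v' * c, by rw [map_mul, hvv1, E.c_det, one_mul], by
        rw [e1, h4, C.mul _ _ hvv1 E.c_det]⟩)
  omega

end Cfg

end Cfsg.Agent.OddHalf.D9.EEight

end

-- merged: Cfsg.Agent.OddHalf.D9.EEight.LemP
section

/-!
# Automizers and Lemma P
-/

set_option autoImplicit false

namespace Cfsg.Agent.OddHalf.D9.EEight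

open Subgroup

section

variable {G : Type*} [Group G] {X : Type*} [Group X]

/-- The automorphisms of `X` induced by the elements of `G`. -/
def autBy (P : X →* G) : Subgroup (MulAut X) where
  carrier := {α | ∃ g : G, ∀ x, g * P x * g⁻¹ = P (α x)}
  one_mem' := ⟨1, fun x => by simp⟩
  mul_mem' {α β} hα hβ := by
    obtain ⟨g, hg⟩ := hα
    obtain ⟨h, hh⟩ := hβ
    refine ⟨g * h, fun x => ?_⟩
    have : g * h * P x * (g * h)⁻¹ = g * (h * P x * h⁻¹) * g⁻¹ := by group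
    rw [this, hh, hg, MulAut.mul_apply]
  inv_mem' {α} hα := by
    obtain ⟨g, hg⟩ := hα
    refine ⟨g⁻¹, fun x => ?_⟩
    have h := hg (α⁻¹ x)
    rw [MulAut.apply_inv_self] at h
    rw [← h]
    group

theorem mem_autBy {P : X →* G} {α : MulAut X} :
    α ∈ autBy P ↔ ∃ g : G, ∀ x, g * P x * g⁻¹ = P (α x) := Iff.rfl

theorem exists_aut [Finite X] {P : X →* G} (hP : Function.Injective P) {g : G}
    (h : ∀ x, ∃ y, g * P x * g⁻¹ = P y) : ∃ α : MulAut X, ∀ x, g * P x * g⁻¹ = P (α x) := by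
  choose a ha using h
  let α : X →* X :=
    { toFun := a
      map_one' := by
        apply hP
        rw [← ha, map_one]
        group
      map_mul' := fun x y => by
        apply hP
        rw [← ha, map_mul, map_mul, ← ha, ← ha]
        group }
  have hinj : Function.Injective α := by
    intro x y hxy
    have h1 : P (a x) = P (a y) := congrArg P hxy
    rw [← ha, ← ha, mul_left_inj, mul_right_inj] at h1
    exact hP h1
  exact ⟨MulEquiv.ofBijective α ⟨hinj, Finite.injective_iff_surjective.1 hinj⟩, fun x => ha x⟩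

/-- **Lemma P** -/
theorem lemmaP {X' : Type*} [Group X'] {P : X →* G} {P' : X' →* G}
    (hP' : Function.Injective P') {z : G} (hz1 : z ≠ 1) (x0 : X) (hx0 : P x0 = z)
    (N : ∀ g, (∀ x, ∃ y, g * P x * g⁻¹ = P y) → g * z = z * g) (x0' : X') (hx0' : P' x0' = z)
    (fix : ∀ y, (∀ α ∈ autBy P', α y = y) → y = 1 ∨ y = x0') (g : G)
    (hg1 : ∀ x, ∃ y, g⁻¹ * P x * g = P' y) (hg2 : ∀ y, ∃ x, g * P' y * g⁻¹ = P x) :
    g⁻¹ * z * g = z := by
  obtain ⟨y, hy⟩ := hg1 x0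
  rw [hx0] at hy
  have h1 : ∀ α ∈ autBy P', α y = y := by
    rintro α ⟨n, hn⟩
    have h2 : ∀ x, ∃ y, (g * n * g⁻¹) * P x * (g * n * g⁻¹)⁻¹ = P y := by
      intro x
      obtain ⟨y1, hy1⟩ := hg1 x
      obtain ⟨x2, hx2⟩ := hg2 (α y1)
      refine ⟨x2, ?_⟩
      rw [← hx2, ← hn, ← hy1]
      group
    have h3 := N _ h2
    apply hP'
    rw [← hn, ← hy]
    have h4 : n * (g⁻¹ * z * g) * n⁻¹ = g⁻¹ * ((g * n * g⁻¹) * z) * g * n⁻¹ := by group
    rw [h4, h3]
    group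
  rcases fix y h1 with h2 | h2
  · rw [h2, map_one] at hy
    exfalso
    apply hz1
    have : z = g * (g⁻¹ * z * g) * g⁻¹ := by group
    rw [this, hy]
    group
  · rw [hy, h2, hx0']

end

variable {W : Type*} [Group W] {δ : W →* ℤˣ} {c : W} {Rf : W → Prop}
variable {G : Type*} [Group G] {φ : W → G} {R : Subgroup G}

/-- The composite of a homomorphism into `K₀` with `φ`. -/
def Cfg.hom (C : Cfg δ c φ R) {X : Type*} [Group X] (P : X →* W) (h : ∀ x, δ (P x) = 1) :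
    X →* G where
  toFun x := φ (P x)
  map_one' := by rw [map_one, C.one']
  map_mul' x y := by rw [map_mul, C.mul _ _ (h x) (h y)]

theorem Cfg.hom_apply (C : Cfg δ c φ R) {X : Type*} [Group X] (P : X →* W) (h : ∀ x, δ (P x) = 1)
    (x : X) : C.hom P h x = φ (P x) := rfl

theorem Cfg.hom_inj (C : Cfg δ c φ R) {X : Type*} [Group X] {P : X →* W} (h : ∀ x, δ (P x) = 1)
    (hP : Function.Injective P) : Function.Injective (C.hom P h) := by
  intro x y hxy
  exact hP (C.inj _ _ (h x) (h y) hxy)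

/-- the embedding of `F` -/
def Cfg.fHom (C : Cfg δ c φ R) {f : Ev →* W} (hf : IsFt δ c f) : Ev →* G := C.hom f hf.det

theorem Cfg.fHom_apply (C : Cfg δ c φ R) {f : Ev →* W} (hf : IsFt δ c f) (ε : Ev) :
    C.fHom hf ε = φ (f ε) := rfl

theorem Cfg.fHom_inj (C : Cfg δ c φ R) {f : Ev →* W} (hf : IsFt δ c f) :
    Function.Injective (C.fHom hf) := C.hom_inj hf.det hf.inj

theorem Cfg.fHom_m1 (C : Cfg δ c φ R) {f : Ev →* W} (hf : IsFt δ c f) : C.fHom hf m1 = φ c := by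
  rw [C.fHom_apply, hf.neg]

theorem IsFr.det_ev {d : Sg →* W} (hd : IsFr δ c Rf d) (ε : Ev) : δ (d ε) = 1 := by
  rw [hd.det]
  exact ε.2

/-- the embedding of `E` -/
def Cfg.eHom (C : Cfg δ c φ R) {d : Sg →* W} (hd : IsFr δ c Rf d) : Ev →* G :=
  C.hom (d.comp Ev.subtype) (fun x => hd.det_ev x)

theorem Cfg.eHom_apply (C : Cfg δ c φ R) {d : Sg →* W} (hd : IsFr δ c Rf d) (ε : Ev) :
    C.eHom hd ε = φ (d ε) := rfl

theorem Cfg.eHom_inj (C : Cfg δ c φ R) {d : Sg →* W} (hd : IsFr δ c Rf d) :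
    Function.Injective (C.eHom hd) :=
  C.hom_inj _ (hd.inj.comp Subtype.val_injective)

theorem Cfg.eHom_m1 (C : Cfg δ c φ R) {d : Sg →* W} (hd : IsFr δ c Rf d) : C.eHom hd m1 = φ c := by
  rw [C.eHom_apply, coe_m1, hd.neg]

/-- `A₈ ≤ Aut_G(F)` -/
theorem Cfg.even_mem (C : Cfg δ c φ R) {f : Ev →* W} (hf : IsFt δ c f)
    (σ : Equiv.Perm (Fin 8)) (hσ : Equiv.Perm.sign σ = 1) : (pmE σ : MulAut Ev) ∈ autBy (C.fHom hf) := by
  obtain ⟨k, hk, h⟩ := hf.sym σ hσ
  refine ⟨φ k, fun ε => ?_⟩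
  rw [C.fHom_apply, ← C.conj' hk (hf.det ε), h]
  rfl

/-- `AGL₃(2) ≤ Aut_G(E)` -/
theorem Cfg.code_mem (C : Cfg δ c φ R) {d : Sg →* W} (hd : IsFr δ c Rf d)
    (σ : Equiv.Perm (Fin 8)) (hσ : AutCode σ) : (pmE σ : MulAut Ev) ∈ autBy (C.eHom hd) := by
  obtain ⟨k, hk, h⟩ := hd.sym σ hσ
  refine ⟨φ k, fun ε => ?_⟩
  rw [C.eHom_apply, ← C.conj' hk (hd.det_ev ε), h]
  rfl

/-! ### Fixed sign vectors -/

/-- Translations of `𝔽₂³`. -/
def tr (a : Fin 8) : Equiv.Perm (Fin 8) :=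
  { toFun := fun i => ⟨Nat.xor i a % 8, Nat.mod_lt _ (by norm_num)⟩
    invFun := fun i => ⟨Nat.xor i a % 8, Nat.mod_lt _ (by norm_num)⟩
    left_inv := by revert a; decide
    right_inv := by revert a; decide }

theorem isCode_iff (ε : Sg) : IsCode ε ↔ ε 0 * ε 1 * ε 2 * ε 3 * ε 4 * ε 5 * ε 6 * ε 7 = 1 ∧
    ε 1 * ε 3 * ε 5 * ε 7 = 1 ∧ ε 2 * ε 3 * ε 6 * ε 7 = 1 ∧ ε 4 * ε 5 * ε 6 * ε 7 = 1 := by
  unfold IsCode
  rw [prd_apply, Fin.prod_univ_eight]

theorem cancel_aux {a b c : ℤˣ} (h : a = 1) (h2 : b = 1) (h3 : a = b * c) : c = 1 := by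
  rw [h, h2, one_mul] at h3
  exact h3.symm

theorem tr_code1 : AutCode (tr 1) := by
  intro ε h
  rw [isCode_iff] at h ⊢
  obtain ⟨h0, h1, h2, h3⟩ := h
  simp only [pm_apply]
  refine ⟨?_, ?_, ?_, ?_⟩
  · refine Eq.trans ?_ h0
    show ε 1 * ε 0 * ε 3 * ε 2 * ε 5 * ε 4 * ε 7 * ε 6 = _
    ac_rfl
  · show ε 0 * ε 2 * ε 4 * ε 6 = 1
    exact cancel_aux h0 h1 (by ac_rfl)
  · refine Eq.trans ?_ h2
    show ε 3 * ε 2 * ε 7 * ε 6 = _
    ac_rfl
  · refine Eq.trans ?_ h3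
    show ε 5 * ε 4 * ε 7 * ε 6 = _
    ac_rfl

theorem tr_code2 : AutCode (tr 2) := by
  intro ε h
  rw [isCode_iff] at h ⊢
  obtain ⟨h0, h1, h2, h3⟩ := h
  simp only [pm_apply]
  refine ⟨?_, ?_, ?_, ?_⟩
  · refine Eq.trans ?_ h0
    show ε 2 * ε 3 * ε 0 * ε 1 * ε 6 * ε 7 * ε 4 * ε 5 = _
    ac_rfl
  · refine Eq.trans ?_ h1
    show ε 3 * ε 1 * ε 7 * ε 5 = _
    ac_rfl
  · show ε 0 * ε 1 * ε 4 * ε 5 = 1
    exact cancel_aux h0 h2 (by ac_rfl)
  · refine Eq.trans ?_ h3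
    show ε 6 * ε 7 * ε 4 * ε 5 = _
    ac_rfl

theorem tr_code4 : AutCode (tr 4) := by
  intro ε h
  rw [isCode_iff] at h ⊢
  obtain ⟨h0, h1, h2, h3⟩ := h
  simp only [pm_apply]
  refine ⟨?_, ?_, ?_, ?_⟩
  · refine Eq.trans ?_ h0
    show ε 4 * ε 5 * ε 6 * ε 7 * ε 0 * ε 1 * ε 2 * ε 3 = _
    ac_rfl
  · refine Eq.trans ?_ h1
    show ε 5 * ε 7 * ε 1 * ε 3 = _
    ac_rfl
  · refine Eq.trans ?_ h2
    show ε 6 * ε 7 * ε 2 * ε 3 = _
    ac_rfl
  · show ε 0 * ε 1 * ε 2 * ε 3 = 1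
    exact cancel_aux h0 h3 (by ac_rfl)

theorem fixed_tr {ε : Sg} (h1 : pm (tr 1) ε = ε) (h2 : pm (tr 2) ε = ε) (h4 : pm (tr 4) ε = ε) :
    ε = 1 ∨ ε = -1 := by
  have a1 : ε 1 = ε 0 := congrFun h1 0
  have a3 : ε 3 = ε 2 := congrFun h1 2
  have a5 : ε 5 = ε 4 := congrFun h1 4
  have a7 : ε 7 = ε 6 := congrFun h1 6
  have a2 : ε 2 = ε 0 := congrFun h2 0
  have a6 : ε 6 = ε 4 := congrFun h2 4
  have a4 : ε 4 = ε 0 := congrFun h4 0
  have key : ∀ i, ε i = ε 0 := by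
    intro i
    fin_cases i
    · rfl
    · exact a1
    · exact a2
    · exact a3.trans a2
    · exact a4
    · exact a5.trans a4
    · exact a6.trans a4
    · exact (a7.trans a6).trans a4
  rcases Int.units_eq_one_or (ε 0) with h | h
  · left
    funext i
    rw [key i, h]
    rfl
  · right
    funext i
    rw [key i, h]
    rfl

theorem tr_sign (a : Fin 8) : Equiv.Perm.sign (tr a) = 1 := by
  revert a; decide

theorem Cfg.fixed_f (C : Cfg δ c φ R) {f : Ev →* W} (hf : IsFt δ c f) (y : Ev)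
    (h : ∀ α ∈ autBy (C.fHom hf), α y = y) : y = 1 ∨ y = m1 := by
  have h1 : ∀ a, pm (tr a) (y : Sg) = y := fun a =>
    congrArg Subtype.val (h _ (C.even_mem hf (tr a) (tr_sign a)))
  rcases fixed_tr (h1 1) (h1 2) (h1 4) with h2 | h2
  · left; exact Subtype.ext h2
  · right; exact Subtype.ext h2

theorem Cfg.fixed_e (C : Cfg δ c φ R) {d : Sg →* W} (hd : IsFr δ c Rf d) (y : Ev)
    (h : ∀ α ∈ autBy (C.eHom hd), α y = y) : y = 1 ∨ y = m1 := by
  rcases fixed_tr (congrArg Subtype.val (h _ (C.code_mem hd (tr 1) tr_code1)))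
    (congrArg Subtype.val (h _ (C.code_mem hd (tr 2) tr_code2)))
    (congrArg Subtype.val (h _ (C.code_mem hd (tr 4) tr_code4))) with h2 | h2
  · left; exact Subtype.ext h2
  · right; exact Subtype.ext h2

end Cfsg.Agent.OddHalf.D9.EEight

end

-- merged: Cfsg.Agent.OddHalf.D9.EEight.StepF
section

/-!
# Steps (1) and (2): the group `F`
-/

set_option autoImplicit false

namespace Cfsg.Agent.OddHalf.D9.EEight

open Subgroup Equiv

/-- The count for `F`. -/
def CountF : Prop := ∀ (A : Subgroup (MulAut Ev)), (∀ σ : Perm (Fin 8), Perm.sign σ = 1 → pmE σ ∈ A) →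
  (∀ α ∈ A, α m1 = m1 → ∀ ε : Ev, wt (α ε) = wt ε) → ∀ α ∈ A, α m1 = m1

/-- The count for `E`. -/
def CountE : Prop := ∀ (A : Subgroup (MulAut Ev)), (∀ σ : Perm (Fin 8), AutCode σ → pmE σ ∈ A) →
  (∀ α ∈ A, wt (α m1) ≠ 2 ∧ wt (α m1) ≠ 6 ∧ (IsCode (α m1) → α m1 = m1)) → ∀ α ∈ A, α m1 = m1

/-- The count for `D`. -/
def CountD : Prop := ∀ (A : Subgroup (MulAut Sg)), (∀ σ : Perm (Fin 8), AutCode σ → pm σ ∈ A) →
  (∀ α ∈ A, α (-1) = -1 → ∃ σ, AutCode σ ∧ ∀ ε ∈ Ev, α ε = pm σ ε) →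
  (∀ α ∈ A, wt (α (-1)) ≠ 2 ∧ wt (α (-1)) ≠ 6 ∧ (IsCode (α (-1)) → α (-1) = -1)) →
  ∀ α ∈ A, α (-1) = -1

variable {W : Type*} [Group W] {δ : W →* ℤˣ} {c : W} {Rf : W → Prop}
variable {G : Type*} [Group G] {φ : W → G} {R : Subgroup G}

theorem conj_eq_iff_comm {g z : G} : g * z * g⁻¹ = z ↔ g * z = z * g := by
  rw [mul_inv_eq_iff_eq_mul]

theorem card_Sg : Nat.card Sg = 2 ^ 8 := by
  rw [Nat.card_eq_fintype_card, Fintype.card_fun, Fintype.card_units_int, Fintype.card_fin]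

theorem card_Ev : Nat.card Ev = 2 ^ 7 := by
  have h := Subgroup.card_mul_index Ev
  have h2 : Ev.index = 2 := by
    unfold Ev
    rw [Subgroup.index_ker, MonoidHom.range_eq_top.2, Subgroup.card_top, Nat.card_eq_fintype_card,
      Fintype.card_units_int]
    intro a
    rcases Int.units_eq_one_or a with rfl | rfl
    · exact ⟨1, map_one _⟩
    · exact ⟨sg 0, by decide⟩
  rw [h2, card_Sg] at h
  omega

theorem ev_sq (x : Ev) : x * x = 1 := Subtype.ext (sq_one _)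

namespace Cfg

variable (C : Cfg δ c φ R) (E : EF δ c Rf)

include C

/-- `N_G(F) ≤ C_G(z)`. -/
theorem norm_F (cF : CountF) {f : Ev →* W} (hf : IsFt δ c f) (g : G)
    (h : ∀ x, ∃ y, g * C.fHom hf x * g⁻¹ = C.fHom hf y) : g * φ c = φ c * g := by
  obtain ⟨α, hα⟩ := exists_aut (C.fHom_inj hf) h
  have h1 : α m1 = m1 := by
    refine cF (autBy (C.fHom hf)) (C.even_mem hf) ?_ α ⟨g, hα⟩
    rintro β ⟨n, hn⟩ hβ ε
    have h2 := hn m1
    rw [hβ, C.fHom_m1, conj_eq_iff_comm] at h2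
    obtain ⟨w, hw⟩ := C.act n h2
    have h3 := hn ε
    rw [C.fHom_apply, C.fHom_apply, hw _ (hf.det ε)] at h3
    have h4 := C.inj _ _ (det_conj (hf.det ε)) (hf.det _) h3
    exact (hf.dist w ε (β ε) h4).symm
  have h2 := hα m1
  rw [h1, C.fHom_m1, conj_eq_iff_comm] at h2
  exact h2

include E

/-- The case where the conjugate of the elementary abelian group lies in `K R`. -/
theorem iso_of_kr [Finite G] {P : Ev →* G} (hP : Function.Injective P) {x0 : Ev} (hx0 : P x0 = φ c)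
    (N : ∀ g, (∀ x, ∃ y, g * P x * g⁻¹ = P y) → g * φ c = φ c * g) (g : G)
    (hKR : ∀ x, ∃ w, Ac δ φ (g⁻¹ * P x * g) w ∧ δ w = 1) : g⁻¹ * φ c * g = φ c := by
  let M : Subgroup G := P.range.map (MulAut.conj g⁻¹).toMonoidHom
  have hM : ∀ h, h ∈ M ↔ ∃ x, g⁻¹ * P x * g = h := by
    intro h
    constructor
    · rintro ⟨_, ⟨x, rfl⟩, rfl⟩
      exact ⟨x, by simp⟩
    · rintro ⟨x, rfl⟩
      exact ⟨P x, ⟨x, rfl⟩, by simp⟩
  have hel : IsEl M := by
    constructor
    · intro a ha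
      obtain ⟨x, rfl⟩ := (hM a).1 ha
      have : g⁻¹ * P x * g * (g⁻¹ * P x * g) = g⁻¹ * (P x * P x) * g := by group
      rw [this, ← map_mul, ev_sq, map_one]
      group
    · intro a ha b hb
      obtain ⟨x, rfl⟩ := (hM a).1 ha
      obtain ⟨y, rfl⟩ := (hM b).1 hb
      have h1 : g⁻¹ * P x * g * (g⁻¹ * P y * g) = g⁻¹ * (P x * P y) * g := by group
      have h2 : g⁻¹ * P y * g * (g⁻¹ * P x * g) = g⁻¹ * (P y * P x) * g := by group
      rw [h1, h2, ← map_mul, ← map_mul, mul_comm x y]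
  have hcard : Nat.card M = 2 ^ 7 := by
    rw [← card_Ev]
    symm
    apply Nat.card_eq_of_bijective (fun x => (⟨g⁻¹ * P x * g, (hM _).2 ⟨x, rfl⟩⟩ : M))
    constructor
    · intro x y hxy
      have h1 : g⁻¹ * P x * g = g⁻¹ * P y * g := congrArg Subtype.val hxy
      rw [mul_left_inj, mul_right_inj] at h1
      exact hP h1
    · rintro ⟨h, hh⟩
      obtain ⟨x, rfl⟩ := (hM h).1 hh
      exact ⟨x, rfl⟩
  have hMK := C.el_in_K E hel (by
    intro h hh
    obtain ⟨x, rfl⟩ := (hM h).1 hh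
    exact hKR x) (by rw [hcard]; norm_num)
  have hk : C.kpart M = M := le_antisymm (C.kpart_le M) (fun h hh => ⟨hh, hMK h hh⟩)
  have hcp : Nat.card (C.pre M) = 2 ^ 7 := by rw [C.card_pre, hk, hcard]
  -- a common way to finish
  have fin : ∀ (P' : Ev →* G), Function.Injective P' → P' m1 = φ c →
      (∀ y, (∀ α ∈ autBy P', α y = y) → y = 1 ∨ y = m1) → (∀ h, h ∈ M ↔ ∃ y, P' y = h) →
      g⁻¹ * φ c * g = φ c := by
    intro P' hP' hm fix hM'
    refine lemmaP hP' (C.z_ne E) x0 hx0 N m1 hm fix g ?_ ?_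
    · intro x
      obtain ⟨y, hy⟩ := (hM' _).1 ((hM _).2 ⟨x, rfl⟩)
      exact ⟨y, hy.symm⟩
    · intro y
      obtain ⟨x, hx⟩ := (hM _).1 ((hM' _).2 ⟨y, rfl⟩)
      refine ⟨x, ?_⟩
      rw [← hx]
      group
  have mem_M : ∀ h, h ∈ M ↔ ∃ k, k ∈ C.pre M ∧ φ k = h := by
    intro h
    constructor
    · intro hh
      obtain ⟨k, hk1, rfl⟩ := hMK h hh
      exact ⟨k, ⟨hk1, hh⟩, rfl⟩
    · rintro ⟨k, hk1, rfl⟩
      exact hk1.2
  rcases E.two_types _ (C.pre_le M) (C.pre_el hel) hcp with ⟨d, hd, hdM⟩ | ⟨f, hf, hfM⟩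
  · apply fin (C.eHom hd) (C.eHom_inj hd) (C.eHom_m1 hd) (C.fixed_e hd)
    intro h
    rw [mem_M, hdM]
    constructor
    · rintro ⟨_, ⟨ε, hε, rfl⟩, rfl⟩
      exact ⟨⟨ε, hε⟩, rfl⟩
    · rintro ⟨ε, rfl⟩
      exact ⟨_, ⟨ε, ε.2, rfl⟩, rfl⟩
  · apply fin (C.fHom hf) (C.fHom_inj hf) (C.fHom_m1 hf) (C.fixed_f hf)
    intro h
    rw [mem_M, hfM]
    constructor
    · rintro ⟨_, ⟨ε, rfl⟩, rfl⟩
      exact ⟨ε, rfl⟩
    · rintro ⟨ε, rfl⟩
      exact ⟨_, ⟨ε, rfl⟩, rfl⟩

end Cfg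

end Cfsg.Agent.OddHalf.D9.EEight

end

-- merged: Cfsg.Agent.OddHalf.D9.EEight.AutB
section

/-!
# Automorphisms of `K₀` and frames
-/

set_option autoImplicit false

namespace Cfsg.Agent.OddHalf.D9.EEight

open Equiv Subgroup Counts

/-- `cls` is invariant under the code group -/
theorem autCode_inv {σ : Perm (Fin 8)} (h : AutCode σ) : AutCode σ⁻¹ := by
  have hpow : ∀ n : ℕ, AutCode (σ ^ n) := by
    intro n
    induction n with
    | zero => exact fun ε hε => hε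
    | succ n ih =>
      intro ε hε
      rw [pow_succ, pm_mul]
      exact h _ (ih _ hε)
  have h1 : σ⁻¹ = σ ^ (orderOf σ - 1) := by
    rw [inv_eq_iff_mul_eq_one, ← pow_succ']
    have : orderOf σ - 1 + 1 = orderOf σ := Nat.sub_add_cancel (orderOf_pos σ)
    rw [this, pow_orderOf_eq_one]
  rw [h1]
  exact hpow _

theorem wt_pm (σ : Perm (Fin 8)) (ε : Sg) : wt (pm σ ε) = wt ε := by
  unfold wt
  apply Finset.card_bij (fun i _ => σ i)
  · intro i hi
    rw [Finset.mem_filter] at hi ⊢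
    exact ⟨Finset.mem_univ _, hi.2⟩
  · intro i _ j _ hij
    exact σ.injective hij
  · intro i hi
    rw [Finset.mem_filter] at hi
    refine ⟨σ⁻¹ i, ?_, σ.apply_symm_apply i⟩
    rw [Finset.mem_filter, pm_apply]
    refine ⟨Finset.mem_univ _, ?_⟩
    have : σ (σ⁻¹ i) = i := σ.apply_symm_apply i
    rw [this]
    exact hi.2

theorem cls_pm {σ : Perm (Fin 8)} (h : AutCode σ) (ε : Sg) : cls (pm σ ε) = cls ε := by
  unfold cls
  rw [wt_pm]
  have : IsCode (pm σ ε) ↔ IsCode ε := by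
    constructor
    · intro h1
      have h2 := autCode_inv h _ h1
      rwa [pm_inv_pm] at h2
    · exact h ε
  simp only [this]

/-- an injective map between sign vectors and sizes of classes -/
theorem card_le_of_map {p q : Sg → Prop} [DecidablePred p] [DecidablePred q] (f : Sg → Sg)
    (hf : ∀ x, p x → q (f x)) (hinj : ∀ x y, p x → p y → f x = f y → x = y) :
    (Finset.univ.filter p).card ≤ (Finset.univ.filter q).card := by
  apply Finset.card_le_card_of_injOn f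
  · intro x hx
    rw [Finset.mem_coe, Finset.mem_filter] at hx ⊢
    exact ⟨Finset.mem_univ _, hf x hx.2⟩
  · intro x hx y hy hxy
    rw [Finset.mem_coe, Finset.mem_filter] at hx hy
    exact hinj x y hx.2 hy.2 hxy

theorem cls_mem_Ev : ∀ x : Sg, cls x = 2 ∨ cls x = 4 ∨ cls x = 9 → x ∈ Ev := by decide +kernel

theorem cls_two_wt : ∀ x : Sg, cls x = 2 ↔ wt x = 2 := by decide +kernel

theorem cls_six_neg : ∀ x : Sg, cls x = 6 → cls (-x) = 2 := by decide +kernel

theorem isCode_cls : ∀ x : Sg, IsCode x → x = 1 ∨ x = -1 ∨ cls x = 9 := by decide +kernel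

theorem cls_nine : ∀ x : Sg, cls x = 9 → IsCode x ∧ wt x = 4 := by decide +kernel

theorem cls_four_wt : ∀ x : Sg, wt x = 4 → cls x = 4 ∨ cls x = 9 := by decide +kernel

section

variable (β : MulAut Ev)
  (H : ∀ σ : Perm (Fin 8), AutCode σ → ∃ τ : Perm (Fin 8), AutCode τ ∧ ∀ x : Ev, β (pmE σ x) = pmE τ (β x))

include H

theorem cls_map {x y : Ev} (h : cls (x : Sg) = cls (y : Sg)) :
    cls (β x : Sg) = cls (β y : Sg) := by
  obtain ⟨σ, hσ, -, hxy⟩ := cls_trans h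
  obtain ⟨τ, hτ, hβ⟩ := H σ (autCode_of_aff hσ)
  have h1 : pmE σ x = y := Subtype.ext hxy
  rw [← h1, hβ, coe_pmE, cls_pm hτ]

omit H in
/-- the map on sign vectors -/
noncomputable def ext (x : Sg) : Sg := by
  classical
  exact if h : x ∈ Ev then (β ⟨x, h⟩ : Sg) else x

omit H in
theorem ext_eq {x : Sg} (h : x ∈ Ev) : ext β x = (β ⟨x, h⟩ : Sg) := by
  unfold ext
  rw [dif_pos h]

omit H in
theorem ext_inj {x y : Sg} (hx : x ∈ Ev) (hy : y ∈ Ev) (h : ext β x = ext β y) : x = y := by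
  rw [ext_eq β hx, ext_eq β hy] at h
  exact congrArg Subtype.val (β.injective (Subtype.ext h))

theorem cls_size {x : Ev} {j k : ℕ} (hj : j = 2 ∨ j = 4 ∨ j = 9) (hx : cls (x : Sg) = j)
    (hk : cls (β x : Sg) = k) :
    (Finset.univ.filter (fun e : Sg => cls e = j)).card ≤
      (Finset.univ.filter (fun e : Sg => cls e = k)).card := by
  have hEv : ∀ y : Sg, cls y = j → y ∈ Ev := by
    intro y hy
    apply cls_mem_Ev
    rw [hy]
    exact hj
  apply card_le_of_map (ext β)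
  · intro y hy
    rw [ext_eq β (hEv y hy), ← hk]
    exact cls_map β H (hy.trans hx.symm)
  · intro y z hy hz hyz
    exact ext_inj β (hEv y hy) (hEv z hz) hyz

/-- class `4` -/
theorem cls_four {x : Ev} (hx : cls (x : Sg) = 4) : cls (β x : Sg) = 4 := by
  have h1 := cls_size β H (Or.inr (Or.inl rfl)) hx rfl
  have h2 := cls_even _ (β x).2
  have h3 := cls_lt (β x : Sg)
  generalize cls (β x : Sg) = k at h1 h2 h3
  rw [card_cls 4 (by norm_num), card_cls k h3] at h1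
  interval_cases k <;> first | rfl | omega | (exfalso; revert h1; decide)

theorem cls_four_iff {x : Ev} : cls (β x : Sg) = 4 ↔ cls (x : Sg) = 4 := by
  refine ⟨fun h => ?_, cls_four β H⟩
  -- surjectivity on the class
  let S : Finset Ev := Finset.univ.filter (fun e : Ev => cls (e : Sg) = 4)
  have hmaps : ∀ e ∈ S, β e ∈ S := by
    intro e he
    rw [Finset.mem_filter] at he ⊢
    exact ⟨Finset.mem_univ _, cls_four β H he.2⟩
  have himg : S.image β = S := by
    apply Finset.eq_of_subset_of_card_le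
    · intro y hy
      rw [Finset.mem_image] at hy
      obtain ⟨e, he, rfl⟩ := hy
      exact hmaps e he
    · rw [Finset.card_image_of_injective _ β.injective]
  have h1 : β x ∈ S.image β := by
    rw [himg, Finset.mem_filter]
    exact ⟨Finset.mem_univ _, h⟩
  obtain ⟨e, he, hex⟩ := Finset.mem_image.1 h1
  rw [← β.injective hex]
  exact (Finset.mem_filter.1 he).2

theorem cls_two {x : Ev} (hx : cls (x : Sg) = 2) : cls (β x : Sg) = 2 := by
  have h1 := cls_size β H (Or.inl rfl) hx rfl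
  have h2 := cls_even _ (β x).2
  have h3 := cls_lt (β x : Sg)
  have h4 : cls (β x : Sg) ≠ 4 := by
    intro h
    rw [cls_four_iff β H, hx] at h
    omega
  have h26 : cls (β x : Sg) = 2 ∨ cls (β x : Sg) = 6 := by
    generalize cls (β x : Sg) = k at h1 h2 h3 h4
    rw [card_cls 2 (by norm_num), card_cls k h3] at h1
    interval_cases k <;> first | omega | (exfalso; revert h1; decide)
  rcases h26 with h | h
  · exact h
  · exfalso
    have key : ∀ i j : Fin 8, i ≠ j → cls ((β ⟨pr i j, pr_mem i j⟩ : Ev) : Sg) = 6 := by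
      intro i j hij
      rw [← h]
      apply cls_map β H
      rw [hx, cls_two_wt]
      exact pr_wt i j hij
    have k1 := cls_six_neg _ (key 0 1 (by decide))
    have k2 := cls_six_neg _ (key 0 2 (by decide))
    have k3 := key 1 2 (by decide)
    have e : (⟨pr 1 2, pr_mem 1 2⟩ : Ev) = ⟨pr 0 1, pr_mem 0 1⟩ * ⟨pr 0 2, pr_mem 0 2⟩ :=
      Subtype.ext (pr_mul 1 2).symm
    rw [e, map_mul, Subgroup.coe_mul, ← neg_mul_neg] at k3
    generalize (-((β ⟨pr 0 1, pr_mem 0 1⟩ : Ev) : Sg)) = p at k1 k3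
    generalize (-((β ⟨pr 0 2, pr_mem 0 2⟩ : Ev) : Sg)) = q at k2 k3
    have hw : wt (p * q) ≤ 4 := by
      rw [← card_sp, sp_mul]
      have e1 : (symmDiff (sp p) (sp q)).card ≤ (sp p).card + (sp q).card := by
        rw [symmDiff_def, Finset.sup_eq_union]
        refine (Finset.card_union_le _ _).trans ?_
        exact Nat.add_le_add (Finset.card_le_card Finset.sdiff_subset)
          (Finset.card_le_card Finset.sdiff_subset)
      rw [card_sp, card_sp, (cls_two_wt p).1 k1, (cls_two_wt q).1 k2] at e1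
      exact e1
    unfold cls at k3
    split_ifs at k3 <;> omega

/-- **An automorphism of `Ev` compatible with the code group is in the code group.** -/
theorem exists_code_perm : ∃ π : Perm (Fin 8), AutCode π ∧ ∀ ε : Ev, (β ε : Sg) = pm π ε := by
  obtain ⟨π, hπ⟩ := exists_perm_of_pairs β (fun ε hε => by
    rw [← cls_two_wt] at hε ⊢
    exact cls_two β H hε)
  refine ⟨π, fun ε hε => ?_, hπ⟩
  rcases isCode_cls ε hε with rfl | rfl | h
  · exact hε
  · exact hε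
  · have hEv := cls_mem_Ev ε (Or.inr (Or.inr h))
    have h1 := hπ ⟨ε, hEv⟩
    have h2 : wt (pm π ε) = 4 := by rw [wt_pm]; exact (cls_nine ε h).2
    rcases cls_four_wt _ h2 with h3 | h3
    · exfalso
      have h4 : cls ((β ⟨ε, hEv⟩ : Ev) : Sg) = 4 := by rw [h1]; exact h3
      rw [cls_four_iff β H] at h4
      have h5 : cls ε = 4 := h4
      rw [h] at h5
      omega
    · exact (cls_nine _ h3).1

end

end Cfsg.Agent.OddHalf.D9.EEight

end

-- merged: Cfsg.Agent.OddHalf.D9.EEight.StepOut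
section

/-!
# Step (2)(ii): a conjugate of `F` not contained in `K R`
-/

set_option autoImplicit false

namespace Cfsg.Agent.OddHalf.D9.EEight

open Subgroup Equiv

variable {W : Type*} [Group W] {δ : W →* ℤˣ} {c : W} {Rf : W → Prop}
variable {G : Type*} [Group G] {φ : W → G} {R : Subgroup G}

/-- A conjugate `Q` of `F` in `C_G(z)`, `z = Q u`. -/
structure Dat (δ : W →* ℤˣ) (c : W) (φ : W → G) (Q : Ev →* G) (u : Ev) : Prop where
  inj : Function.Injective Q
  z : Q u = φ c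
  act : ∀ x, ∃ w, Ac δ φ (Q x) w
  sym : ∀ σ : Perm (Fin 8), Perm.sign σ = 1 → pm σ u = u →
    ∃ n v, Ac δ φ n v ∧ ∀ x, n * Q x * n⁻¹ = Q (pmE σ x)

namespace Dat

variable {Q : Ev →* G} {u : Ev} (D : Dat δ c φ Q u) (C : Cfg δ c φ R) (E : EF δ c Rf)

/-- the elements of `W` by which `Q` acts -/
def til (δ : W →* ℤˣ) (φ : W → G) (Q : Ev →* G) : Subgroup W where
  carrier := {w | ∃ x, Ac δ φ (Q x) w}
  one_mem' := ⟨1, by rw [map_one]; exact Ac.one⟩
  mul_mem' := by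
    rintro a b ⟨x, hx⟩ ⟨y, hy⟩
    exact ⟨x * y, by rw [map_mul]; exact hx.mul hy⟩
  inv_mem' := by
    rintro a ⟨x, hx⟩
    exact ⟨x⁻¹, by rw [map_inv]; exact hx.inv⟩

/-- the graph -/
def gr (δ : W →* ℤˣ) (φ : W → G) (Q : Ev →* G) : Subgroup (W × Ev) where
  carrier := {p | Ac δ φ (Q p.2) p.1}
  one_mem' := by
    show Ac δ φ (Q 1) 1
    rw [map_one]
    exact Ac.one
  mul_mem' := by
    intro a b ha hb
    show Ac δ φ (Q (a.2 * b.2)) (a.1 * b.1)
    rw [map_mul]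
    exact Ac.mul ha hb
  inv_mem' := by
    intro a ha
    show Ac δ φ (Q (a.2⁻¹)) a.1⁻¹
    rw [map_inv]
    exact Ac.inv ha

include D C E

theorem coset [Finite G] {x y : Ev} {ρ : W} (hx : Ac δ φ (Q x) ρ) (hy : Ac δ φ (Q y) ρ) :
    x = y ∨ x = u * y := by
  have h1 := hx.mul hy.inv
  rw [mul_inv_cancel, C.ac_one_iff, ← map_inv, ← map_mul] at h1
  have h2 : Q (x * y⁻¹) * Q (x * y⁻¹) = 1 := by rw [← map_mul, ev_sq, map_one]
  rcases C.r_inv E h1 h2 with h3 | h3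
  · left
    rw [← map_one Q] at h3
    exact mul_inv_eq_one.1 (D.inj h3)
  · right
    rw [← D.z] at h3
    exact mul_inv_eq_iff_eq_mul.1 (D.inj h3)

theorem card_til [Finite G] : Nat.card (til δ φ Q) = 2 ^ 7 := by
  let π₁ : gr δ φ Q →* W := (MonoidHom.fst W Ev).comp (gr δ φ Q).subtype
  let π₂ : gr δ φ Q →* Ev := (MonoidHom.snd W Ev).comp (gr δ φ Q).subtype
  have r1 : π₁.range = til δ φ Q := by
    ext w
    constructor
    · rintro ⟨p, rfl⟩
      exact ⟨_, p.2⟩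
    · rintro ⟨x, hx⟩
      exact ⟨⟨(w, x), hx⟩, rfl⟩
  have r2 : π₂.range = ⊤ := by
    rw [MonoidHom.range_eq_top]
    intro x
    obtain ⟨w, hw⟩ := D.act x
    exact ⟨⟨(w, x), hw⟩, rfl⟩
  have hR : ∀ x, Ac δ φ (Q x) 1 → x = 1 ∨ x = u := by
    intro x hx
    have := D.coset C E hx (y := 1) (by rw [map_one]; exact Ac.one)
    rwa [mul_one] at this
  have hu1 : Ac δ φ (Q u) 1 := by
    rw [C.ac_one_iff, D.z]
    exact C.z_mem E
  have hne : (1 : Ev) ≠ u := by
    rintro rfl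
    have := D.z
    rw [map_one] at this
    exact C.z_ne E this.symm
  have k1 : Nat.card π₁.ker = 2 := by
    rw [Nat.card_eq_two_iff]
    refine ⟨1, ⟨⟨(1, u), hu1⟩, rfl⟩, ?_, ?_⟩
    · intro h
      have h' := congrArg (fun p : π₁.ker => (p : gr δ φ Q).1.2) h
      exact hne h'
    · rw [Set.eq_univ_iff_forall]
      rintro ⟨⟨⟨w, x⟩, hwx⟩, hk⟩
      have hw : w = 1 := hk
      subst hw
      rcases hR x hwx with rfl | rfl
      · left; rfl
      · right; rfl
  have hc1 : Ac δ φ (Q 1) c := by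
    rw [C.ac_c_iff E, map_one]
    exact R.one_mem
  have k2 : Nat.card π₂.ker = 2 := by
    rw [Nat.card_eq_two_iff]
    refine ⟨1, ⟨⟨(c, 1), hc1⟩, rfl⟩, ?_, ?_⟩
    · intro h
      have h' := congrArg (fun p : π₂.ker => (p : gr δ φ Q).1.1) h
      exact E.c_ne h'.symm
    · rw [Set.eq_univ_iff_forall]
      rintro ⟨⟨⟨w, x⟩, hwx⟩, hk⟩
      have hw : x = 1 := hk
      subst hw
      have h1 : Ac δ φ (1 : G) w := by
        have := hwx
        change Ac δ φ (Q 1) w at this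
        rwa [map_one] at this
      rcases C.ac_uniq E Ac.one h1 with rfl | rfl
      · left; rfl
      · right
        apply Subtype.ext
        apply Subtype.ext
        exact Prod.ext (mul_one c) rfl
  have c1 := Subgroup.card_mul_index π₁.ker
  have c2 := Subgroup.card_mul_index π₂.ker
  rw [Subgroup.index_ker, k1, r1] at c1
  rw [Subgroup.index_ker, k2, r2, Subgroup.card_top, card_Ev] at c2
  omega

/-- The elements of `til` of determinant one. -/
theorem til_det_one [Finite G] {w : W} (hw : w ∈ til δ φ Q) (h1 : δ w = 1) :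
    w * w = 1 ∧ ∃ k, δ k = 1 ∧ φ k ∈ Q.range ∧ (w = k ∨ w = c * k) := by
  let M₁ : Subgroup G :=
    { carrier := {h | h ∈ Q.range ∧ ∃ w, Ac δ φ h w ∧ δ w = 1}
      one_mem' := ⟨Q.range.one_mem, 1, Ac.one, map_one δ⟩
      mul_mem' := by
        rintro a b ⟨ha, v, hv, hv1⟩ ⟨hb, w, hw, hw1⟩
        exact ⟨Q.range.mul_mem ha hb, v * w, hv.mul hw, by rw [map_mul, hv1, hw1, one_mul]⟩
      inv_mem' := by
        rintro a ⟨ha, v, hv, hv1⟩
        exact ⟨Q.range.inv_mem ha, v⁻¹, hv.inv, by rw [map_inv, hv1, inv_one]⟩ }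
  have hel : IsEl M₁ := by
    constructor
    · rintro _ ⟨⟨x, rfl⟩, -⟩
      rw [← map_mul, ev_sq, map_one]
    · rintro _ ⟨⟨x, rfl⟩, -⟩ _ ⟨⟨y, rfl⟩, -⟩
      rw [← map_mul, ← map_mul, mul_comm]
  have hQ : Nat.card Q.range = 2 ^ 7 := by
    rw [← card_Ev]
    exact (Nat.card_congr (MonoidHom.ofInjective D.inj).toEquiv).symm
  have hcard := card_le_two_mul Q.range M₁ (by
    intro a ha ha1 b hb hb1
    refine ⟨Q.range.mul_mem ha hb, ?_⟩
    obtain ⟨x, rfl⟩ := ha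
    obtain ⟨y, rfl⟩ := hb
    obtain ⟨v, hv⟩ := D.act x
    obtain ⟨w, hw⟩ := D.act y
    have h1 : δ v = -1 := by
      rcases Int.units_eq_one_or (δ v) with h | h
      · exact absurd ⟨⟨x, rfl⟩, v, hv, h⟩ ha1
      · exact h
    have h2 : δ w = -1 := by
      rcases Int.units_eq_one_or (δ w) with h | h
      · exact absurd ⟨⟨y, rfl⟩, w, hw, h⟩ hb1
      · exact h
    refine ⟨v * w, hv.mul hw, ?_⟩
    rw [map_mul, h1, h2]
    decide)
  have key := C.el_in_K E hel (fun h hh => hh.2) (by omega)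
  obtain ⟨x, hx⟩ := hw
  have hmem : Q x ∈ M₁ := ⟨⟨x, rfl⟩, w, hx, h1⟩
  obtain ⟨k, hk, hkx⟩ := key _ hmem
  have h2 : k * k = 1 := by
    apply C.inj _ _ (by rw [map_mul, hk, one_mul]) (map_one δ)
    rw [C.mul _ _ hk hk, hkx, ← map_mul, ev_sq, map_one, C.one']
  have h3 : Ac δ φ (Q x) k := by
    rw [← hkx]
    exact C.ac_phi hk
  have h4 := C.ac_uniq E h3 hx
  refine ⟨?_, k, hk, by rw [hkx]; exact ⟨x, rfl⟩, h4⟩
  rcases h4 with h4 | h4
  · rw [h4, h2]
  · have : c * k * (c * k) = c * c * (k * k) := by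
      rw [mul_assoc, ← mul_assoc k, ← E.c_comm k]
      simp only [mul_assoc]
    rw [h4, this, h2, E.c_sq, one_mul]

theorem til_el [Finite G] : IsEl (til δ φ Q) := by
  constructor
  · intro w hw
    rcases Int.units_eq_one_or (δ w) with h | h
    · exact (D.til_det_one C E hw h).1
    · obtain ⟨x, hx⟩ := hw
      have h1 := hx.mul hx
      rw [← map_mul, ev_sq, map_one] at h1
      rcases C.ac_uniq E Ac.one h1 with h2 | h2
      · exact h2
      · rw [mul_one] at h2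
        exact absurd rfl (E.cx_out w w h2 h).1
  · have key : ∀ v ∈ til δ φ Q, δ v = 1 → ∀ w ∈ til δ φ Q, v * w = w * v := by
      intro v hv hv1 w hw
      obtain ⟨-, k, hk, ⟨x, hx⟩, hkv⟩ := D.til_det_one C E hv hv1
      obtain ⟨y, hy⟩ := hw
      have h1 := hy k hk
      rw [← hx, ← map_mul, mul_comm y x, map_mul, mul_inv_cancel_right, hx] at h1
      have h2 := C.inj _ _ hk (det_conj hk) h1
      have h3 : k * w = w * k := by
        conv_lhs => rw [h2]
        group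
      rcases hkv with h | h
      · rw [h, h3]
      · rw [h, mul_assoc, h3, ← mul_assoc, E.c_comm w, mul_assoc]
    intro v hv w hw
    rcases Int.units_eq_one_or (δ v) with h | h
    · exact key v hv h w hw
    · rcases Int.units_eq_one_or (δ w) with h' | h'
      · exact (key w hw h' v hv).symm
      · have h1 := key (v * w) ((til δ φ Q).mul_mem hv hw)
          (by rw [map_mul, h, h']; decide) w hw
        rw [← mul_assoc, mul_left_inj] at h1
        exact h1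

theorem c_mem : c ∈ til δ φ Q := ⟨u, by
  rw [D.z]
  exact C.ac_phi E.c_det⟩

/-- The commutator subgroup condition. -/
theorem hasComm : ∃ T : Subgroup Sg, HasComm T u ∧
    ∀ x : Ev, (x : Sg) ∈ T → ∃ w, Ac δ φ (Q x) w ∧ δ w = 1 := by
  refine ⟨{ carrier := {x | ∃ hx : x ∈ Ev, ∃ w, Ac δ φ (Q ⟨x, hx⟩) w ∧ δ w = 1}
            one_mem' := ⟨Ev.one_mem, 1, ?_, map_one δ⟩
            mul_mem' := ?_
            inv_mem' := ?_ }, ⟨?_, ?_⟩, ?_⟩
  · rintro a b ⟨ha, v, hv, hv1⟩ ⟨hb, w, hw, hw1⟩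
    refine ⟨Ev.mul_mem ha hb, v * w, ?_, by rw [map_mul, hv1, hw1, one_mul]⟩
    have : (⟨a * b, Ev.mul_mem ha hb⟩ : Ev) = ⟨a, ha⟩ * ⟨b, hb⟩ := rfl
    rw [this, map_mul]
    exact hv.mul hw
  · have : (⟨1, Ev.one_mem⟩ : Ev) = 1 := rfl
    rw [this, map_one]
    exact Ac.one
  · rintro a ⟨ha, v, hv, hv1⟩
    refine ⟨Ev.inv_mem ha, v⁻¹, ?_, by rw [map_inv, hv1, inv_one]⟩
    have : (⟨a⁻¹, Ev.inv_mem ha⟩ : Ev) = ⟨a, ha⟩⁻¹ := rfl
    rw [this, map_inv]
    exact hv.inv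
  · refine ⟨u.2, c, ?_, E.c_det⟩
    have : (⟨(u : Sg), u.2⟩ : Ev) = u := rfl
    rw [this, D.z]
    exact C.ac_phi E.c_det
  · intro x hx σ hσ hu
    obtain ⟨n, v, hnv, hn⟩ := D.sym σ hσ hu
    obtain ⟨w, hw⟩ := D.act ⟨x, hx⟩
    have hσx : pm σ x ∈ Ev := (pmE σ ⟨x, hx⟩).2
    refine ⟨Ev.mul_mem hx hσx, w * (v * w * v⁻¹), ?_, ?_⟩
    · have : (⟨x * pm σ x, Ev.mul_mem hx hσx⟩ : Ev) = ⟨x, hx⟩ * pmE σ ⟨x, hx⟩ := rfl
      rw [this, map_mul, ← hn]
      exact hw.mul ((hnv.mul hw).mul hnv.inv)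
    · rw [map_mul, map_mul, map_mul, map_inv, mul_comm (δ v), mul_inv_cancel_right]
      exact Int.units_mul_self _
  · rintro x ⟨hx, w, hw, hw1⟩
    exact ⟨w, hw, hw1⟩

/-- **The contradiction** -/
theorem false_of_out [Finite G] (hstd : (u : Sg) = u2 ∨ (u : Sg) = u6 ∨ (u : Sg) = u4)
    (hout : ∃ x w, Ac δ φ (Q x) w ∧ δ w ≠ 1) : False := by
  obtain ⟨x1, w1, hw1, hδ1⟩ := hout
  obtain ⟨⟨ρ, ⟨e, he⟩, hρ⟩, hX⟩ := E.out_refl (til δ φ Q) (D.til_el C E) (D.card_til C E)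
    (D.c_mem C E) (fun h => hδ1 (h ⟨x1, hw1⟩))
  obtain ⟨T, hT, hTe⟩ := D.hasComm C E
  have heT : (e : Sg) ∉ T := by
    intro h
    obtain ⟨w, hw, hw1⟩ := hTe e h
    have := C.ac_det E he hw
    rw [E.rf_det ρ hρ, hw1] at this
    exact absurd this (by decide)
  have main : ∀ u' : Sg, (u : Sg) = u' → (u' = u2 ∨ u' = u6) → False := by
    intro u' huu' hu'
    rw [huu'] at hT
    have h67 : (e : Sg) 6 ≠ (e : Sg) 7 := fun h => heT (claimA hu' hT e.2 h)
    obtain ⟨σ, hσ, hσu, hσ5, hσe, hσe'⟩ := five hu' e.2 h67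
    rw [← huu'] at hσu
    obtain ⟨n, v, hnv, hn⟩ := D.sym σ hσ hσu
    have hpow : ∀ j : ℕ, ∀ x, n ^ j * Q x * (n ^ j)⁻¹ = Q (pmE (σ ^ j) x) := by
      intro j
      induction j with
      | zero =>
        intro x
        rw [pow_zero, pow_zero, one_mul, inv_one, mul_one]
        rfl
      | succ j ih =>
        intro x
        have e1 : n ^ (j + 1) * Q x * (n ^ (j + 1))⁻¹ = n * (n ^ j * Q x * (n ^ j)⁻¹) * n⁻¹ := by
          rw [pow_succ']
          group
        rw [e1, ih, hn]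
        congr 1
    have hmem : ∀ j : ℕ, v ^ j * ρ * (v ^ j)⁻¹ ∈ til δ φ Q := by
      intro j
      refine ⟨pmE (σ ^ j) e, ?_⟩
      rw [← hpow]
      exact ((hnv.pow j).mul he).mul (hnv.pow j).inv
    have h5 : v ^ 5 * ρ * (v ^ 5)⁻¹ = ρ := by
      have h1 : Ac δ φ (Q e) (v ^ 5 * ρ * (v ^ 5)⁻¹) := by
        have h2 := ((hnv.pow 5).mul he).mul (hnv.pow 5).inv
        rw [hpow, hσ5] at h2
        exact h2
      rcases C.ac_uniq E he h1 with h2 | h2
      · exact h2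
      · exact absurd (h2 ▸ E.rf_conj ρ (v ^ 5) hρ) (E.rf_neg ρ hρ)
    have h6 : v * ρ = ρ * v := E.rf_five ρ v hρ
      (fun j => (D.til_el C E).2 _ (hmem j) _ ⟨e, he⟩) (mul_inv_eq_iff_eq_mul.1 h5)
    have h7 : Ac δ φ (Q (pmE σ e)) ρ := by
      have h8 := (hnv.mul he).mul hnv.inv
      rw [hn, mul_inv_eq_iff_eq_mul.2 h6] at h8
      exact h8
    rcases D.coset C E h7 he with h8 | h8
    · exact hσe (congrArg Subtype.val h8)
    · apply hσe'
      rw [← huu']
      exact congrArg Subtype.val h8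
  rcases hstd with h | h | h
  · exact main _ h (Or.inl rfl)
  · exact main _ h (Or.inr rfl)
  · rw [h] at hT
    have h4 : (e : Sg) 0 * (e : Sg) 1 * (e : Sg) 2 * (e : Sg) 3 = -1 := by
      rcases Int.units_eq_one_or ((e : Sg) 0 * (e : Sg) 1 * (e : Sg) 2 * (e : Sg) 3) with h4 | h4
      · exact absurd (claimB hT e.2 h4) heT
      · exact h4
    have hch : ∀ p : Fin 4 × Fin 4, ∃ τ : {τ | τ ∈ til δ φ Q ∧ Rf τ},
        Ac δ φ (Q (pmE (vv p) e)) τ := by
      intro p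
      obtain ⟨n, v, hnv, hn⟩ := D.sym (vv p) (vv_sign p) (by rw [h]; exact vv_u4 p)
      have h1 := (hnv.mul he).mul hnv.inv
      rw [hn] at h1
      exact ⟨⟨_, ⟨_, h1⟩, E.rf_conj ρ v hρ⟩, h1⟩
    choose τ hτ using hch
    have hinj : Function.Injective τ := by
      intro p q hpq
      have h1 := hτ p
      rw [hpq] at h1
      rcases D.coset C E h1 (hτ q) with h2 | h2
      · exact spec_vv e.2 h4 (Or.inl (congrArg Subtype.val h2))
      · refine spec_vv e.2 h4 (Or.inr ?_)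
        rw [← h]
        exact congrArg Subtype.val h2
    have hfin : Finite (til δ φ Q) := Nat.finite_of_card_ne_zero (by rw [D.card_til C E]; norm_num)
    have hfin2 : Finite {τ | τ ∈ til δ φ Q ∧ Rf τ} :=
      Finite.of_injective (fun τ : {τ | τ ∈ til δ φ Q ∧ Rf τ} => (⟨τ, τ.2.1⟩ : til δ φ Q))
        (fun a b hab => Subtype.ext (congrArg (fun z : til δ φ Q => (z : W)) hab))
    have h5 := Nat.card_le_card_of_injective τ hinj
    rw [Nat.card_prod, Nat.card_eq_fintype_card, Fintype.card_fin] at h5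
    have h6 : Nat.card {τ | τ ∈ til δ φ Q ∧ Rf τ} ≤ 7 := hX
    omega

end Dat

end Cfsg.Agent.OddHalf.D9.EEight

end

-- merged: Cfsg.Agent.OddHalf.D9.EEight.StepTwo
section

/-!
# Step (2): `z` is the only conjugate of `z` in `F`
-/

set_option autoImplicit false

namespace Cfsg.Agent.OddHalf.D9.EEight

open Subgroup Equiv

variable {W : Type*} [Group W] {δ : W →* ℤˣ} {c : W} {Rf : W → Prop}
variable {G : Type*} [Group G] {φ : W → G} {R : Subgroup G}

/-- The conjugate of a homomorphism. -/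
def conjHom {X : Type*} [Group X] (P : X →* G) (g : G) : X →* G where
  toFun x := g⁻¹ * P x * g
  map_one' := by rw [map_one]; group
  map_mul' x y := by rw [map_mul]; group

theorem conjHom_apply {X : Type*} [Group X] (P : X →* G) (g : G) (x : X) :
    conjHom P g x = g⁻¹ * P x * g := rfl

theorem conjHom_inj {X : Type*} [Group X] {P : X →* G} (hP : Function.Injective P) (g : G) :
    Function.Injective (conjHom P g) := by
  intro x y hxy
  rw [conjHom_apply, conjHom_apply, mul_left_inj, mul_right_inj] at hxy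
  exact hP hxy

namespace Cfg

variable (C : Cfg δ c φ R) (E : EF δ c Rf)

include C E

theorem iso_F_std [Finite G] (cF : CountF) {f : Ev →* W} (hf : IsFt δ c f) (g : G) (u : Ev)
    (hu : g * φ c * g⁻¹ = φ (f u)) (hstd : (u : Sg) = u2 ∨ (u : Sg) = u6 ∨ (u : Sg) = u4) :
    False := by
  have hz : g⁻¹ * φ (f u) * g = φ c := by rw [← hu]; group
  by_cases hKR : ∀ x, ∃ w, Ac δ φ (g⁻¹ * C.fHom hf x * g) w ∧ δ w = 1
  · have h1 := C.iso_of_kr E (C.fHom_inj hf) (C.fHom_m1 hf) (C.norm_F cF hf) g hKR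
    have h2 : g * φ c * g⁻¹ = φ c := by
      conv_lhs => rw [← h1]
      group
    rw [hu, ← hf.neg] at h2
    have h3 := hf.inj (C.inj _ _ (hf.det _) (hf.det _) h2)
    rw [h3, coe_m1] at hstd
    revert hstd
    decide
  · push Not at hKR
    obtain ⟨x1, hx1⟩ := hKR
    have hcomm : ∀ x, (g⁻¹ * C.fHom hf x * g) * φ c = φ c * (g⁻¹ * C.fHom hf x * g) := by
      intro x
      rw [← hz, ← C.fHom_apply hf]
      have e1 : g⁻¹ * C.fHom hf x * g * (g⁻¹ * C.fHom hf u * g) =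
        g⁻¹ * (C.fHom hf x * C.fHom hf u) * g := by group
      have e2 : g⁻¹ * C.fHom hf u * g * (g⁻¹ * C.fHom hf x * g) =
        g⁻¹ * (C.fHom hf u * C.fHom hf x) * g := by group
      rw [e1, e2, ← map_mul, ← map_mul, mul_comm]
    have D : Dat δ c φ (conjHom (C.fHom hf) g) u :=
      { inj := conjHom_inj (C.fHom_inj hf) g
        z := hz
        act := fun x => C.act _ (hcomm x)
        sym := by
          intro σ hσ hσu
          obtain ⟨k, hk, h⟩ := hf.sym σ hσ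
          have h1 : ∀ x, (g⁻¹ * φ k * g) * conjHom (C.fHom hf) g x * (g⁻¹ * φ k * g)⁻¹ =
              conjHom (C.fHom hf) g (pmE σ x) := by
            intro x
            rw [conjHom_apply, conjHom_apply, C.fHom_apply, C.fHom_apply, ← h, C.conj' hk (hf.det x)]
            group
          have h2 : (g⁻¹ * φ k * g) * φ c = φ c * (g⁻¹ * φ k * g) := by
            have h3 := h1 u
            have h4 : pmE σ u = u := Subtype.ext hσu
            rw [h4, conjHom_apply, C.fHom_apply, hz] at h3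
            exact mul_inv_eq_iff_eq_mul.1 h3
          obtain ⟨v, hv⟩ := C.act _ h2
          exact ⟨_, v, hv, h1⟩ }
    obtain ⟨w1, hw1⟩ := D.act x1
    exact D.false_of_out C E hstd ⟨x1, w1, hw1, hx1 w1 hw1⟩

/-- **Step (2)** -/
theorem iso_F [Finite G] (cF : CountF) {f : Ev →* W} (hf : IsFt δ c f) (g : G) (u : Ev)
    (hu : g * φ c * g⁻¹ = φ (f u)) : g * φ c * g⁻¹ = φ c := by
  by_contra hne
  have h1 : (u : Sg) ≠ 1 := by
    intro h
    have h2 : u = 1 := Subtype.ext h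
    rw [h2, map_one, C.one'] at hu
    apply C.z_ne E
    have : φ c = g⁻¹ * (g * φ c * g⁻¹) * g := by group
    rw [this, hu]
    group
  have h2 : (u : Sg) ≠ -1 := by
    intro h
    have h2 : u = m1 := Subtype.ext h
    rw [h2, hf.neg] at hu
    exact hne hu
  obtain ⟨σ, hσ, hstd⟩ := normal_form u.2 h1 h2
  obtain ⟨k, hk, h⟩ := hf.sym σ hσ
  refine C.iso_F_std E cF hf (φ k * g) (pmE σ u) ?_ hstd
  rw [← h, C.conj' hk (hf.det u), ← hu]
  group

end Cfg

end Cfsg.Agent.OddHalf.D9.EEight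

end

-- merged: Cfsg.Agent.OddHalf.D9.EEight.StepThree
section

/-!
# Steps (3) and (4): the groups `E` and `D`
-/

set_option autoImplicit false

namespace Cfsg.Agent.OddHalf.D9.EEight

open Subgroup Equiv

variable {W : Type*} [Group W] {δ : W →* ℤˣ} {c : W} {Rf : W → Prop}
variable {G : Type*} [Group G] {φ : W → G} {R : Subgroup G}

theorem prd_of_type {ε : Sg} (h : wt ε = 2 ∨ wt ε = 6 ∨ IsCode ε) : ε ∈ Ev := by
  rw [mem_Ev]
  rcases h with h | h | h
  · rw [prd_eq_pow, h]; decide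
  · rw [prd_eq_pow, h]; decide
  · exact h.1

/-- A lift of a frame to `G`. -/
structure IsLift (δ : W →* ℤˣ) (φ : W → G) (d : Sg →* W) (D : Sg →* G) : Prop where
  ac : ∀ ε, Ac δ φ (D ε) (d ε)
  ev : ∀ ε ∈ Ev, D ε = φ (d ε)

namespace Cfg

variable (C : Cfg δ c φ R) (E : EF δ c Rf)

include C E

/-- conjugates of `z` in a frame are not of type `2`, `6`, block -/
theorem type_ne [Finite G] (cF : CountF) {d : Sg →* W} (hd : IsFr δ c Rf d) {g : G} {ε : Sg}
    (h : g * φ c * g⁻¹ = φ (d ε)) (ht : wt ε = 2 ∨ wt ε = 6 ∨ IsCode ε) : ε = -1 := by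
  have hε := prd_of_type ht
  obtain ⟨f, hf, u, hu⟩ := E.fr_ft d hd ε hε ht
  rw [← hu] at h
  have h1 := C.iso_F E cF hf g u h
  rw [h, hu, ← hd.neg] at h1
  exact hd.inj (C.inj _ _ (hd.det_ev ⟨ε, hε⟩) (by rw [hd.neg]; exact E.c_det) h1)

theorem type_ne' [Finite G] (cF : CountF) {d : Sg →* W} (hd : IsFr δ c Rf d) {g : G} {ε : Sg}
    (h : g * φ c * g⁻¹ = φ (d ε)) : wt ε ≠ 2 ∧ wt ε ≠ 6 ∧ (IsCode ε → ε = -1) := by
  have h8 : wt (-1) = 8 := by decide
  refine ⟨fun h1 => ?_, fun h1 => ?_, fun h1 => C.type_ne E cF hd h (Or.inr (Or.inr h1))⟩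
  · have := C.type_ne E cF hd h (Or.inl h1)
    rw [this, h8] at h1
    omega
  · have := C.type_ne E cF hd h (Or.inr (Or.inl h1))
    rw [this, h8] at h1
    omega

/-- `N_G(E) ≤ C_G(z)` -/
theorem norm_E [Finite G] (cF : CountF) (cE : CountE) {d : Sg →* W} (hd : IsFr δ c Rf d) (g : G)
    (h : ∀ x, ∃ y, g * C.eHom hd x * g⁻¹ = C.eHom hd y) : g * φ c = φ c * g := by
  obtain ⟨α, hα⟩ := exists_aut (C.eHom_inj hd) h
  have h1 : α m1 = m1 := by
    refine cE (autBy (C.eHom hd)) (C.code_mem hd) ?_ α ⟨g, hα⟩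
    rintro β ⟨n, hn⟩
    have h2 := hn m1
    rw [C.eHom_m1, C.eHom_apply] at h2
    obtain ⟨a, b, c⟩ := C.type_ne' E cF hd h2
    exact ⟨a, b, fun h => Subtype.ext (c h)⟩
  have h2 := hα m1
  rw [h1, C.eHom_m1, conj_eq_iff_comm] at h2
  exact h2

/-- **Step (3)** -/
theorem iso_E [Finite G] (cF : CountF) (cE : CountE) {d : Sg →* W} (hd : IsFr δ c Rf d)
    (hno : ∀ h : G, h * h = 1 → ∀ w, Ac δ φ h w → δ w = 1) (g : G) {ε : Sg} (hε : ε ∈ Ev)
    (hu : g * φ c * g⁻¹ = φ (d ε)) : g * φ c * g⁻¹ = φ c := by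
  have hz : g⁻¹ * φ (d ε) * g = φ c := by rw [← hu]; group
  have h1 := C.iso_of_kr E (C.eHom_inj hd) (C.eHom_m1 hd) (C.norm_E E cF cE hd) g (by
    intro x
    have h2 : (g⁻¹ * C.eHom hd x * g) * φ c = φ c * (g⁻¹ * C.eHom hd x * g) := by
      have e0 : φ (d ε) = C.eHom hd ⟨ε, hε⟩ := rfl
      rw [← hz, e0]
      have e1 : g⁻¹ * C.eHom hd x * g * (g⁻¹ * C.eHom hd ⟨ε, hε⟩ * g) =
        g⁻¹ * (C.eHom hd x * C.eHom hd ⟨ε, hε⟩) * g := by group
      have e2 : g⁻¹ * C.eHom hd ⟨ε, hε⟩ * g * (g⁻¹ * C.eHom hd x * g) =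
        g⁻¹ * (C.eHom hd ⟨ε, hε⟩ * C.eHom hd x) * g := by group
      rw [e1, e2, ← map_mul, ← map_mul, mul_comm]
    obtain ⟨w, hw⟩ := C.act _ h2
    refine ⟨w, hw, hno _ ?_ w hw⟩
    have e3 : g⁻¹ * C.eHom hd x * g * (g⁻¹ * C.eHom hd x * g) =
      g⁻¹ * (C.eHom hd x * C.eHom hd x) * g := by group
    rw [e3, ← map_mul, ev_sq, map_one]
    group)
  conv_lhs => rw [← h1]
  group

/-! ### Lifts -/

omit E in
theorem exists_lift {d : Sg →* W} (hd : IsFr δ c Rf d) {b : G} {η : Sg} (hb : b * b = 1)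
    (hη : prd η = -1) (hbη : Ac δ φ b (d η)) : ∃ D : Sg →* G, IsLift δ φ d D ∧ D η = b := by
  have hcomm : ∀ ε ∈ Ev, b * φ (d ε) = φ (d ε) * b := by
    intro ε hε
    have h := hbη _ (hd.det_ev ⟨ε, hε⟩)
    have e1 : d η * d ε * (d η)⁻¹ = d ε := by
      rw [← map_mul, mul_comm η ε, map_mul, mul_inv_cancel_right]
    have h' : b * φ (d ε) * b⁻¹ = φ (d ε) := by
      have e2 : d η * d ((⟨ε, hε⟩ : Ev) : Sg) * (d η)⁻¹ = d ε := e1
      rw [e2] at h
      exact h
    exact mul_inv_eq_iff_eq_mul.1 h'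
  have hmul : ∀ ε ζ : Sg, ε ∈ Ev → ζ ∈ Ev → φ (d (ε * ζ)) = φ (d ε) * φ (d ζ) := by
    intro ε ζ hε hζ
    rw [map_mul, C.mul _ _ (hd.det_ev ⟨ε, hε⟩) (hd.det_ev ⟨ζ, hζ⟩)]
  have hodd : ∀ ε : Sg, ε ∉ Ev → η * ε ∈ Ev := by
    intro ε hε
    rw [mem_Ev] at hε ⊢
    rw [map_mul, hη]
    rcases Int.units_eq_one_or (prd ε) with h | h
    · exact absurd h hε
    · rw [h]; decide
  have hηη : η * η = 1 := sq_one η
  let D : Sg →* G :=
    { toFun := fun ε => if ε ∈ Ev then φ (d ε) else b * φ (d (η * ε))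
      map_one' := by
        rw [if_pos Ev.one_mem, map_one, C.one']
      map_mul' := by
        intro ε ζ
        by_cases h1 : ε ∈ Ev <;> by_cases h2 : ζ ∈ Ev
        · rw [if_pos h1, if_pos h2, if_pos (Ev.mul_mem h1 h2), hmul _ _ h1 h2]
        · have h3 : ε * ζ ∉ Ev := fun h => h2 ((Ev.mul_mem_cancel_left h1).1 h)
          rw [if_pos h1, if_neg h2, if_neg h3, ← mul_assoc (φ (d ε)), ← hcomm ε h1, mul_assoc b,
            ← hmul _ _ h1 (hodd _ h2), mul_left_comm ε η ζ]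
        · have h3 : ε * ζ ∉ Ev := fun h => h1 ((Ev.mul_mem_cancel_right h2).1 h)
          rw [if_neg h1, if_pos h2, if_neg h3, mul_assoc, ← hmul _ _ (hodd _ h1) h2, mul_assoc]
        · have h3 : ε * ζ ∈ Ev := by
            have := Ev.mul_mem (hodd _ h1) (hodd _ h2)
            have e : η * ε * (η * ζ) = ε * ζ := by
              have : η * ε * (η * ζ) = (η * η) * (ε * ζ) := by
                simp only [mul_assoc, mul_left_comm]
              rw [this, hηη, one_mul]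
            rwa [e] at this
          rw [if_neg h1, if_neg h2, if_pos h3]
          have e : ε * ζ = η * ε * (η * ζ) := by
            have : η * ε * (η * ζ) = (η * η) * (ε * ζ) := by
              simp only [mul_assoc, mul_left_comm]
            rw [this, hηη, one_mul]
          rw [e, hmul _ _ (hodd _ h1) (hodd _ h2), mul_assoc b, ← mul_assoc (φ (d (η * ε))) b,
            ← hcomm _ (hodd _ h1), mul_assoc b, ← mul_assoc b, hb, one_mul] }
  refine ⟨D, ⟨?_, ?_⟩, ?_⟩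
  · intro ε
    by_cases h1 : ε ∈ Ev
    · have : D ε = φ (d ε) := if_pos h1
      rw [this]
      exact C.ac_phi (hd.det_ev ⟨ε, h1⟩)
    · have : D ε = b * φ (d (η * ε)) := if_neg h1
      rw [this]
      have h2 := hbη.mul (C.ac_phi (hd.det_ev ⟨η * ε, hodd _ h1⟩))
      have e : d η * d ((⟨η * ε, hodd _ h1⟩ : Ev) : Sg) = d ε := by
        rw [← map_mul, ← mul_assoc, hηη, one_mul]
      rw [e] at h2
      exact h2
  · intro ε hε
    exact if_pos hε
  · have h1 : η ∉ Ev := by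
      rw [mem_Ev, hη]
      decide
    have : D η = b * φ (d (η * η)) := if_neg h1
    rw [this, hηη, map_one, C.one', mul_one]

end Cfg

/-! ### Properties of lifts -/

section lifts

variable (C : Cfg δ c φ R) (E : EF δ c Rf) {d : Sg →* W} (hd : IsFr δ c Rf d) {D : Sg →* G}
  (hD : IsLift δ φ d D)

include C E hd hD

omit C E in
theorem lift_neg : D (-1) = φ c := by
  have h : (-1 : Sg) ∈ Ev := m1.2
  rw [hD.ev _ h, hd.neg]

theorem lift_inj : Function.Injective D := by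
  rw [injective_iff_map_eq_one]
  intro ε hε
  have h1 := hD.ac ε
  rw [hε] at h1
  rcases C.ac_uniq E Ac.one h1 with h2 | h2
  · exact hd.inj (by rw [h2, map_one])
  · rw [mul_one, ← hd.neg] at h2
    have h3 := hd.inj h2
    rw [h3, lift_neg hd hD] at hε
    exact absurd hε (C.z_ne E)

omit E in
/-- `AGL₃(2) ≤ Aut_G(D)` -/
theorem lift_sym (σ : Perm (Fin 8)) (hσ : AutCode σ) : (pm σ : MulAut Sg) ∈ autBy D := by
  obtain ⟨k, hk, h⟩ := hd.sym σ hσ
  refine ⟨φ k, fun ε => ?_⟩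
  have hk' : δ k⁻¹ = 1 := by rw [map_inv, hk, inv_one]
  have hev : ε⁻¹ * pm σ ε ∈ Ev := by
    rw [mem_Ev, map_mul, prd_pm, map_inv, inv_mul_cancel]
  have h1 : φ k * D ε * (φ k)⁻¹ = D ε * ((D ε)⁻¹ * φ k * (D ε)⁻¹⁻¹ * φ k⁻¹) := by
    rw [C.inv' hk]
    group
  have h2 := (hD.ac ε).inv k hk
  have h3 : (d ε)⁻¹ * k * (d ε)⁻¹⁻¹ * k⁻¹ = d (ε⁻¹ * pm σ ε) := by
    rw [map_mul, ← h, map_inv]
    group
  rw [h1, h2, ← C.mul _ _ (det_conj hk) hk', h3, ← hD.ev _ hev, ← map_mul, mul_inv_cancel_left]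

omit E in
theorem lift_fixed (y : Sg) (h : ∀ α ∈ autBy D, α y = y) : y = 1 ∨ y = -1 :=
  fixed_tr (h _ (lift_sym C hd hD _ tr_code1)) (h _ (lift_sym C hd hD _ tr_code2))
    (h _ (lift_sym C hd hD _ tr_code4))

/-- `N_G(D) ≤ C_G(z)` -/
theorem norm_D [Finite G] (cF : CountF) (cD : CountD) (g : G)
    (h : ∀ x, ∃ y, g * D x * g⁻¹ = D y) : g * φ c = φ c * g := by
  obtain ⟨α, hα⟩ := exists_aut (lift_inj C E hd hD) h
  have h1 : α (-1) = -1 := by
    refine cD (autBy D) (lift_sym C hd hD) ?_ ?_ α ⟨g, hα⟩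
    · rintro β ⟨n, hn⟩ hβ
      have h2 := hn (-1)
      rw [hβ, lift_neg hd hD, conj_eq_iff_comm] at h2
      obtain ⟨w, hw⟩ := C.act n h2
      have hev : ∀ ε ∈ Ev, β ε ∈ Ev ∧ w * d ε * w⁻¹ = d (β ε) := by
        intro ε hε
        have h3 := (Ac.mul hw (hD.ac ε)).mul (Ac.inv hw)
        rw [hn] at h3
        have h4 := C.ac_det E h3 (hD.ac (β ε))
        have hβε : β ε ∈ Ev := by
          rw [mem_Ev, ← hd.det, ← h4]
          exact det_conj (hd.det_ev ⟨ε, hε⟩)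
        refine ⟨hβε, ?_⟩
        have h5 := hw _ (hd.det_ev ⟨ε, hε⟩)
        have h6 : n * φ (d ε) * n⁻¹ = φ (d (β ε)) := by
          rw [← hD.ev _ hε, hn, hD.ev _ hβε]
        exact C.inj _ _ (det_conj (hd.det_ev ⟨ε, hε⟩)) (hd.det_ev ⟨_, hβε⟩) (h5.symm.trans h6)
      obtain ⟨σ, hσ, hσd⟩ := hd.nrm w (fun ε hε => ⟨β ε, (hev ε hε).1, (hev ε hε).2⟩)
      refine ⟨σ, hσ, fun ε hε => ?_⟩
      apply hd.inj
      rw [← hσd, (hev ε hε).2]
    · rintro β ⟨n, hn⟩
      have h2 := hn (-1)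
      rw [lift_neg hd hD] at h2
      have key : β (-1) ∈ Ev → n * φ c * n⁻¹ = φ (d (β (-1))) := by
        intro hev
        rw [h2, hD.ev _ hev]
      refine ⟨fun h3 => ?_, fun h3 => ?_, fun h3 => ?_⟩
      · exact (C.type_ne' E cF hd (key (prd_of_type (Or.inl h3)))).1 h3
      · exact (C.type_ne' E cF hd (key (prd_of_type (Or.inr (Or.inl h3))))).2.1 h3
      · exact (C.type_ne' E cF hd (key (prd_of_type (Or.inr (Or.inr h3))))).2.2 h3
  have h2 := hα (-1)
  rw [h1, lift_neg hd hD, conj_eq_iff_comm] at h2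
  exact h2

end lifts

section

variable (C : Cfg δ c φ R) (E : EF δ c Rf)

include C E

/-- Every elementary abelian subgroup of order `2⁸` of `C_G(z)` is a lift. -/
theorem exists_lift_eq [Finite G] {M : Subgroup G} (hM : IsEl M) (hcard : Nat.card M = 2 ^ 8)
    (hMz : ∀ h ∈ M, h * φ c = φ c * h) :
    ∃ (d : Sg →* W) (D : Sg →* G), IsFr δ c Rf d ∧ IsLift δ φ d D ∧ D.range = M := by
  let M₁ : Subgroup G :=
    { carrier := {h | h ∈ M ∧ ∃ w, Ac δ φ h w ∧ δ w = 1}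
      one_mem' := ⟨M.one_mem, 1, Ac.one, map_one δ⟩
      mul_mem' := by
        rintro a b ⟨ha, v, hv, hv1⟩ ⟨hb, w, hw, hw1⟩
        exact ⟨M.mul_mem ha hb, v * w, hv.mul hw, by rw [map_mul, hv1, hw1, one_mul]⟩
      inv_mem' := by
        rintro a ⟨ha, v, hv, hv1⟩
        exact ⟨M.inv_mem ha, v⁻¹, hv.inv, by rw [map_inv, hv1, inv_one]⟩ }
  have hel : IsEl M₁ :=
    ⟨fun x hx => hM.1 x hx.1, fun x hx y hy => hM.2 x hx.1 y hy.1⟩
  have hle := card_le_two_mul M M₁ (by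
    intro a ha ha1 b hb hb1
    refine ⟨M.mul_mem ha hb, ?_⟩
    obtain ⟨v, hv⟩ := C.act a (hMz a ha)
    obtain ⟨w, hw⟩ := C.act b (hMz b hb)
    have h1 : δ v = -1 := by
      rcases Int.units_eq_one_or (δ v) with h | h
      · exact absurd ⟨ha, v, hv, h⟩ ha1
      · exact h
    have h2 : δ w = -1 := by
      rcases Int.units_eq_one_or (δ w) with h | h
      · exact absurd ⟨hb, w, hw, h⟩ hb1
      · exact h
    refine ⟨v * w, Ac.mul hv hw, ?_⟩
    rw [map_mul, h1, h2]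
    decide)
  have hK := C.el_in_K E hel (fun h hh => hh.2) (by omega)
  have hpre : C.pre M₁ = C.pre M := by
    ext k
    constructor
    · rintro ⟨hk, hk1⟩
      exact ⟨hk, hk1.1⟩
    · rintro ⟨hk, hk1⟩
      exact ⟨hk, hk1, k, C.ac_phi hk, hk⟩
  have hkp : C.kpart M₁ = M₁ := le_antisymm (C.kpart_le _) (fun h hh => ⟨hh, hK h hh⟩)
  have hc1 : Nat.card (C.pre M) = Nat.card M₁ := by rw [← hpre, C.card_pre, hkp]
  have hc2 : Nat.card (C.pre M) ≤ 2 ^ 7 := E.card_le _ (C.pre_le M) (C.pre_el hM)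
  have hc3 : Nat.card (C.pre M) = 2 ^ 7 := by omega
  have hnot : ¬ M ≤ M₁ := by
    intro h
    have := Subgroup.card_le_of_le h
    omega
  obtain ⟨b, hbM, hb1⟩ := SetLike.not_le_iff_exists.1 hnot
  obtain ⟨w, hw⟩ := C.act b (hMz b hbM)
  have hδw : δ w = -1 := by
    rcases Int.units_eq_one_or (δ w) with h | h
    · exact absurd ⟨hbM, w, hw, h⟩ hb1
    · exact h
  have hwc : ∀ k ∈ C.pre M, w * k = k * w := by
    rintro k ⟨hk, hkM⟩
    have h1 := hw k hk
    rw [hM.2 b hbM _ hkM, mul_inv_cancel_right] at h1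
    have h2 := C.inj _ _ hk (det_conj hk) h1
    exact mul_inv_eq_iff_eq_mul.1 h2.symm
  rcases E.two_types _ (C.pre_le M) (C.pre_el hM) hc3 with ⟨d, hd, hdM⟩ | ⟨f, hf, hfM⟩
  · obtain ⟨η, rfl⟩ := hd.cen w (by
      intro ε hε
      apply hwc
      rw [hdM]
      exact ⟨ε, hε, rfl⟩)
    rw [hd.det] at hδw
    obtain ⟨D, hD, hDη⟩ := C.exists_lift hd (hM.1 b hbM) hδw hw
    refine ⟨d, D, hd, hD, ?_⟩
    have hev : ∀ ε ∈ Ev, D ε ∈ M := by
      intro ε hε
      rw [hD.ev ε hε]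
      have : d ε ∈ C.pre M := by rw [hdM]; exact ⟨ε, hε, rfl⟩
      exact this.2
    have hle : D.range ≤ M := by
      rintro _ ⟨ε, rfl⟩
      by_cases hε : ε ∈ Ev
      · exact hev ε hε
      · have h1 : η * ε ∈ Ev := by
          rw [mem_Ev] at hε ⊢
          rw [map_mul, hδw]
          rcases Int.units_eq_one_or (prd ε) with h | h
          · exact absurd h hε
          · rw [h]; decide
        have h2 : D ε = D η * D (η * ε) := by
          rw [← map_mul, ← mul_assoc, sq_one, one_mul]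
        rw [h2, hDη]
        exact M.mul_mem hbM (hev _ h1)
    have hcD : Nat.card D.range = 2 ^ 8 := by
      rw [← card_Sg]
      exact (Nat.card_congr (MonoidHom.ofInjective (lift_inj C E hd hD)).toEquiv).symm
    exact Subgroup.eq_of_le_of_card_ge hle (by rw [hcD, hcard])
  · exfalso
    obtain ⟨y, rfl⟩ := hf.cen w (by
      intro ε
      apply hwc
      rw [hfM]
      exact ⟨ε, rfl⟩)
    rw [hf.det] at hδw
    exact absurd hδw (by decide)

/-- **Step (4)** -/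
theorem iso_D [Finite G] (cF : CountF) (cD : CountD) {d : Sg →* W} (hd : IsFr δ c Rf d)
    {D : Sg →* G} (hD : IsLift δ φ d D) (g : G) {u : Sg} (hu : g * φ c * g⁻¹ = D u) :
    g * φ c * g⁻¹ = φ c := by
  have hinj := lift_inj C E hd hD
  have hz : g⁻¹ * D u * g = φ c := by rw [← hu]; group
  obtain ⟨d', D', hd', hD', hM⟩ := exists_lift_eq C E (M := (conjHom D g).range) (by
      constructor
      · rintro _ ⟨x, rfl⟩
        rw [← map_mul, sq_one, map_one]
      · rintro _ ⟨x, rfl⟩ _ ⟨y, rfl⟩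
        rw [← map_mul, ← map_mul, mul_comm])
    (by
      rw [← card_Sg]
      exact (Nat.card_congr (MonoidHom.ofInjective (conjHom_inj hinj g)).toEquiv).symm)
    (by
      rintro _ ⟨x, rfl⟩
      have : φ c = conjHom D g u := hz.symm
      rw [this, ← map_mul, ← map_mul, mul_comm])
  have hM' : ∀ h, (∃ x, conjHom D g x = h) ↔ ∃ y, D' y = h := by
    intro h
    have h1 : h ∈ (conjHom D g).range ↔ h ∈ D'.range := by rw [hM]
    exact h1
  have h1 := lemmaP (lift_inj C E hd' hD') (C.z_ne E) (-1) (lift_neg hd hD)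
    (norm_D C E hd hD cF cD) (-1) (lift_neg hd' hD') (lift_fixed C hd' hD') g
    (fun x => by
      obtain ⟨y, hy⟩ := (hM' _).1 ⟨x, rfl⟩
      exact ⟨y, hy.symm⟩)
    (fun y => by
      obtain ⟨x, hx⟩ := (hM' _).2 ⟨y, rfl⟩
      refine ⟨x, ?_⟩
      rw [← hx, conjHom_apply]
      group)
  conv_lhs => rw [← h1]
  group

end

end Cfsg.Agent.OddHalf.D9.EEight

end

-- merged: Cfsg.Agent.OddHalf.D9.EEight.AutC
section

/-!
# Automorphisms of `K₀` map frames to frames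
-/

set_option autoImplicit false

namespace Cfsg.Agent.OddHalf.D9.EEight

open Equiv Subgroup Counts

variable {W : Type*} [Group W] {δ : W →* ℤˣ} {c : W} {Rf : W → Prop}

/-- the image of a frame group under an automorphism of the kernel -/
def imHom (α : MulAut δ.ker) {d : Sg →* W} (hd : IsFr δ c Rf d) : Ev →* W where
  toFun ε := (α ⟨d ε, hd.det_ev ε⟩ : δ.ker)
  map_one' := by
    have : (⟨d ((1 : Ev) : Sg), hd.det_ev 1⟩ : δ.ker) = 1 := Subtype.ext (map_one d)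
    rw [this, map_one]
    rfl
  map_mul' x y := by
    have : (⟨d ((x * y : Ev) : Sg), hd.det_ev (x * y)⟩ : δ.ker) =
      ⟨d x, hd.det_ev x⟩ * ⟨d y, hd.det_ev y⟩ := Subtype.ext (map_mul d _ _)
    rw [this, map_mul]
    rfl

theorem imHom_apply (α : MulAut δ.ker) {d : Sg →* W} (hd : IsFr δ c Rf d) (ε : Ev) :
    imHom α hd ε = (α ⟨d ε, hd.det_ev ε⟩ : δ.ker) := rfl

theorem imHom_det (α : MulAut δ.ker) {d : Sg →* W} (hd : IsFr δ c Rf d) (ε : Ev) :
    δ (imHom α hd ε) = 1 := (α ⟨d ε, hd.det_ev ε⟩).2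

theorem imHom_inj (α : MulAut δ.ker) {d : Sg →* W} (hd : IsFr δ c Rf d) :
    Function.Injective (imHom α hd) := by
  intro x y hxy
  have h1 : (⟨d x, hd.det_ev x⟩ : δ.ker) = ⟨d y, hd.det_ev y⟩ := α.injective (Subtype.ext hxy)
  exact Subtype.ext (hd.inj (congrArg Subtype.val h1))

theorem imHom_sym (α : MulAut δ.ker) {d : Sg →* W} (hd : IsFr δ c Rf d) {σ : Perm (Fin 8)}
    (hσ : AutCode σ) : ∃ h : W, δ h = 1 ∧ ∀ ε, h * imHom α hd ε * h⁻¹ = imHom α hd (pmE σ ε) := by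
  obtain ⟨k, hk, hk'⟩ := hd.sym σ hσ
  refine ⟨(α ⟨k, hk⟩ : δ.ker), (α ⟨k, hk⟩).2, fun ε => ?_⟩
  have h1 : (⟨k, hk⟩ : δ.ker) * ⟨d ε, hd.det_ev ε⟩ * (⟨k, hk⟩ : δ.ker)⁻¹ =
      ⟨d (pmE σ ε : Ev), hd.det_ev _⟩ := Subtype.ext (hk' ε)
  rw [imHom_apply, imHom_apply, ← h1, map_mul, map_mul, map_inv]
  rfl

/-- automorphisms fix `c` -/
theorem aut_c (E : EF δ c Rf) (α : MulAut δ.ker) : α ⟨c, E.c_det⟩ = ⟨c, E.c_det⟩ := by
  have h1 : ∀ k : W, δ k = 1 → ((α ⟨c, E.c_det⟩ : δ.ker) : W) * k = k * (α ⟨c, E.c_det⟩ : δ.ker) := by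
    intro k hk
    have h2 : α (⟨c, E.c_det⟩ * (α⁻¹ ⟨k, hk⟩)) = α ((α⁻¹ ⟨k, hk⟩) * ⟨c, E.c_det⟩) := by
      congr 1
      exact Subtype.ext (E.c_comm _)
    rw [map_mul, map_mul, MulAut.apply_inv_self] at h2
    exact congrArg Subtype.val h2
  rcases E.cenK _ h1 with h2 | h2
  · exfalso
    have h3 : α ⟨c, E.c_det⟩ = 1 := Subtype.ext h2
    have h4 : (⟨c, E.c_det⟩ : δ.ker) = 1 := by
      rw [← map_one α] at h3
      exact α.injective h3
    exact E.c_ne (congrArg Subtype.val h4)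
  · exact Subtype.ext h2

theorem imHom_m1 (E : EF δ c Rf) (α : MulAut δ.ker) {d : Sg →* W} (hd : IsFr δ c Rf d) :
    imHom α hd m1 = c := by
  rw [imHom_apply]
  have h1 : (⟨d ((m1 : Ev) : Sg), hd.det_ev m1⟩ : δ.ker) = ⟨c, E.c_det⟩ := Subtype.ext hd.neg
  rw [h1, aut_c E]

theorem exists_aut_of_range {P Q : Ev →* W} (hP : Function.Injective P) (hQ : Function.Injective Q)
    (h : ∀ ε, ∃ η, Q ε = P η) : ∃ β : MulAut Ev, ∀ ε, Q ε = P (β ε) := by
  choose a ha using h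
  let β : Ev →* Ev :=
    { toFun := a
      map_one' := by
        apply hP
        rw [← ha, map_one, map_one]
      map_mul' := fun x y => by
        apply hP
        rw [← ha, map_mul, map_mul, ha, ha] }
  have hinj : Function.Injective β := by
    intro x y hxy
    apply hQ
    rw [ha, ha]
    exact congrArg P hxy
  exact ⟨MulEquiv.ofBijective β ⟨hinj, Finite.injective_iff_surjective.1 hinj⟩, fun x => ha x⟩

theorem wt_ne_of {y : Sg} (h1 : y ∈ Ev) (h2 : y ≠ 1) (h3 : y ≠ -1) :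
    14 < (Finset.univ.filter (fun e : Sg => wt e = wt y)).card := by
  revert y
  decide +kernel

theorem u4_facts : u4 ≠ 1 ∧ u4 ≠ -1 ∧ cls u4 = 9 ∧ u4 ∈ Ev := by decide +kernel

/-- an `F`-group is not the image of an `E`-group -/
theorem not_ft (E : EF δ c Rf) (α : MulAut δ.ker) {d : Sg →* W} (hd : IsFr δ c Rf d) {f : Ev →* W}
    (hf : IsFt δ c f) (hfd : ∀ ε, ∃ η, imHom α hd ε = f η) : False := by
  obtain ⟨β, hβ⟩ := exists_aut_of_range hf.inj (imHom_inj α hd) hfd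
  -- conjugation by the even permutations, transported back
  have key : ∀ σ : Perm (Fin 8), Perm.sign σ = 1 → ∀ x : Ev,
      cls ((β⁻¹ (pmE σ (β x)) : Ev) : Sg) = cls (x : Sg) := by
    intro σ hσ x
    obtain ⟨k, hk, hk'⟩ := hf.sym σ hσ
    have h1 : ∀ ε : Ev, ((α⁻¹ ⟨k, hk⟩ : δ.ker) : W) * d ε * ((α⁻¹ ⟨k, hk⟩ : δ.ker) : W)⁻¹ =
        d (β⁻¹ (pmE σ (β ε)) : Ev) := by
      intro ε
      have h2 : α ((α⁻¹ ⟨k, hk⟩) * ⟨d ε, hd.det_ev ε⟩ * (α⁻¹ ⟨k, hk⟩)⁻¹) =
          α ⟨d (β⁻¹ (pmE σ (β ε)) : Ev), hd.det_ev _⟩ := by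
        rw [map_mul, map_mul, map_inv, MulAut.apply_inv_self]
        apply Subtype.ext
        have h3 := hβ ε
        have h4 := hβ (β⁻¹ (pmE σ (β ε)))
        rw [imHom_apply] at h3 h4
        rw [MulAut.apply_inv_self] at h4
        show k * (α ⟨d ε, hd.det_ev ε⟩ : δ.ker) * k⁻¹ = _
        rw [h3, h4, hk']
      exact congrArg Subtype.val (α.injective h2)
    obtain ⟨τ, hτ, hτd⟩ := hd.nrm _ (fun ε hε => ⟨_, (β⁻¹ (pmE σ (β ⟨ε, hε⟩)) : Ev).2, h1 ⟨ε, hε⟩⟩)
    have h3 := h1 x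
    rw [hτd] at h3
    rw [← hd.inj h3, cls_pm hτ]
  -- the element `u4` has a small orbit
  let x0 : Ev := ⟨u4, u4_facts.2.2.2⟩
  have hy : 14 < (Finset.univ.filter (fun e : Sg => wt e = wt (β x0 : Sg))).card := by
    apply wt_ne_of (β x0).2
    · intro h
      have h1 : β x0 = 1 := Subtype.ext h
      have h2 : x0 = 1 := by rw [← map_one β] at h1; exact β.injective h1
      exact u4_facts.1 (congrArg Subtype.val h2)
    · intro h
      have h1 : β x0 = m1 := Subtype.ext h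
      have h2 : β m1 = m1 := by
        apply hf.inj
        rw [← hβ, imHom_m1 E, hf.neg]
      rw [← h2] at h1
      exact u4_facts.2.1 (congrArg Subtype.val (β.injective h1))
  have h14 := card_cls 9 (by norm_num)
  have hle : (Finset.univ.filter (fun e : Sg => wt e = wt (β x0 : Sg))).card ≤
      (Finset.univ.filter (fun e : Sg => cls e = 9)).card := by
    have hEv : ∀ y : Sg, wt y = wt (β x0 : Sg) → y ∈ Ev := by
      intro y hy
      rw [mem_Ev, prd_eq_pow, hy, ← prd_eq_pow]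
      exact (β x0).2
    apply card_le_of_map (ext β⁻¹)
    · intro y hy
      rw [ext_eq _ (hEv y hy)]
      obtain ⟨σ, hσ, hσy⟩ := exists_even_perm (ε := (β x0 : Sg)) (η := y) hy.symm
      have h1 : pmE σ (β x0) = ⟨y, hEv y hy⟩ := Subtype.ext hσy
      have h2 := key σ hσ x0
      rw [h1] at h2
      rw [h2]
      exact u4_facts.2.2.1
    · intro y z hy hz hyz
      exact ext_inj _ (hEv y hy) (hEv z hz) hyz
  rw [h14] at hle
  have : (![1, 8, 28, 56, 56, 56, 28, 8, 1, 14] : Fin 10 → ℕ) (Fin.ofNat 10 9) = 14 := rfl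
  rw [this] at hle
  omega

/-- **The image of a frame is a frame.** -/
theorem frame_map (E : EF δ c Rf) (α : MulAut δ.ker) {d : Sg →* W} (hd : IsFr δ c Rf d) :
    ∃ d' : Sg →* W, IsFr δ c Rf d' ∧ ∃ k : W, δ k = 1 ∧
      ∀ ε : Ev, (α ⟨d ε, hd.det_ev ε⟩ : W) = k * d' ε * k⁻¹ := by
  have hQ := imHom_inj α hd
  have hcard : Nat.card (imHom α hd).range = 2 ^ 7 := by
    rw [← card_Ev]
    exact (Nat.card_congr (MonoidHom.ofInjective hQ).toEquiv).symm
  rcases E.two_types (imHom α hd).range (by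
      rintro _ ⟨ε, rfl⟩
      exact imHom_det α hd ε) (by
      constructor
      · rintro _ ⟨x, rfl⟩
        rw [← map_mul, ev_sq, map_one]
      · rintro _ ⟨x, rfl⟩ _ ⟨y, rfl⟩
        rw [← map_mul, ← map_mul, mul_comm]) hcard with ⟨d', hd', hM⟩ | ⟨f, hf, hM⟩
  · obtain ⟨β, hβ⟩ := exists_aut_of_range (P := d'.comp Ev.subtype)
      (hd'.inj.comp Subtype.val_injective) hQ (by
        intro ε
        have h1 : imHom α hd ε ∈ Ev.map d' := by rw [← hM]; exact ⟨ε, rfl⟩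
        obtain ⟨η, hη, h2⟩ := h1
        exact ⟨⟨η, hη⟩, h2.symm⟩)
    have hβ' : ∀ ε, imHom α hd ε = d' (β ε : Ev) := hβ
    obtain ⟨π, hπ, hπβ⟩ := exists_code_perm β (by
      intro σ hσ
      obtain ⟨h, hh, hh'⟩ := imHom_sym α hd hσ
      obtain ⟨τ, hτ, hτd⟩ := hd'.nrm h (by
        intro η hη
        refine ⟨_, (β (pmE σ (β⁻¹ ⟨η, hη⟩)) : Ev).2, ?_⟩
        have h1 := hh' (β⁻¹ ⟨η, hη⟩)
        rw [hβ', hβ', MulAut.apply_inv_self] at h1
        exact h1)
      refine ⟨τ, hτ, fun x => ?_⟩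
      apply Subtype.ext
      apply hd'.inj
      rw [← hβ', ← hh', hβ', hτd]
      rfl)
    obtain ⟨k, hk, hk'⟩ := hd'.sym π hπ
    refine ⟨d', hd', k, hk, fun ε => ?_⟩
    rw [hk', ← hπβ]
    exact hβ' ε
  · exfalso
    refine not_ft E α hd hf (fun ε => ?_)
    have h1 : imHom α hd ε ∈ f.range := by rw [← hM]; exact ⟨ε, rfl⟩
    obtain ⟨η, h2⟩ := h1
    exact ⟨η, h2.symm⟩

end Cfsg.Agent.OddHalf.D9.EEight

end
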